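import Mathlib
import Cfsg.Agent.Lib.BoundedPresentation.Pres

/-!
Choosing, sharing and adding named generators of a bounded presentation.
-/

set_option autoImplicit false

namespace Cfsg.Agent.Lib.BoundedPresentation

open Subgroup

universe u v w

namespace Pres

variable {ι : Type} {H : Type u} [Group H] {N : ι → H} {r : ℕ}

/-- A generating part of the named elements needs no further relators. -/
theorem restrict (h : Pres N r) {κ : Type} {f : κ → ι} (hf : Function.Injective f)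
    (hgen : closure (Set.range fun k => N (f k)) = ⊤) : Pres (fun k => N (f k)) r := by
  classical
  obtain ⟨R, hc, h1, h2⟩ := h
  choose U hU using fun i => exists_word hgen (N i)
  let U' : ι → FreeGroup κ := fun i => if hi : ∃ k, f k = i then FreeGroup.of hi.choose else U i
  have hU' : ∀ i, FreeGroup.lift (fun k => N (f k)) (U' i) = N i := fun i => by
    by_cases hi : ∃ k, f k = i
    · simp only [U', dif_pos hi, FreeGroup.lift_apply_of, hi.choose_spec]
    · simp only [U', dif_neg hi, hU]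
  refine ⟨R.image (FreeGroup.lift U'), Finset.card_image_le.trans hc, ?_, ?_⟩
  · intro x hx
    obtain ⟨z, hz, rfl⟩ := Finset.mem_image.1 hx
    rw [lift_lift]; simp only [hU']; exact h1 z hz
  · intro G _ y hy
    obtain ⟨ψ, hψ⟩ := h2 G (fun i => FreeGroup.lift y (U' i)) fun x hx => by
      rw [← lift_lift]; exact hy _ (Finset.mem_image_of_mem _ hx)
    refine ⟨ψ, fun k => ?_⟩
    have hi : ∃ k', f k' = f k := ⟨k, rfl⟩
    rw [hψ]
    simp only [U', dif_pos hi, FreeGroup.lift_apply_of, hf hi.choose_spec]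

/-- One more named element costs one relator. -/
theorem pad (h : Pres N r) (hgen : closure (Set.range N) = ⊤) (g : H) :
    Pres (fun i : Option ι => i.elim g N) (r + 1) := by
  classical
  obtain ⟨R, W, hc, h1, hW, h2⟩ := h.words hgen
  refine ⟨insert (FreeGroup.of none * (FreeGroup.map some (W g))⁻¹) (R.image (FreeGroup.map some)),
    (Finset.card_insert_le _ _).trans (Nat.succ_le_succ (Finset.card_image_le.trans hc)), ?_, ?_⟩
  · intro x hx
    rcases Finset.mem_insert.1 hx with rfl | hx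
    · rw [map_mul, map_inv, FreeGroup.lift_apply_of, lift_map_comp, mul_inv_eq_one]
      exact (hW g).symm
    · obtain ⟨z, hz, rfl⟩ := Finset.mem_image.1 hx
      rw [lift_map_comp]; exact h1 z hz
  · intro G _ y hy
    obtain ⟨ψ, hψ, hψW⟩ := h2 G (y ∘ some) fun z hz => by
      rw [← lift_map_comp]; exact hy _ (Finset.mem_insert_of_mem (Finset.mem_image_of_mem _ hz))
    refine ⟨ψ, fun i => ?_⟩
    cases i with
    | none =>
      have := hy _ (Finset.mem_insert_self _ _)
      rw [map_mul, map_inv, FreeGroup.lift_apply_of, lift_map_comp, mul_inv_eq_one] at this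
      show ψ g = y none
      rw [this, hψW]
    | some i => exact hψ i

/-- A list of named elements of the right length. -/
theorem exists_rels_fin [Fintype ι] {n : ℕ} (h : Pres N r) (hgen : closure (Set.range N) = ⊤)
    (hn : Fintype.card ι = n) :
    ∃ R : Finset (FreeGroup (Fin n)), R.card ≤ r ∧ Nonempty (PresentedGroup (↑R : Set (FreeGroup (Fin n))) ≃* H) := by
  let e : Fin n ≃ ι := (Fintype.equivFinOfCardEq hn).symm
  have hg : closure (Set.range fun k => N (e k)) = ⊤ := by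
    rw [show (Set.range fun k => N (e k)) = Set.range N from e.surjective.range_comp N]; exact hgen
  exact (h.restrict e.injective hg).exists_rels hg

end Pres

/-- Two components with one shared named element. -/
theorem combine_shared {ι₁ ι₂ : Type} {G₁ : Type v} {G₂ : Type w} {H : Type u} [Group G₁] [Group G₂] [Group H]
    {N₁ : ι₁ → G₁} {N₂ : ι₂ → G₂} {r₁ r₂ : ℕ} (h₁ : Pres N₁ r₁) (g₁ : closure (Set.range N₁) = ⊤)
    (h₂ : Pres N₂ r₂) (g₂ : closure (Set.range N₂) = ⊤) (φ₁ : G₁ →* H) (φ₂ : G₂ →* H) (a₀ : ι₁) (b₀ : ι₂)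
    (hab : φ₁ (N₁ a₀) = φ₂ (N₂ b₀)) (gl : List (FreeGroup (G₁ ⊕ G₂))) (hgl : ∀ z ∈ gl, glueEval φ₁ φ₂ z = 1)
    (recon : ∀ (G : Type) [Group G] (ψ₁ : G₁ →* G) (ψ₂ : G₂ →* G), ψ₁ (N₁ a₀) = ψ₂ (N₂ b₀) →
      (∀ z ∈ gl, glueEval ψ₁ ψ₂ z = 1) → ∃ Ψ : H →* G, (∀ g, Ψ (φ₁ g) = ψ₁ g) ∧ ∀ g, Ψ (φ₂ g) = ψ₂ g) :
    Pres (Sum.elim (fun i => φ₁ (N₁ i)) (fun i : {b // b ≠ b₀} => φ₂ (N₂ i.1))) (r₁ + r₂ + gl.length) := by
  classical
  obtain ⟨R₁, W₁, c₁, t₁, hW₁, d₁⟩ := h₁.words g₁
  obtain ⟨R₂, W₂, c₂, t₂, hW₂, d₂⟩ := h₂.words g₂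
  set c : ι₂ → FreeGroup (ι₁ ⊕ {b // b ≠ b₀}) := fun b =>
    if h : b = b₀ then FreeGroup.of (Sum.inl a₀) else FreeGroup.of (Sum.inr ⟨b, h⟩) with hcdef
  set M : ι₁ ⊕ {b // b ≠ b₀} → H := Sum.elim (fun i => φ₁ (N₁ i)) (fun i => φ₂ (N₂ i.1)) with hM
  have hMc : ∀ b, FreeGroup.lift M (c b) = φ₂ (N₂ b) := fun b => by
    by_cases h : b = b₀
    · subst h; simp [hcdef, hM, hab]
    · simp [hcdef, hM, h]
  have e₁ : ∀ x, FreeGroup.lift M (FreeGroup.map Sum.inl x) = φ₁ (FreeGroup.lift N₁ x) := fun x => by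
    rw [lift_map_comp, map_lift, hM, Sum.elim_comp_inl]
  have e₂ : ∀ x, FreeGroup.lift M (FreeGroup.lift c x) = φ₂ (FreeGroup.lift N₂ x) := fun x => by
    rw [lift_lift, map_lift]; simp only [hMc]
  set sb : G₁ ⊕ G₂ → FreeGroup (ι₁ ⊕ {b // b ≠ b₀}) :=
    Sum.elim (fun g => FreeGroup.map Sum.inl (W₁ g)) (fun g => FreeGroup.lift c (W₂ g)) with hsb
  refine ⟨R₁.image (FreeGroup.map Sum.inl) ∪ R₂.image (FreeGroup.lift c) ∪
    (gl.map (FreeGroup.lift sb)).toFinset, ?_, ?_, ?_⟩
  · refine (Finset.card_union_le _ _).trans (Nat.add_le_add ((Finset.card_union_le _ _).trans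
      (Nat.add_le_add (Finset.card_image_le.trans c₁) (Finset.card_image_le.trans c₂)))
      ((List.toFinset_card_le _).trans (le_of_eq (List.length_map _))))
  · intro x hx
    simp only [Finset.mem_union, Finset.mem_image, List.mem_toFinset, List.mem_map] at hx
    rcases hx with (⟨z, hz, rfl⟩ | ⟨z, hz, rfl⟩) | ⟨z, hz, rfl⟩
    · rw [e₁, t₁ z hz, map_one]
    · rw [e₂, t₂ z hz, map_one]
    · rw [lift_lift, ← hgl z hz, glueEval]
      refine congrArg (fun F => FreeGroup.lift F z) ?_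
      funext a
      rcases a with g | g <;> simp only [hsb, Sum.elim_inl, Sum.elim_inr, e₁, e₂, hW₁, hW₂]
  · intro G _ y hy
    obtain ⟨ψ₁, p₁, w₁⟩ := d₁ G (y ∘ Sum.inl) fun z hz => by
      rw [← lift_map_comp]
      exact hy _ (Finset.mem_union_left _ (Finset.mem_union_left _ (Finset.mem_image_of_mem _ hz)))
    obtain ⟨ψ₂, p₂, w₂⟩ := d₂ G (fun b => FreeGroup.lift y (c b)) fun z hz => by
      rw [← lift_lift]
      exact hy _ (Finset.mem_union_left _ (Finset.mem_union_right _ (Finset.mem_image_of_mem _ hz)))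
    obtain ⟨Ψ, q₁, q₂⟩ := recon G ψ₁ ψ₂ (by rw [p₁, p₂]; simp [hcdef]) fun z hz => by
      have := hy _ (Finset.mem_union_right _ (List.mem_toFinset.2 (List.mem_map_of_mem hz)))
      rw [lift_lift] at this
      rw [← this, glueEval]
      refine congrArg (fun F => FreeGroup.lift F z) ?_
      funext a
      rcases a with g | g <;> simp only [hsb, Sum.elim_inl, Sum.elim_inr, lift_map_comp, lift_lift, w₁, w₂]
    refine ⟨Ψ, fun i => ?_⟩
    rcases i with i | i
    · simp only [hM, Sum.elim_inl, q₁, p₁, Function.comp_apply]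
    · simp only [hM, Sum.elim_inr, q₂, p₂, hcdef, dif_neg i.2, FreeGroup.lift_apply_of]

end Cfsg.Agent.Lib.BoundedPresentation
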