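import Mathlib
import Cfsg.Agent.Lib.BoundedPresentation.AltPres
import Cfsg.Agent.Lib.BoundedPresentation.PresOps

/-!
Nineteen relators on five elements present an alternating group.
-/

set_option autoImplicit false

namespace Cfsg.Agent.Lib.BoundedPresentation

open Equiv Equiv.Perm

/-- The alternating group on `m + 2` points, `m ≥ 3`, on five named elements, one a three cycle. -/
theorem pres_alt_five {m : ℕ} (hm3 : 3 ≤ m) : ∃ N : Fin 3 ⊕ {b : Fin 3 // b ≠ 0} → Alt2 (Fin m),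
    Pres N 19 ∧ Subgroup.closure (Set.range N) = ⊤ ∧ ∃ (c : Fin m) (a : Fin 3 ⊕ {b : Fin 3 // b ≠ 0}), N a = cyc c := by
  classical
  obtain ⟨p, hp, f₁, f₂, hf₁, hf₂, hcover', ⟨c₀, ⟨k₁', hk₁'⟩, ⟨k₂', hk₂'⟩⟩, ⟨i₀, hi₀'⟩, ⟨j₀, hj₀'⟩⟩ :=
    exists_block_data hm3
  -- move the common point to zero in both blocks
  set e₁ : ZMod p → Fin m := fun x => f₁ (x + k₁') with he₁def
  set e₂ : ZMod p → Fin m := fun x => f₂ (x + k₂') with he₂def
  have he₁ : Function.Injective e₁ := hf₁.comp (add_left_injective k₁')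
  have he₂ : Function.Injective e₂ := hf₂.comp (add_left_injective k₂')
  have r₁ : Set.range e₁ = Set.range f₁ := (Equiv.addRight k₁').surjective.range_comp f₁
  have r₂ : Set.range e₂ = Set.range f₂ := (Equiv.addRight k₂').surjective.range_comp f₂
  have hcover : ∀ i, i ∈ Set.range e₁ ∨ i ∈ Set.range e₂ := fun i => by rw [r₁, r₂]; exact hcover' i
  have hi₀ : i₀ ∉ Set.range e₂ := by rw [r₂]; exact hi₀'
  have hj₀ : j₀ ∉ Set.range e₁ := by rw [r₁]; exact hj₀'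
  have hk₁ : e₁ 0 = c₀ := by simp [he₁def, hk₁']
  have hk₂ : e₂ 0 = c₀ := by simp [he₂def, hk₂']
  have hc₁ : c₀ ∈ Set.range e₁ := ⟨0, hk₁⟩
  have hc₂ : c₀ ∈ Set.range e₂ := ⟨0, hk₂⟩
  obtain ⟨g, hblock⟩ := pres_block p
  obtain ⟨φ₁, inj₁, hφ₁, rg₁⟩ := exists_inclusion (α := Fin m) he₁
  obtain ⟨φ₂, inj₂, hφ₂, rg₂⟩ := exists_inclusion (α := Fin m) he₂
  have hi₁ : i₀ ∈ Set.range e₁ := (hcover i₀).resolve_right hi₀
  have hj₂ : j₀ ∈ Set.range e₂ := (hcover j₀).resolve_left hj₀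
  obtain ⟨a₀, ha₀⟩ := hi₁
  obtain ⟨b₀, hb₀⟩ := hj₂
  set C : Finset (Fin m) := Finset.univ.filter (fun x => x ∈ Set.range e₁ ∧ x ∈ Set.range e₂) with hC
  set S₁ : Finset (Fin m) := Finset.univ.filter (fun x => x ∉ Set.range e₂) with hS₁
  set S₂ : Finset (Fin m) := Finset.univ.filter (fun x => x ∉ Set.range e₁) with hS₂
  have inC : ∀ {x}, x ∈ C ↔ x ∈ Set.range e₁ ∧ x ∈ Set.range e₂ := fun {x} => by simp [hC]
  have inS₁ : ∀ {x}, x ∈ S₁ ↔ x ∉ Set.range e₂ := fun {x} => by simp [hS₁]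
  have inS₂ : ∀ {x}, x ∈ S₂ ↔ x ∉ Set.range e₁ := fun {x} => by simp [hS₂]
  obtain ⟨v₁, hv₁⟩ : evenLift (rot C) ∈ φ₁.range := rg₁ ▸ evenLift_mem_closure _ _ fun x hx =>
    rot_fix fun h => hx (inC.1 h).1
  obtain ⟨v₂, hv₂⟩ : evenLift (rot C) ∈ φ₂.range := rg₂ ▸ evenLift_mem_closure _ _ fun x hx =>
    rot_fix fun h => hx (inC.1 h).2
  obtain ⟨w₁, hw₁⟩ : evenLift (rot S₁) ∈ φ₁.range := rg₁ ▸ evenLift_mem_closure _ _ fun x hx =>
    rot_fix fun h => hx ((hcover x).resolve_right (inS₁.1 h))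
  obtain ⟨w₂, hw₂⟩ : evenLift (rot S₂) ∈ φ₂.range := rg₂ ▸ evenLift_mem_closure _ _ fun x hx =>
    rot_fix fun h => hx ((hcover x).resolve_left (inS₂.1 h))
  set s₁ : ℤˣ := sign (rot S₁) with hs₁
  set s₂ : ℤˣ := sign (rot S₂) with hs₂
  let L : Alt2 (ZMod p) → FreeGroup (Alt2 (ZMod p) ⊕ Alt2 (ZMod p)) := fun x => FreeGroup.of (Sum.inl x)
  let R : Alt2 (ZMod p) → FreeGroup (Alt2 (ZMod p) ⊕ Alt2 (ZMod p)) := fun x => FreeGroup.of (Sum.inr x)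
  let gl : List (FreeGroup (Alt2 (ZMod p) ⊕ Alt2 (ZMod p))) :=
    [L v₁ * (R v₂)⁻¹,
      R w₂ * L (cyc a₀) * (R w₂)⁻¹ * (L (cyc a₀) ^ (s₂ : ℤ))⁻¹,
      L w₁ * R (cyc b₀) * (L w₁)⁻¹ * (R (cyc b₀) ^ (s₁ : ℤ))⁻¹,
      L w₁ * R w₂ * (R w₂ * L w₁)⁻¹, (L (cyc a₀) * R (cyc b₀)) ^ 2]
  have fix₂ : rot S₂ i₀ = i₀ := rot_fix fun h => inS₂.1 h ⟨a₀, ha₀⟩
  have fix₁ : rot S₁ j₀ = j₀ := rot_fix fun h => inS₁.1 h ⟨b₀, hb₀⟩
  have hgl : ∀ z ∈ gl, glueEval φ₁ φ₂ z = 1 := by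
    intro z hz
    simp only [gl, List.mem_cons, List.not_mem_nil, or_false] at hz
    rcases hz with rfl | rfl | rfl | rfl | rfl <;>
      simp only [L, R, map_mul, map_inv, map_zpow, map_pow, glueEval_inl, glueEval_inr, hφ₁, hφ₂, hv₁, hv₂, hw₁, hw₂,
        ha₀, hb₀, mul_inv_eq_one]
    · rw [evenLift_conj, fix₂]
    · rw [evenLift_conj, fix₁]
    · rw [← map_mul, ← map_mul]
      congr 1
      refine Equiv.ext fun x => ?_
      simp only [Perm.mul_apply]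
      by_cases h1 : x ∈ S₁
      · have h1' : rot S₁ x ∉ S₂ := fun h => by
          obtain ⟨n, hn⟩ := rot_trans h1 h1
          by_cases h2 : rot S₁ x ∈ S₁
          · exact inS₂.1 h ((hcover _).resolve_right (inS₁.1 h2))
          · have : rot S₁ (rot S₁ x) = rot S₁ x := rot_fix h2
            rw [(rot S₁).injective this] at h2
            exact h2 h1
        rw [rot_fix (fun h => inS₂.1 h ((hcover x).resolve_right (inS₁.1 h1))), rot_fix h1']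
      · rw [rot_fix h1]
        by_cases h2 : rot S₂ x ∈ S₁
        · have h3 : x ∈ S₂ := by
            by_contra h3
            rw [rot_fix h3] at h2
            exact h1 h2
          have h4 : rot S₂ x ∈ S₂ := by
            by_contra h4
            have : rot S₂ (rot S₂ x) = rot S₂ x := rot_fix h4
            rw [(rot S₂).injective this] at h4
            exact h4 h3
          exact absurd ((hcover _).resolve_right (inS₁.1 h2)) (inS₂.1 h4)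
        · rw [rot_fix h2]
    · exact carm_cyc.pair _ _ fun h => hi₀ ⟨b₀, hb₀.trans h.symm⟩
  have hgen : φ₁.range ⊔ φ₂.range = ⊤ := by
    rw [eq_top_iff, ← closure_cyc, Subgroup.closure_le]
    rintro _ ⟨i, rfl⟩
    rcases hcover i with ⟨k, rfl⟩ | ⟨k, rfl⟩
    · exact Subgroup.mem_sup_left ⟨cyc k, hφ₁ k⟩
    · exact Subgroup.mem_sup_right ⟨cyc k, hφ₂ k⟩
  have hab : φ₁ (blockGen p g 0) = φ₂ (blockGen p g 0) := by
    show φ₁ (cyc 0) = φ₂ (cyc 0)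
    rw [hφ₁, hφ₂, hk₁, hk₂]
  have hP := combine_shared hblock (closure_blockGen p g) hblock (closure_blockGen p g) φ₁ φ₂ 0 0 hab gl hgl ?_
  · have hN : Subgroup.closure (Set.range (Sum.elim (fun i => φ₁ (blockGen p g i))
        (fun i : {b : Fin 3 // b ≠ 0} => φ₂ (blockGen p g i.1)))) = ⊤ := by
      rw [eq_top_iff, ← range_sum_elim (closure_blockGen p g) (closure_blockGen p g) φ₁ φ₂ hgen,
        Subgroup.closure_le]
      rintro _ ⟨i | i, rfl⟩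
      · exact Subgroup.subset_closure ⟨Sum.inl i, rfl⟩
      · by_cases h : i = 0
        · subst h
          exact Subgroup.subset_closure ⟨Sum.inl 0, hab⟩
        · exact Subgroup.subset_closure ⟨Sum.inr ⟨i, h⟩, rfl⟩
    exact ⟨_, hP.mono (by simp [gl]), hN, c₀, Sum.inl 0, by rw [Sum.elim_inl]; exact (hφ₁ 0).trans (congrArg cyc hk₁)⟩
  intro G _ ψ₁ ψ₂ q1 hG
  simp only [gl, List.forall_mem_cons, L, R, map_mul, map_inv, map_zpow, map_pow, glueEval_inl, glueEval_inr,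
    mul_inv_eq_one] at hG
  obtain ⟨q2, q3, q4, q5, q6, -⟩ := hG
  change ψ₁ (cyc 0) = ψ₂ (cyc 0) at q1
  -- the two families agree on the common points
  have hagree : ∀ a b, e₁ a = e₂ b → ψ₁ (cyc a) = ψ₂ (cyc b) := by
    intro a b hab
    have haC : e₁ a ∈ C := inC.2 ⟨⟨a, rfl⟩, ⟨b, hab.symm⟩⟩
    obtain ⟨n, hn⟩ := rot_trans (inC.2 ⟨⟨0, hk₁⟩, ⟨0, hk₂⟩⟩) haC
    have h := evenLift_pow_conj (rot C) n c₀
    rw [hn] at h
    have t₁ : ψ₁ (v₁ ^ n) * ψ₁ (cyc 0) * (ψ₁ (v₁ ^ n))⁻¹ = ψ₁ (cyc a) ^ ((sign (rot C) : ℤ) ^ n) :=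
      transfer inj₁ ψ₁ (by rw [map_pow, hv₁, hφ₁, hφ₁, hk₁, h])
    have t₂ : ψ₂ (v₂ ^ n) * ψ₂ (cyc 0) * (ψ₂ (v₂ ^ n))⁻¹ = ψ₂ (cyc b) ^ ((sign (rot C) : ℤ) ^ n) :=
      transfer inj₂ ψ₂ (by rw [map_pow, hv₂, hφ₂, hφ₂, hk₂, h, hab])
    rw [map_pow, q1, q2, ← map_pow, t₂, ← Units.val_pow_eq_pow_val] at t₁
    rcases Int.units_eq_one_or (sign (rot C) ^ n) with e | e <;> rw [e] at t₁
    · simpa using t₁.symm
    · simpa using t₁.symm
  let x : Fin m → G := fun i =>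
    if h : ∃ a, e₁ a = i then ψ₁ (cyc h.choose) else ψ₂ (cyc ((hcover i).resolve_left h).choose)
  have hx₁ : ∀ a, x (e₁ a) = ψ₁ (cyc a) := fun a => by
    have h : ∃ a', e₁ a' = e₁ a := ⟨a, rfl⟩
    simp only [x, dif_pos h]
    rw [he₁ h.choose_spec]
  have hx₂ : ∀ b, x (e₂ b) = ψ₂ (cyc b) := fun b => by
    by_cases h : ∃ a', e₁ a' = e₂ b
    · simp only [x, dif_pos h]
      exact hagree _ _ h.choose_spec
    · simp only [x, dif_neg h]
      have h' : ∃ b', e₂ b' = e₂ b := (hcover (e₂ b)).resolve_left h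
      show ψ₂ (cyc h'.choose) = _
      rw [he₂ h'.choose_spec]
  have hcross : ∀ i j, i ∉ Set.range e₂ → j ∉ Set.range e₁ → (x i * x j) ^ 2 = 1 := by
    intro i j hi hj
    obtain ⟨a, rfl⟩ := (hcover i).resolve_right hi
    obtain ⟨b, rfl⟩ := (hcover j).resolve_left hj
    obtain ⟨n, hn⟩ := rot_trans (inS₁.2 hi₀) (inS₁.2 hi)
    obtain ⟨l, hl⟩ := rot_trans (inS₂.2 hj₀) (inS₂.2 hj)
    have hr := evenLift_pow_conj (rot S₁) n i₀
    rw [hn] at hr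
    have hl' := evenLift_pow_conj (rot S₂) l j₀
    rw [hl] at hl'
    have t₁ : ψ₁ w₁ ^ n * ψ₁ (cyc a₀) * (ψ₁ w₁ ^ n)⁻¹ = ψ₁ (cyc a) ^ (((s₁ ^ n : ℤˣ)) : ℤ) := by
      rw [← map_pow, Units.val_pow_eq_pow_val]
      exact transfer inj₁ ψ₁ (by rw [map_pow, hw₁, hφ₁, hφ₁, ha₀, hr])
    have t₂ : ψ₂ w₂ ^ l * ψ₂ (cyc b₀) * (ψ₂ w₂ ^ l)⁻¹ = ψ₂ (cyc b) ^ (((s₂ ^ l : ℤˣ)) : ℤ) := by
      rw [← map_pow, Units.val_pow_eq_pow_val]
      exact transfer inj₂ ψ₂ (by rw [map_pow, hw₂, hφ₂, hφ₂, hb₀, hl'])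
    have u₂ := conj_pow_sign q3 l
    have u₁ := conj_pow_sign q4 n
    have hc : Commute (ψ₁ w₁ ^ n) (ψ₂ w₂ ^ l) := Commute.pow_pow q5 n l
    set z := ψ₁ w₁ ^ n * ψ₂ w₂ ^ l with hz
    have A1 : z * ψ₁ (cyc a₀) * z⁻¹ = ψ₁ (cyc a) ^ (((s₁ ^ n * s₂ ^ l : ℤˣ)) : ℤ) := by
      rw [show z * ψ₁ (cyc a₀) * z⁻¹ = ψ₁ w₁ ^ n * (ψ₂ w₂ ^ l * ψ₁ (cyc a₀) * (ψ₂ w₂ ^ l)⁻¹) * (ψ₁ w₁ ^ n)⁻¹ by
        rw [hz]; group, u₂, ← conj_zpow, t₁, ← zpow_mul, Units.val_mul]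
    have A2 : z * ψ₂ (cyc b₀) * z⁻¹ = ψ₂ (cyc b) ^ (((s₁ ^ n * s₂ ^ l : ℤˣ)) : ℤ) := by
      rw [show z * ψ₂ (cyc b₀) * z⁻¹ = ψ₂ w₂ ^ l * (ψ₁ w₁ ^ n * ψ₂ (cyc b₀) * (ψ₁ w₁ ^ n)⁻¹) * (ψ₂ w₂ ^ l)⁻¹ by
        rw [hz, hc.eq]; group, u₁, ← conj_zpow, t₂, ← zpow_mul, Units.val_mul, mul_comm]
    have h1 := congrArg (fun w => z * w * z⁻¹) q6
    simp only [mul_one, mul_inv_cancel, ← conj_pow] at h1
    rw [show z * (ψ₁ (cyc a₀) * ψ₂ (cyc b₀)) * z⁻¹ = (z * ψ₁ (cyc a₀) * z⁻¹) * (z * ψ₂ (cyc b₀) * z⁻¹) by group,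
      A1, A2] at h1
    rw [hx₁, hx₂]
    exact pair_unit _ h1
  have hx : Carm x := by
    refine ⟨fun i => ?_, fun i j hij => ?_⟩
    · rcases hcover i with ⟨a, rfl⟩ | ⟨b, rfl⟩
      · rw [hx₁]; exact (carm_cyc.map ψ₁).cube a
      · rw [hx₂]; exact (carm_cyc.map ψ₂).cube b
    · by_cases h1 : i ∈ Set.range e₁ ∧ j ∈ Set.range e₁
      · obtain ⟨⟨a, rfl⟩, ⟨b, rfl⟩⟩ := h1
        rw [hx₁, hx₁]; exact (carm_cyc.map ψ₁).pair a b (fun e => hij (congrArg e₁ e))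
      by_cases h2 : i ∈ Set.range e₂ ∧ j ∈ Set.range e₂
      · obtain ⟨⟨a, rfl⟩, ⟨b, rfl⟩⟩ := h2
        rw [hx₂, hx₂]; exact (carm_cyc.map ψ₂).pair a b (fun e => hij (congrArg e₂ e))
      rcases not_and_or.1 h1 with hi | hj
      · have hj' : j ∉ Set.range e₂ := fun h => h2 ⟨(hcover i).resolve_left hi, h⟩
        have := hcross j i hj' hi
        rw [pow_two] at this ⊢
        calc x i * x j * (x i * x j) = (x j)⁻¹ * (x j * x i * (x j * x i)) * x j := by group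
          _ = 1 := by rw [this]; group
      · have hi' : i ∉ Set.range e₂ := fun h => h2 ⟨h, (hcover j).resolve_left hj⟩
        exact hcross i j hi' hj
  obtain ⟨Ψ, hΨ⟩ := exists_hom x hx
  have c₁ : Ψ.comp φ₁ = ψ₁ := alt_hom_ext fun a => by rw [MonoidHom.comp_apply, hφ₁, hΨ, hx₁]
  have c₂ : Ψ.comp φ₂ = ψ₂ := alt_hom_ext fun b => by rw [MonoidHom.comp_apply, hφ₂, hΨ, hx₂]
  exact ⟨Ψ, fun z => DFunLike.congr_fun c₁ z, fun z => DFunLike.congr_fun c₂ z⟩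

/-- Carmichael's presentation in degree four. -/
theorem pres_carm_two : Pres (cyc : Fin 2 → Alt2 (Fin 2)) 3 := by
  classical
  refine ⟨{FreeGroup.of 0 ^ 3, FreeGroup.of 1 ^ 3, (FreeGroup.of 0 * FreeGroup.of 1) ^ 2}, Finset.card_le_three,
    ?_, ?_⟩
  · intro r hr
    simp only [Finset.mem_insert, Finset.mem_singleton] at hr
    rcases hr with rfl | rfl | rfl
    · simpa using carm_cyc.cube 0
    · simpa using carm_cyc.cube 1
    · simpa using carm_cyc.pair 0 1 (by decide)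
  · intro G _ y hy
    simp only [Finset.forall_mem_insert, Finset.mem_singleton, forall_eq, map_pow, map_mul,
      FreeGroup.lift_apply_of] at hy
    refine exists_hom y ⟨fun i => ?_, fun i j hij => ?_⟩
    · fin_cases i
      exacts [hy.1, hy.2.1]
    · fin_cases i <;> fin_cases j
      · exact absurd rfl hij
      · exact hy.2.2
      · have := hy.2.2
        rw [pow_two] at this ⊢
        calc y 1 * y 0 * (y 1 * y 0) = (y 0)⁻¹ * (y 0 * y 1 * (y 0 * y 1)) * y 0 := by group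
          _ = 1 := by rw [this]; group
      · exact absurd rfl hij

/-- Carmichael's presentation in degree five. -/
theorem pres_carm_three : Pres (cyc : Fin 3 → Alt2 (Fin 3)) 6 := by
  classical
  let P : Fin 3 × Fin 3 → FreeGroup (Fin 3) := fun p => (FreeGroup.of p.1 * FreeGroup.of p.2) ^ 2
  refine ⟨Finset.univ.image (fun i : Fin 3 => FreeGroup.of i ^ 3) ∪
    ({(0, 1), (0, 2), (1, 2)} : Finset (Fin 3 × Fin 3)).image P, ?_, ?_, ?_⟩
  · exact (Finset.card_union_le _ _).trans (Nat.add_le_add (Finset.card_image_le.trans (le_of_eq (by simp)))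
      (Finset.card_image_le.trans Finset.card_le_three))
  · intro r hr
    simp only [Finset.mem_union, Finset.mem_image] at hr
    rcases hr with ⟨i, -, rfl⟩ | ⟨⟨i, j⟩, hij, rfl⟩
    · simpa using carm_cyc.cube i
    · have hne : i ≠ j := by simp at hij; rcases hij with ⟨rfl, rfl⟩ | ⟨rfl, rfl⟩ | ⟨rfl, rfl⟩ <;> decide
      simpa [P] using carm_cyc.pair i j hne
  · intro G _ y hy
    have hc : ∀ i, y i ^ 3 = 1 := fun i => by
      simpa using hy _ (Finset.mem_union_left _ (Finset.mem_image_of_mem _ (Finset.mem_univ i)))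
    have hp : ∀ p ∈ ({(0, 1), (0, 2), (1, 2)} : Finset (Fin 3 × Fin 3)), (y p.1 * y p.2) ^ 2 = 1 := fun p hp => by
      simpa [P] using hy _ (Finset.mem_union_right _ (Finset.mem_image_of_mem P hp))
    have sym : ∀ a b : G, (a * b) ^ 2 = 1 → (b * a) ^ 2 = 1 := fun a b h => by
      rw [pow_two] at h ⊢
      calc b * a * (b * a) = a⁻¹ * (a * b * (a * b)) * a := by group
        _ = 1 := by rw [h]; group
    refine exists_hom y ⟨hc, fun i j hij => ?_⟩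
    fin_cases i <;> fin_cases j <;> first
      | exact absurd rfl hij
      | exact hp (_, _) (by decide)
      | exact sym _ _ (hp (_, _) (by decide))

end Cfsg.Agent.Lib.BoundedPresentation
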