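import Mathlib
import Cfsg.Agent.Lib.SL3Presentation.Count
import Cfsg.Agent.Lib.SL3Presentation.Matrices

import Cfsg.Agent.Lib.BoundedPresentation.Pres

/-!
Fourteen relators on four elements present `SL₃` over every finite field.
-/

set_option autoImplicit false

namespace Cfsg.Agent.Lib.BoundedPresentation.SLThree

open Cfsg.Agent.Lib.SL3Presentation Matrix

/-- The fourteen relators. -/
def relList {G : Type*} [Group G] (p b k N : ℕ) [Fact p.Prime] (m : Polynomial (ZMod p)) (two four : Bool)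
    (u t c d : G) : List G :=
  let d1 := c * d * c⁻¹
  let d2 := c ^ 2 * d * (c ^ 2)⁻¹
  let w := d ^ (b : ℤ) * u * (d ^ (b : ℤ))⁻¹
  let v := c * u * c⁻¹
  let z := c ^ 2 * (t * u⁻¹ * t⁻¹) * (c ^ 2)⁻¹
  let z' := c ^ 2 * (t * (d * u⁻¹ * d⁻¹) * t⁻¹) * (c ^ 2)⁻¹
  [ cond two d (u * w * (w * u)⁻¹),
    cond two 1 (d * u * d⁻¹ * (u * w)⁻¹),
    u ^ p,
    d ^ N * (polyWord p m u d)⁻¹,
    c ^ 3,
    d * d1 * (d1 * d)⁻¹,
    d * d1 * d2,
    d2 * u * d2⁻¹ * (d * u * d⁻¹)⁻¹,
    t * u * t⁻¹ * (u⁻¹ * t * u⁻¹)⁻¹,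
    t * d * t⁻¹ * d2,
    t * c * t⁻¹ * c * ((d * d2⁻¹) ^ k)⁻¹,
    u * v * u⁻¹ * v⁻¹ * z⁻¹,
    u * z * (z * u)⁻¹,
    cond four ((d * u * d⁻¹) * v * (d * u * d⁻¹)⁻¹ * v⁻¹ * z'⁻¹) (v * z * (z * v)⁻¹) ]

theorem map_relList {G H : Type*} [Group G] [Group H] (f : G →* H) (p b k N : ℕ) [Fact p.Prime]
    (m : Polynomial (ZMod p)) (two four : Bool) (u t c d : G) :
    (relList p b k N m two four u t c d).map f = relList p b k N m two four (f u) (f t) (f c) (f d) := by
  cases two <;> cases four <;>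
    simp [relList, map_polyWord]

/-- The generators of `SL₃(F)` satisfy the relators. -/
theorem relList_eq_one {F : Type*} [Field F] [Fintype F] (p b k : ℕ) [Fact p.Prime] [CharP F p]
    [Algebra (ZMod p) F] (two four : Bool) (w : Fˣ) (h : w * 1 * w⁻¹ = 1)
    (htwo : two = true → w = 1) (hb : two = false → (w : F) = 1 + (w : F) ^ b)
    (hk : (w : F) ^ k = -1) :
    ∀ r ∈ relList p b k (Fintype.card F - 1) (minpoly (ZMod p) (w : F)) two four (mU (1 : F)) mT mC (mD w 1 w⁻¹ h),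
      r = 1 := by
  classical
  have hd : ∀ x : F, mD w 1 w⁻¹ h * mU x * (mD w 1 w⁻¹ h)⁻¹ = mU ((w : F) * x) := by
    intro x; rw [mD_conj_U]; simp
  have hdn : ∀ n : ℕ, mD w 1 w⁻¹ h ^ n * mU (1 : F) * (mD w 1 w⁻¹ h ^ n)⁻¹ = mU ((w : F) ^ n) := by
    intro n; rw [mD_pow, mD_conj_U]; simp
  have hw : mD w 1 w⁻¹ h ^ (b : ℤ) * mU (1 : F) * (mD w 1 w⁻¹ h ^ (b : ℤ))⁻¹ = mU ((w : F) ^ b) := by
    rw [zpow_natCast]; exact hdn b
  have hN : w ^ (Fintype.card F - 1) = 1 := by
    rw [← Fintype.card_units]; exact pow_card_eq_one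
  have hz : mC ^ 2 * (mT * (mU (1 : F))⁻¹ * mT⁻¹) * (mC ^ 2)⁻¹ = mZ 1 := by
    rw [mU_inv, mT_conj_U, neg_neg, mC_sq_conj_Y]
  have hz' : mC ^ 2 * (mT * (mD w 1 w⁻¹ h * (mU (1 : F))⁻¹ * (mD w 1 w⁻¹ h)⁻¹) * mT⁻¹) * (mC ^ 2)⁻¹ =
      mZ (w : F) := by
    rw [mU_inv, hd, mul_neg, mul_one, mT_conj_U, neg_neg, mC_sq_conj_Y]
  have hpoly : polyWord p (minpoly (ZMod p) (w : F)) (mU (1 : F)) (mD w 1 w⁻¹ h) = 1 := by
    rw [polyWord_eq_of_hom (A := F) p mU (fun a a' => (mU_add a a').symm)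
      (δ := LinearMap.mulLeft (ZMod p) (w : F)) (fun a => hd a) (a0 := (1 : F)) rfl]
    have e : ∀ f : Polynomial (ZMod p),
        Polynomial.aeval (LinearMap.mulLeft (ZMod p) (w : F)) f (1 : F) = Polynomial.aeval (w : F) f := by
      intro f
      show Polynomial.aeval (Algebra.lmul (ZMod p) F (w : F)) f (1 : F) = _
      rw [Polynomial.aeval_algHom_apply]
      simp
    rw [e, minpoly.aeval, mU_zero]
  intro r hr
  simp only [relList, List.mem_cons, List.not_mem_nil, or_false] at hr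
  rcases hr with rfl | rfl | rfl | rfl | rfl | rfl | rfl | rfl | rfl | rfl | rfl | rfl | rfl | rfl
  · cases two
    · rw [cond_false, hw, mul_inv_eq_one, mU_add, mU_add, add_comm]
    · rw [cond_true]
      obtain rfl : w = 1 := htwo rfl
      simp only [inv_one]; exact mD_one
  · cases two
    · rw [cond_false, hw, mul_inv_eq_one, hd, mU_add, mul_one, ← hb rfl]
    · rfl
  · rw [mU_pow, nsmul_eq_mul, CharP.cast_eq_zero, zero_mul, mU_zero]
  · rw [hpoly, inv_one, mul_one, mD_pow]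
    simp only [inv_pow, hN, one_pow, inv_one]
    exact mD_one
  · exact mC_cube
  · rw [mC_conj_D, mul_inv_eq_one, mD_mul, mD_mul]
    · congr 1 <;> simp [mul_comm]
    all_goals simp [mul_comm, mul_assoc, mul_left_comm]
  · rw [mC_sq_conj_D, mC_conj_D, mD_mul, mD_mul]
    · convert mD_one (F := F) using 2 <;> simp
    all_goals simp
  · rw [mC_sq_conj_D, mul_inv_eq_one, hd, mD_conj_U]; simp
  · rw [mul_inv_eq_one]; exact mT_rel
  · rw [mT_conj_D, mC_sq_conj_D, mD_mul]
    · convert mD_one (F := F) using 2 <;> simp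
    all_goals simp
  · rw [mul_inv_eq_one, mC_sq_conj_D, mD_inv, mD_mul _ _ _ _ _ _ _ _ (by simp [mul_comm, mul_assoc, mul_left_comm]),
      mD_pow, mT_C (by simp)]
    have hku : w ^ k = -1 := Units.ext (by simpa using hk)
    congr 1 <;> simp [mul_pow, hku]
  · rw [mC_conj_U, hz, mU_mV, mul_one, mul_inv_cancel]
  · rw [hz, mul_inv_eq_one]; exact (mU_commute_mZ _ _).eq
  · cases four
    · rw [cond_false, mC_conj_U, hz, mul_inv_eq_one]; exact (mV_commute_mZ _ _).eq
    · rw [cond_true, mC_conj_U, hz', hd, mul_one, mU_mV, mul_one, mul_inv_cancel]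

/-- Fourteen relators, with no exceptional field. -/
theorem presented_sl_three (F : Type*) [Field F] [Fintype F] : ∃ rels : Finset (FreeGroup (Fin 4)), rels.card ≤ 14 ∧
    Nonempty (PresentedGroup (↑rels : Set (FreeGroup (Fin 4))) ≃* Matrix.SpecialLinearGroup (Fin 3) F) := by
  classical
  obtain ⟨p, hchar⟩ := CharP.exists F
  haveI := hchar
  have hp : p.Prime := CharP.char_is_prime F p
  haveI : Fact p.Prime := ⟨hp⟩
  letI : Algebra (ZMod p) F := ZMod.algebra F p
  obtain ⟨w, hw⟩ := IsCyclic.exists_generator (α := Fˣ)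
  have hω : ∀ x : F, x ≠ 0 → ∃ i : ℕ, (w : F) ^ i = x := by
    intro x hx
    obtain ⟨i, hi⟩ := (IsOfFinOrder.mem_zpowers_iff_mem_range_orderOf (isOfFinOrder_of_finite w)).mp
      (hw (Units.mk0 x hx)) |> Finset.mem_image.mp
    exact ⟨i, by rw [← Units.val_pow_eq_pow_val, hi.2, Units.val_mk0]⟩
  set q := Fintype.card F with hqdef
  have hq : 2 ≤ q := Fintype.one_lt_card
  have hN : (w : F) ^ (q - 1) = 1 := FiniteField.pow_card_sub_one_eq_one _ w.ne_zero
  -- the parameters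
  obtain ⟨b, hb⟩ : ∃ b : ℕ, decide (q = 2) = false → (w : F) = 1 + (w : F) ^ b := by
    rcases eq_or_ne (w : F) 1 with h1 | h1
    · refine ⟨0, fun h => absurd ?_ (of_decide_eq_false h)⟩
      have := orderOf_of_generates hω w.ne_zero
      rw [h1, orderOf_one] at this
      omega
    · obtain ⟨b, hb⟩ := hω _ (sub_ne_zero.mpr h1)
      exact ⟨b, fun _ => by rw [hb, add_sub_cancel]⟩
  obtain ⟨k, hkk, hk⟩ : ∃ k : ℕ, ((p = 2 ∧ k = 0) ∨ ((w : F) ^ k = -1 ∧ 2 * k = q - 1)) ∧ (w : F) ^ k = -1 := by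
    rcases eq_or_ne p 2 with rfl | h2
    · refine ⟨0, Or.inl ⟨rfl, rfl⟩, ?_⟩
      rw [pow_zero]; exact (neg_eq_of_add_eq_zero_left (CharTwo.add_self_eq_zero (1 : F))).symm
    · have hodd : Odd q := by
        rw [hqdef, ← Nat.not_even_iff_odd]
        intro he
        have h2F : ringChar F = 2 := (FiniteField.even_card_iff_char_two).mpr (Nat.even_iff.mp he)
        exact h2 ((ringChar.eq F p).symm.trans h2F)
      obtain ⟨r, hr⟩ := hodd
      have h2k : 2 * r = q - 1 := by omega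
      have hsq : (w : F) ^ r * (w : F) ^ r = 1 := by rw [← pow_add, ← two_mul, h2k, hN]
      rcases mul_self_eq_one_iff.mp hsq with h | h
      · exfalso
        have hord := orderOf_of_generates hω w.ne_zero
        have := orderOf_dvd_of_pow_eq_one h
        rw [hord] at this
        have := Nat.le_of_dvd (by omega) this
        omega
      · exact ⟨r, Or.inr ⟨h, h2k⟩, h⟩
  set two : Bool := decide (q = 2) with htwo
  set four : Bool := decide (q = 4) with hfour
  set m := minpoly (ZMod p) (w : F) with hm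
  let R : List (FreeGroup (Fin 4)) :=
    relList p b k (q - 1) m two four (FreeGroup.of 0) (FreeGroup.of 1) (FreeGroup.of 2) (FreeGroup.of 3)
  refine ⟨R.toFinset, le_trans (List.toFinset_card_le R) (le_of_eq (by simp [R, relList])), ?_⟩
  set G := PresentedGroup (↑R.toFinset : Set (FreeGroup (Fin 4))) with hG
  let mk : FreeGroup (Fin 4) →* G := PresentedGroup.mk _
  set u : G := mk (FreeGroup.of 0) with hu
  set t : G := mk (FreeGroup.of 1) with ht
  set c : G := mk (FreeGroup.of 2) with hc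
  set d : G := mk (FreeGroup.of 3) with hd
  have hrel : ∀ r ∈ relList p b k (q - 1) m two four u t c d, r = 1 := by
    rw [hu, ht, hc, hd, ← map_relList]
    intro r hr
    obtain ⟨r', hr', rfl⟩ := List.mem_map.mp hr
    exact PresentedGroup.one_of_mem (by rw [Finset.mem_coe, List.mem_toFinset]; exact hr')
  simp only [relList, List.forall_mem_cons, mul_inv_eq_one] at hrel
  obtain ⟨r1, r2, r3, r4, r5, r6, r7, r8, r9, r10, r11, r12, r13, r14, -⟩ := hrel
  have horb : ((w : F) = 1 + (w : F) ^ b ∧ Commute u (orb u d b) ∧ d * u * d⁻¹ = u * orb u d b) ∨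
      ((w : F) = 1 ∧ d = 1) := by
    rcases h2 : two with _ | _
    · rw [h2] at r1 r2 hb
      simp only [cond_false, mul_inv_eq_one] at r1 r2
      exact Or.inl ⟨hb rfl, r1, r2⟩
    · rw [h2] at r1
      refine Or.inr ⟨?_, r1⟩
      have hq2 : q = 2 := of_decide_eq_true h2
      simpa [hq2] using hN
  obtain ⟨hdN, φ, hφadd, hφ1, hφd⟩ := exists_orbit_hom p hω b u d horb r3 r4
  let D : Data F G :=
    { t := t, c := c, d := d, φ := φ, ω := w, p := p, k := k, N := q - 1
      hω := hω, ω_ne := w.ne_zero, ω_pow := hN, hk := hkk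
      hchar := fun h x => by subst h; exact CharTwo.add_self_eq_zero x
      φ_add := hφadd, φ_d := hφd, d_pow := hdN, c_cube := r5, d_comm := r6, d_prod := r7
      d2_u := by rw [hφ1, r8, ← hφ1, hφd, mul_one]
      t_u := by rw [hφ1]; exact r9
      t_d := eq_inv_of_mul_eq_one_left r10
      t_c := r11 }
  have hz : D.x02 1 = c ^ 2 * (t * u⁻¹ * t⁻¹) * (c ^ 2)⁻¹ := by
    show c ^ 2 * (t * φ (-1) * t⁻¹) * (c ^ 2)⁻¹ = _
    rw [show φ (-1) = (φ 1)⁻¹ from D.φ_neg 1, hφ1]
  have hz' : D.x02 (w : F) = c ^ 2 * (t * (d * u⁻¹ * d⁻¹) * t⁻¹) * (c ^ 2)⁻¹ := by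
    show c ^ 2 * (t * φ (-(w : F)) * t⁻¹) * (c ^ 2)⁻¹ = _
    rw [show φ (-(w : F)) = (φ w)⁻¹ from D.φ_neg _, ← mul_one (w : F), ← hφd, hφ1]
    group
  have hφw : φ (w : F) = d * u * d⁻¹ := by rw [← hφ1, hφd, mul_one]
  have hRels : D.Rels :=
    { row := by
        show φ 1 * D.x02 1 = D.x02 1 * φ 1
        rw [hφ1, hz]; exact r13
      comm := by
        show φ 1 * (c * φ 1 * c⁻¹) * (φ 1)⁻¹ * (c * φ 1 * c⁻¹)⁻¹ = D.x02 1
        rw [hφ1, hz]; exact r12
      extra := by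
        rcases h4 : four with _ | _
        · rw [h4, cond_false, mul_inv_eq_one] at r14
          refine Or.inl ⟨of_decide_eq_false h4, ?_⟩
          show c * φ 1 * c⁻¹ * D.x02 1 = D.x02 1 * (c * φ 1 * c⁻¹)
          rw [hφ1, hz]; exact r14
        · rw [h4, cond_true, mul_inv_eq_one] at r14
          refine Or.inr ⟨of_decide_eq_true h4, ?_⟩
          show φ (w : F) * (c * φ 1 * c⁻¹) * (φ (w : F))⁻¹ * (c * φ 1 * c⁻¹)⁻¹ = D.x02 (w : F)
          rw [hφw, hφ1, hz']; exact r14 }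
  have hgen : Subgroup.closure {D.φ 1, D.t, D.c, D.d} = ⊤ := by
    rw [eq_top_iff, ← PresentedGroup.closure_range_of (↑R.toFinset : Set (FreeGroup (Fin 4))),
      Subgroup.closure_le]
    rintro _ ⟨i, rfl⟩
    refine Subgroup.subset_closure ?_
    show _ ∈ ({φ 1, t, c, d} : Set G)
    rw [hφ1]
    fin_cases i
    exacts [Or.inl rfl, Or.inr (Or.inl rfl), Or.inr (Or.inr (Or.inl rfl)), Or.inr (Or.inr (Or.inr rfl))]
  obtain ⟨hfin, hcard⟩ := Data.finite_and_card_le hRels hgen rfl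
  -- the map onto `SL₃`
  have hdiag : w * 1 * w⁻¹ = 1 := by simp
  let f : Fin 4 → SpecialLinearGroup (Fin 3) F := ![mU 1, mT, mC, mD w 1 w⁻¹ hdiag]
  have hf : ∀ r ∈ (↑R.toFinset : Set (FreeGroup (Fin 4))), FreeGroup.lift f r = 1 := by
    intro r hr
    rw [Finset.mem_coe, List.mem_toFinset] at hr
    have : FreeGroup.lift f r ∈ R.map (FreeGroup.lift f) := List.mem_map_of_mem hr
    rw [map_relList] at this
    simp only [FreeGroup.lift_apply_of] at this
    exact relList_eq_one p b k two four w hdiag (fun h => by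
      have hq2 : q = 2 := of_decide_eq_true h
      apply Units.ext
      simpa [hq2] using hN) hb hk _ this
  let π : G →* SpecialLinearGroup (Fin 3) F := PresentedGroup.toGroup hf
  have hsurj : Function.Surjective π := by
    rw [← MonoidHom.range_eq_top, eq_top_iff, ← Cfsg.Agent.Lib.SL3Presentation.closure_eq_top hω hdiag,
      Subgroup.closure_le]
    intro g hg
    rw [SetLike.mem_coe, MonoidHom.mem_range]
    rcases hg with rfl | rfl | rfl | rfl
    · exact ⟨PresentedGroup.of 0, PresentedGroup.toGroup.of hf⟩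
    · exact ⟨PresentedGroup.of 1, PresentedGroup.toGroup.of hf⟩
    · exact ⟨PresentedGroup.of 2, PresentedGroup.toGroup.of hf⟩
    · exact ⟨PresentedGroup.of 3, PresentedGroup.toGroup.of hf⟩
  have hSL : (q - 1) * Nat.card G ≤ (q - 1) * Nat.card (SpecialLinearGroup (Fin 3) F) := by
    rw [hqdef, Cfsg.Agent.Lib.LinGroup.card_SL_mul 3 (by norm_num), ← hqdef]
    refine le_trans (Nat.mul_le_mul_left _ hcard) (le_of_eq ?_)
    simp only [Fin.prod_univ_three, Fin.val_zero, Fin.val_one, Fin.val_two, pow_zero, pow_one]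
    rw [← hqdef]
    have h1 : q ^ 3 - 1 = (q - 1) * (1 + q + q * q) := by
      zify [Nat.one_le_pow 3 q (by omega), (by omega : 1 ≤ q)]; ring
    have h2 : q ^ 3 - q = (q - 1) * q * (1 + q) := by
      zify [Nat.le_self_pow (by norm_num : 3 ≠ 0) q, (by omega : 1 ≤ q)]; ring
    have h3 : q ^ 3 - q ^ 2 = (q - 1) * (q * q) := by
      zify [Nat.pow_le_pow_right (by omega : 0 < q) (by norm_num : 2 ≤ 3), (by omega : 1 ≤ q)]; ring
    rw [h1, h2, h3]; ring
  exact ⟨MulEquiv.ofBijective π (Function.Surjective.bijective_of_nat_card_le hsurj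
    (Nat.le_of_mul_le_mul_left hSL (by omega)))⟩

end Cfsg.Agent.Lib.BoundedPresentation.SLThree
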