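import Mathlib
import Cfsg.Agent.Lib.BoundedPresentation.SLPres

/-!
Vector transvections, torus elements and fixed-index subgroups of `SL` over an index type.
-/

set_option autoImplicit false

namespace Cfsg.Agent.Lib.BoundedPresentation

open Matrix Cfsg.Agent.Lib.SL2

namespace SpGlue

variable {ι : Type} [DecidableEq ι] [Fintype ι] {F : Type*} [Field F]

/-- The special linear group on an index type. -/
abbrev SLg (ι : Type) [DecidableEq ι] [Fintype ι] (F : Type*) [Field F] :=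
  Matrix.SpecialLinearGroup ι F

/-- A coordinate vector. -/
abbrev bv (F : Type*) [Field F] (i : ι) : ι → F := Pi.single i 1

theorem sl_ext_vec {g h : SLg ι F} (e : ∀ v, g.1 *ᵥ v = h.1 *ᵥ v) : g = h :=
  SLStd.sl_ext (Matrix.ext_iff_mulVec.2 e)

theorem mul_mulVec' (g h : SLg ι F) (v : ι → F) : (g * h).1 *ᵥ v = g.1 *ᵥ (h.1 *ᵥ v) := by
  rw [SLStd.coe_mul', mulVec_mulVec]

theorem vecMul_mul' (g h : SLg ι F) (v : ι → F) : v ᵥ* (g * h).1 = (v ᵥ* g.1) ᵥ* h.1 := by
  rw [SLStd.coe_mul', vecMul_vecMul]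

theorem one_mulVec' (v : ι → F) : (1 : SLg ι F).1 *ᵥ v = v := by
  show (1 : Matrix ι ι F) *ᵥ v = v
  simp

theorem one_vecMul' (v : ι → F) : v ᵥ* (1 : SLg ι F).1 = v := by
  show v ᵥ* (1 : Matrix ι ι F) = v
  simp

theorem inv_mulVec_cancel (g : SLg ι F) (v : ι → F) : (g⁻¹).1 *ᵥ (g.1 *ᵥ v) = v := by
  rw [← mul_mulVec', inv_mul_cancel, one_mulVec']

theorem mulVec_inv_cancel (g : SLg ι F) (v : ι → F) : g.1 *ᵥ ((g⁻¹).1 *ᵥ v) = v := by
  rw [← mul_mulVec', mul_inv_cancel, one_mulVec']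

theorem inv_vecMul_cancel (g : SLg ι F) (v : ι → F) : (v ᵥ* g.1) ᵥ* (g⁻¹).1 = v := by
  rw [← vecMul_mul', mul_inv_cancel, one_vecMul']

theorem vecMul_inv_cancel (g : SLg ι F) (v : ι → F) : (v ᵥ* (g⁻¹).1) ᵥ* g.1 = v := by
  rw [← vecMul_mul', inv_mul_cancel, one_vecMul']

theorem mulVec_ne_zero (g : SLg ι F) {v : ι → F} (hv : v ≠ 0) : g.1 *ᵥ v ≠ 0 := fun h =>
  hv (by rw [← inv_mulVec_cancel g v, h, mulVec_zero])

theorem bv_ne_zero (i : ι) : (bv F i : ι → F) ≠ 0 := fun h => by simpa [bv] using congrFun h i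

/-! ### Transvections -/

open Classical in
/-- The transvection `1 + v rᵀ`. -/
noncomputable def tv (v r : ι → F) : SLg ι F :=
  ⟨if r ⬝ᵥ v = 0 then 1 + vecMulVec v r else 1, by
    split_ifs with h
    · rw [vecMulVec_eq Unit, det_one_add_replicateCol_mul_replicateRow, h, add_zero]
    · exact det_one⟩

theorem tv_coe {v r : ι → F} (h : r ⬝ᵥ v = 0) : (tv v r).1 = 1 + vecMulVec v r := by
  exact if_pos h

theorem tv_mulVec {v r : ι → F} (h : r ⬝ᵥ v = 0) (x : ι → F) : (tv v r).1 *ᵥ x = x + (r ⬝ᵥ x) • v := by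
  rw [tv_coe h, add_mulVec, one_mulVec, vecMulVec_mulVec]
  congr 1
  ext i; simp [mul_comm]

theorem tv_vecMul {v r : ι → F} (h : r ⬝ᵥ v = 0) (x : ι → F) : x ᵥ* (tv v r).1 = x + (x ⬝ᵥ v) • r := by
  rw [tv_coe h, vecMul_add, vecMul_one, vecMul_vecMulVec]

theorem tv_mul_left {v v' r : ι → F} (h : r ⬝ᵥ v = 0) (h' : r ⬝ᵥ v' = 0) :
    tv v r * tv v' r = tv (v + v') r := by
  refine sl_ext_vec fun x => ?_
  rw [mul_mulVec', tv_mulVec h, tv_mulVec h', tv_mulVec (by rw [dotProduct_add, h, h', add_zero]),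
    dotProduct_add, dotProduct_smul, h', smul_zero, add_zero, smul_add, add_assoc]
  congr 1; exact add_comm _ _

theorem tv_mul_right {v r r' : ι → F} (h : r ⬝ᵥ v = 0) (h' : r' ⬝ᵥ v = 0) :
    tv v r * tv v r' = tv v (r + r') := by
  refine sl_ext_vec fun x => ?_
  rw [mul_mulVec', tv_mulVec h, tv_mulVec h', tv_mulVec (by rw [add_dotProduct, h, h', add_zero]),
    dotProduct_add, dotProduct_smul, h, smul_zero, add_zero, add_dotProduct, add_smul, add_assoc]
  congr 1; exact add_comm _ _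

theorem tv_zero_left (r : ι → F) : tv (0 : ι → F) r = 1 := by
  refine sl_ext_vec fun x => ?_
  rw [tv_mulVec (dotProduct_zero r), smul_zero, add_zero, one_mulVec']

theorem tv_zero_right (v : ι → F) : tv v (0 : ι → F) = 1 := by
  refine sl_ext_vec fun x => ?_
  rw [tv_mulVec (zero_dotProduct v), zero_dotProduct, zero_smul, add_zero, one_mulVec']

theorem tv_smul (c : F) (v r : ι → F) : tv v (c • r) = tv (c • v) r := by
  rcases eq_or_ne c 0 with rfl | hc
  · rw [zero_smul, zero_smul, tv_zero_left, tv_zero_right]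
  by_cases h : r ⬝ᵥ v = 0
  · refine sl_ext_vec fun x => ?_
    rw [tv_mulVec (by rw [smul_dotProduct, h, smul_zero]), tv_mulVec (by rw [dotProduct_smul, h, smul_zero]),
      smul_dotProduct, smul_smul, smul_eq_mul, mul_comm]
  · exact SLStd.sl_ext ((if_neg (by simp [h, hc])).trans (if_neg (by simp [h, hc])).symm)

theorem tv_inv_left {v r : ι → F} (h : r ⬝ᵥ v = 0) : (tv v r)⁻¹ = tv (-v) r := by
  refine inv_eq_of_mul_eq_one_right ?_
  rw [tv_mul_left h (by rw [dotProduct_neg, h, neg_zero]), add_neg_cancel, tv_zero_left]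

theorem tv_conj (g : SLg ι F) {v r v' r' : ι → F} (h : r ⬝ᵥ v = 0) (hv : g.1 *ᵥ v = v')
    (hr : r' ᵥ* g.1 = r) : g * tv v r * g⁻¹ = tv v' r' := by
  have h' : r' ⬝ᵥ v' = 0 := by rw [← hv, dotProduct_mulVec, hr, h]
  rw [mul_inv_eq_iff_eq_mul]
  refine sl_ext_vec fun x => ?_
  rw [mul_mulVec', mul_mulVec', tv_mulVec h, tv_mulVec h', mulVec_add, mulVec_smul, hv, dotProduct_mulVec, hr]

theorem dot_bv (r : ι → F) (i : ι) : r ⬝ᵥ bv F i = r i := by simp [bv, dotProduct_single]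

theorem bv_dot (v : ι → F) (i : ι) : bv F i ⬝ᵥ v = v i := by simp [bv, single_dotProduct]

/-- The transvections `1 + v e_lᵀ`. -/
noncomputable def col (l : ι) (v : ι → F) : SLg ι F := tv v (bv F l)

theorem col_mulVec {l : ι} {v : ι → F} (h : v l = 0) (x : ι → F) :
    (col l v).1 *ᵥ x = x + x l • v := by
  rw [col, tv_mulVec (by rw [bv_dot, h]), bv_dot]

theorem col_vecMul {l : ι} {v : ι → F} (h : v l = 0) (x : ι → F) :
    x ᵥ* (col l v).1 = x + (x ⬝ᵥ v) • bv F l := by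
  rw [col, tv_vecMul (by rw [bv_dot, h])]

theorem col_add {l : ι} {v v' : ι → F} (h : v l = 0) (h' : v' l = 0) :
    col l v * col l v' = col l (v + v') := tv_mul_left (by rw [bv_dot, h]) (by rw [bv_dot, h'])

/-- The transvections `1 + e_l rᵀ`. -/
noncomputable def row (l : ι) (r : ι → F) : SLg ι F := tv (bv F l) r

theorem row_mulVec {l : ι} {r : ι → F} (h : r l = 0) (x : ι → F) :
    (row l r).1 *ᵥ x = x + (r ⬝ᵥ x) • bv F l := by
  rw [row, tv_mulVec (by rw [dot_bv, h])]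

theorem row_vecMul {l : ι} {r : ι → F} (h : r l = 0) (x : ι → F) :
    x ᵥ* (row l r).1 = x + x l • r := by
  rw [row, tv_vecMul (by rw [dot_bv, h]), dot_bv]

theorem row_add {l : ι} {r r' : ι → F} (h : r l = 0) (h' : r' l = 0) :
    row l r * row l r' = row l (r + r') := tv_mul_right (by rw [dot_bv, h]) (by rw [dot_bv, h'])

/-- The elements fixing one index on both sides. -/
def fx (l : ι) : Subgroup (SLg ι F) where
  carrier := {g | g.1 *ᵥ bv F l = bv F l ∧ bv F l ᵥ* g.1 = bv F l}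
  one_mem' := ⟨one_mulVec' _, one_vecMul' _⟩
  mul_mem' := fun {a b} ha hb =>
    ⟨by rw [mul_mulVec', hb.1, ha.1], by rw [vecMul_mul', ha.2, hb.2]⟩
  inv_mem' := fun {a} ha =>
    ⟨by conv_lhs => rw [← ha.1]
        exact inv_mulVec_cancel a _,
     by conv_lhs => rw [← ha.2]
        exact inv_vecMul_cancel a _⟩

theorem mem_fx {l : ι} {g : SLg ι F} :
    g ∈ fx l ↔ g.1 *ᵥ bv F l = bv F l ∧ bv F l ᵥ* g.1 = bv F l := Iff.rfl

theorem tv_mem_fx {l : ι} {v r : ι → F} (h : r ⬝ᵥ v = 0) (hv : v l = 0) (hr : r l = 0) : tv v r ∈ fx l :=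
  ⟨by rw [tv_mulVec h, dot_bv, hr, zero_smul, add_zero],
   by rw [tv_vecMul h, bv_dot, hv, zero_smul, add_zero]⟩

/-- Elements fixing a coordinate vector split off a row transvection. -/
theorem stab_split {l : ι} {g : SLg ι F} (h : g.1 *ᵥ bv F l = bv F l) :
    ∃ r, r l = 0 ∧ ∃ k ∈ fx l, g = k * row l r := by
  let r : ι → F := bv F l ᵥ* g.1 - bv F l
  have hr : r l = 0 := by
    show (bv F l ᵥ* g.1) l - bv F l l = 0
    rw [← dot_bv (bv F l ᵥ* g.1) l, ← dotProduct_mulVec, h, dot_bv, sub_self]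
  have hr' : (-r) l = 0 := by rw [Pi.neg_apply, hr, neg_zero]
  refine ⟨r, hr, g * row l (-r), ⟨?_, ?_⟩, ?_⟩
  · rw [mul_mulVec', row_mulVec hr', dot_bv, hr', zero_smul, add_zero, h]
  · rw [vecMul_mul', row_vecMul hr']
    have h1 : (bv F l ᵥ* g.1) l = 1 := by
      have := hr
      simp only [r, Pi.sub_apply, sub_eq_zero] at this
      rw [this]; simp [bv]
    rw [h1, one_smul]
    simp [r]
  · rw [mul_assoc, row_add hr' hr, neg_add_cancel, show row l (0 : ι → F) = 1 from tv_zero_right _, mul_one]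

/-- Elements fixing a coordinate covector split off a column transvection. -/
theorem stab_split' {l : ι} {g : SLg ι F} (h : bv F l ᵥ* g.1 = bv F l) :
    ∃ v, v l = 0 ∧ ∃ k ∈ fx l, g = col l v * k := by
  let v : ι → F := g.1 *ᵥ bv F l - bv F l
  have hv : v l = 0 := by
    show (g.1 *ᵥ bv F l) l - bv F l l = 0
    rw [← bv_dot (g.1 *ᵥ bv F l) l, dotProduct_mulVec, h, bv_dot, sub_self]
  have hv' : (-v) l = 0 := by rw [Pi.neg_apply, hv, neg_zero]
  refine ⟨v, hv, col l (-v) * g, ⟨?_, ?_⟩, ?_⟩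
  · have h1 : (g.1 *ᵥ bv F l) l = 1 := by
      have := hv
      simp only [v, Pi.sub_apply, sub_eq_zero] at this
      rw [this]; simp [bv]
    rw [mul_mulVec', col_mulVec hv', h1, one_smul]
    simp [v]
  · rw [vecMul_mul', col_vecMul hv', bv_dot, hv', zero_smul, add_zero, h]
  · rw [← mul_assoc, col_add hv hv', add_neg_cancel, show col l (0 : ι → F) = 1 from tv_zero_left _, one_mul]

/-- An element fixing the index `l` moves a multiple of one coordinate vector to any given vector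
without an `l`-th coordinate. -/
theorem exists_fx_col {l i : ι} (hil : i ≠ l) {v : ι → F} (hvl : v l = 0) (hv : v ≠ 0) :
    ∃ k ∈ fx l, ∃ c : F, c ≠ 0 ∧ k.1 *ᵥ (c • bv F i) = v := by
  by_cases hvi : v i = 0
  · obtain ⟨m, hm⟩ := Function.ne_iff.1 hv
    rw [Pi.zero_apply] at hm
    have hmi : m ≠ i := fun e => hm (e ▸ hvi)
    have hml : m ≠ l := fun e => hm (e ▸ hvl)
    have h1 : bv F i ⬝ᵥ ((v m)⁻¹ • v) = 0 := by rw [bv_dot]; simp [hvi]
    have h2 : bv F m ⬝ᵥ (-bv F i) = 0 := by rw [bv_dot]; simp [bv, hmi]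
    refine ⟨tv (-bv F i) (bv F m) * tv ((v m)⁻¹ • v) (bv F i),
      mul_mem (tv_mem_fx h2 (by simp [bv, hil.symm]) (by simp [bv, hml.symm]))
        (tv_mem_fx h1 (by simp [hvl]) (by simp [bv, hil.symm])), v m, hm, ?_⟩
    rw [mul_mulVec', tv_mulVec h1, tv_mulVec h2]
    simp only [bv_dot, Pi.add_apply, Pi.smul_apply, smul_eq_mul, smul_smul]
    simp [bv, hmi, hm]
  · have h1 : bv F i ⬝ᵥ ((v i)⁻¹ • v - bv F i) = 0 := by rw [bv_dot]; simp [bv, hvi]
    refine ⟨tv ((v i)⁻¹ • v - bv F i) (bv F i),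
      tv_mem_fx h1 (by simp [bv, hil.symm, hvl]) (by simp [bv, hil.symm]), v i, hvi, ?_⟩
    rw [tv_mulVec h1, bv_dot]
    simp only [Pi.smul_apply, smul_eq_mul, smul_sub, smul_smul]
    simp [bv, hvi]

/-- The same for covectors. -/
theorem exists_fx_row {l i : ι} (hil : i ≠ l) {u : ι → F} (hul : u l = 0) (hu : u ≠ 0) :
    ∃ k ∈ fx l, ∃ c : F, c ≠ 0 ∧ (c • bv F i) ᵥ* k.1 = u := by
  by_cases hui : u i = 0
  · obtain ⟨m, hm⟩ := Function.ne_iff.1 hu
    rw [Pi.zero_apply] at hm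
    have hmi : m ≠ i := fun e => hm (e ▸ hui)
    have hml : m ≠ l := fun e => hm (e ▸ hul)
    have h1 : ((u m)⁻¹ • u) ⬝ᵥ bv F i = 0 := by rw [dot_bv]; simp [hui]
    have h2 : (-bv F i) ⬝ᵥ bv F m = 0 := by rw [dot_bv]; simp [bv, hmi]
    refine ⟨tv (bv F i) ((u m)⁻¹ • u) * tv (bv F m) (-bv F i),
      mul_mem (tv_mem_fx h1 (by simp [bv, hil.symm]) (by simp [hul]))
        (tv_mem_fx h2 (by simp [bv, hml.symm]) (by simp [bv, hil.symm])), u m, hm, ?_⟩
    rw [vecMul_mul', tv_vecMul h1, tv_vecMul h2]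
    simp only [dot_bv, Pi.add_apply, Pi.smul_apply, smul_eq_mul, smul_smul]
    simp [bv, hmi, hm]
  · have h1 : ((u i)⁻¹ • u - bv F i) ⬝ᵥ bv F i = 0 := by rw [dot_bv]; simp [bv, hui]
    refine ⟨tv (bv F i) ((u i)⁻¹ • u - bv F i),
      tv_mem_fx h1 (by simp [bv, hil.symm]) (by simp [bv, hil.symm, hul]), u i, hui, ?_⟩
    rw [tv_vecMul h1, dot_bv]
    simp only [Pi.smul_apply, smul_eq_mul, smul_sub, smul_smul]
    simp [bv, hui]

/-! ### Weyl and torus elements at two indices -/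

/-- The Weyl element at two indices. -/
def pel {i l : ι} (h : i ≠ l) : SLg ι F := SLStd.emb h weyl

theorem pel_mulVec {i l : ι} (h : i ≠ l) (v : ι → F) :
    (pel h : SLg ι F).1 *ᵥ v = v + (v l - v i) • bv F i + (-v i - v l) • bv F l := by
  rw [pel, SLStd.emb_weyl]
  ext m
  simp only [add_mulVec, one_mulVec, Pi.add_apply, single_mulVec, Pi.smul_apply, smul_eq_mul, bv]
  rcases eq_or_ne m i with rfl | hmi
  · simp [h, h.symm] <;> ring
  rcases eq_or_ne m l with rfl | hml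
  · simp [h, h.symm] <;> ring
  · simp [hmi, hml, hmi.symm, hml.symm]

theorem pel_vecMul {i l : ι} (h : i ≠ l) (v : ι → F) :
    v ᵥ* (pel h : SLg ι F).1 = v + (-v i - v l) • bv F i + (v i - v l) • bv F l := by
  rw [pel, SLStd.emb_weyl]
  ext m
  simp only [vecMul_add, vecMul_one, Pi.add_apply, Pi.smul_apply, smul_eq_mul, bv]
  simp only [vecMul, dotProduct, Matrix.single_apply, mul_ite, mul_zero, mul_neg, mul_one, ite_and, Finset.sum_ite_eq, Finset.mem_univ, if_true, Finset.sum_ite_eq']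
  rcases eq_or_ne m i with rfl | hmi
  · simp [h, h.symm] <;> ring
  rcases eq_or_ne m l with rfl | hml
  · simp [h, h.symm] <;> ring
  · simp [hmi, hml, hmi.symm, hml.symm]

theorem pel_mulVec_bv {i l : ι} (h : i ≠ l) : (pel h : SLg ι F).1 *ᵥ bv F l = bv F i := by
  rw [pel_mulVec]
  ext m
  rcases eq_or_ne m i with rfl | hmi
  · simp [bv, h, h.symm]
  rcases eq_or_ne m l with rfl | hml
  · simp [bv, h, h.symm]
  · simp [bv, hmi, hml]

theorem bv_vecMul_pel {i l : ι} (h : i ≠ l) : bv F i ᵥ* (pel h : SLg ι F).1 = bv F l := by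
  rw [pel_vecMul]
  ext m
  rcases eq_or_ne m i with rfl | hmi
  · simp [bv, h, h.symm]
  rcases eq_or_ne m l with rfl | hml
  · simp [bv, h, h.symm]
  · simp [bv, hmi, hml]

theorem pel_mem_fx {m i l : ι} (h : i ≠ l) (hi : m ≠ i) (hl : m ≠ l) : (pel h : SLg ι F) ∈ fx m :=
  ⟨by rw [pel_mulVec]; simp [bv, hi.symm, hl.symm], by rw [pel_vecMul]; simp [bv, hi.symm, hl.symm]⟩

/-- The diagonal vector of a unit at one index. -/
def dl (l : ι) (u : Fˣ) : ι → F := fun m => if m = l then (u : F) else 1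

/-- Conjugation by a diagonal matrix. -/
def cd (l : ι) (u : Fˣ) : SLg ι F →* SLg ι F where
  toFun g := ⟨Matrix.diagonal (dl l u) * g.1 * Matrix.diagonal (dl l u⁻¹), by
    rw [det_mul, det_mul, g.2, mul_one, ← det_mul, diagonal_mul_diagonal]
    simp [dl]
    exact Finset.prod_eq_one fun m _ => by split_ifs <;> simp⟩
  map_one' := SLStd.sl_ext (by
    show Matrix.diagonal (dl l u) * (1 : Matrix ι ι F) * Matrix.diagonal (dl l u⁻¹) = 1
    rw [Matrix.mul_one, diagonal_mul_diagonal, ← diagonal_one]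
    congr 1; funext m; simp only [dl]; split_ifs <;> simp)
  map_mul' g h := SLStd.sl_ext (by
    show Matrix.diagonal (dl l u) * (g.1 * h.1) * Matrix.diagonal (dl l u⁻¹) =
      Matrix.diagonal (dl l u) * g.1 * Matrix.diagonal (dl l u⁻¹) *
        (Matrix.diagonal (dl l u) * h.1 * Matrix.diagonal (dl l u⁻¹))
    have e : Matrix.diagonal (dl l u⁻¹) * Matrix.diagonal (dl l u) = (1 : Matrix ι ι F) := by
      rw [diagonal_mul_diagonal, ← diagonal_one]
      congr 1; funext m; simp only [dl]; split_ifs <;> simp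
    simp only [Matrix.mul_assoc]
    rw [← Matrix.mul_assoc (Matrix.diagonal (dl l u⁻¹)), e, Matrix.one_mul])

theorem cd_coe (l : ι) (u : Fˣ) (g : SLg ι F) :
    (cd l u g).1 = Matrix.diagonal (dl l u) * g.1 * Matrix.diagonal (dl l u⁻¹) := rfl

theorem cd_apply (l : ι) (u : Fˣ) (g : SLg ι F) (a b : ι) :
    (cd l u g).1 a b = dl l u a * g.1 a b * dl l u⁻¹ b := by
  rw [cd_coe, mul_diagonal, diagonal_mul]

theorem cd_cd (l : ι) (u u' : Fˣ) (g : SLg ι F) : cd l u (cd l u' g) = cd l (u * u') g := by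
  refine SLStd.sl_ext ?_
  ext a b
  simp only [cd_apply, dl, _root_.mul_inv_rev, Units.val_mul]
  split_ifs <;> ring

theorem cd_one (l : ι) (g : SLg ι F) : cd l 1 g = g := by
  refine SLStd.sl_ext ?_
  ext a b
  simp [cd_apply, dl]

theorem cd_tv (l : ι) (u : Fˣ) {v r : ι → F} (h : r ⬝ᵥ v = 0) :
    cd l u (tv v r) = tv (dl l u * v) (dl l u⁻¹ * r) := by
  have h' : (dl l u⁻¹ * r) ⬝ᵥ (dl l u * v) = 0 := by
    rw [← h]
    refine Finset.sum_congr rfl fun m _ => ?_
    simp only [Pi.mul_apply, dl]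
    split_ifs <;> simp [mul_mul_mul_comm]
  refine SLStd.sl_ext ?_
  ext a b
  rw [cd_apply, tv_coe h, tv_coe h']
  simp only [Matrix.add_apply, Matrix.one_apply, vecMulVec_apply, Pi.mul_apply, dl]
  split_ifs <;> grind [Units.inv_mul, Units.mul_inv]

theorem cd_fx {l : ι} {g : SLg ι F} (hg : g ∈ fx l) (u : Fˣ) : cd l u g = g := by
  refine SLStd.sl_ext ?_
  ext a b
  have h1 : ∀ a, g.1 a l = if a = l then 1 else 0 := fun a => by
    have := congrFun hg.1 a
    simpa [bv, Matrix.mulVec_single, Pi.single_apply] using this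
  have h2 : ∀ b, g.1 l b = if b = l then 1 else 0 := fun b => by
    have := congrFun hg.2 b
    simpa [bv, Matrix.single_vecMul, Pi.single_apply] using this
  rw [cd_apply]
  simp only [dl]
  split_ifs with ha hb hb
  · subst ha hb; rw [h1]; simp
  · subst ha; rw [h2, if_neg hb]; simp
  · subst hb; rw [h1, if_neg ha]; simp
  · simp

/-- The torus element at two indices. -/
def dd {i l : ι} (h : i ≠ l) (c : Fˣ) : SLg ι F := SLStd.emb h (diag c)

theorem dd_mul {i l : ι} (h : i ≠ l) (c c' : Fˣ) : (dd h c : SLg ι F) * dd h c' = dd h (c * c') := by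
  rw [dd, dd, dd, ← map_mul, diag_mul]

theorem dd_inv {i l : ι} (h : i ≠ l) (c : Fˣ) : (dd h c : SLg ι F)⁻¹ = dd h c⁻¹ := by
  rw [dd, dd, ← map_inv, diag_inv]

theorem dd_mulVec {i l : ι} (h : i ≠ l) (c : Fˣ) (v : ι → F) :
    (dd h c : SLg ι F).1 *ᵥ v = SLStd.dv i l c * v := by
  rw [dd, SLStd.emb_diag]
  ext m; simp [mulVec_diagonal]

theorem dd_vecMul {i l : ι} (h : i ≠ l) (c : Fˣ) (v : ι → F) :
    v ᵥ* (dd h c : SLg ι F).1 = SLStd.dv i l c * v := by
  rw [dd, SLStd.emb_diag]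
  ext m; simp [vecMul_diagonal, mul_comm]

theorem dd_bv_left {i l : ι} (h : i ≠ l) (c : Fˣ) : SLStd.dv i l c * bv F i = (c : F) • bv F i := by
  ext m; rcases eq_or_ne m i with rfl | hm
  · simp [SLStd.dv, bv]
  · simp [bv, hm]

theorem dd_bv_right {i l : ι} (h : i ≠ l) (c : Fˣ) : SLStd.dv i l c * bv F l = ((c⁻¹ : Fˣ) : F) • bv F l := by
  ext m; rcases eq_or_ne m l with rfl | hm
  · simp [SLStd.dv, bv, h.symm]
  · simp [bv, hm]

theorem pel_cd {i l : ι} (h : i ≠ l) (u : Fˣ) : (pel h : SLg ι F) * (cd l u (pel h))⁻¹ = dd h u := by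
  rw [mul_inv_eq_iff_eq_mul]
  refine SLStd.sl_ext ?_
  rw [SLStd.coe_mul', dd, SLStd.emb_diag]
  ext a b
  rw [diagonal_mul, cd_apply, pel, SLStd.emb_weyl]
  simp only [Matrix.add_apply, Matrix.one_apply, Matrix.single_apply, SLStd.dv, dl]
  split_ifs <;> grind [Units.inv_mul, Units.mul_inv]

/-! ### Removing one index -/

section sub

variable (o : ι)

/-- A vector extended by zero. -/
def ext0 (v : {m // m ≠ o} → F) : ι → F := fun a => if h : a ≠ o then v ⟨a, h⟩ else 0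

/-- The block matrix of the inclusion. -/
def subMat (g : SLg {m // m ≠ o} F) : Matrix ι ι F :=
  (fromBlocks g.1 0 0 (1 : Matrix {m // ¬ m ≠ o} {m // ¬ m ≠ o} F)).submatrix
    (Equiv.sumCompl (fun m => m ≠ o)).symm (Equiv.sumCompl (fun m => m ≠ o)).symm

theorem det_subMat (g : SLg {m // m ≠ o} F) : (subMat o g).det = 1 := by
  rw [subMat, det_submatrix_equiv_self, det_fromBlocks_zero₂₁, g.2, det_one, mul_one]

/-- The inclusion of `SL` on all indices but one. -/
def SubE : SLg {m // m ≠ o} F →* SLg ι F where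
  toFun g := ⟨subMat o g, det_subMat o g⟩
  map_one' := SLStd.sl_ext (by
    show subMat o (1 : SLg {m // m ≠ o} F) = 1
    show (fromBlocks (1 : Matrix {m // m ≠ o} {m // m ≠ o} F) 0 0 (1 : Matrix {m // ¬ m ≠ o} {m // ¬ m ≠ o} F)).submatrix
      (Equiv.sumCompl (fun m => m ≠ o)).symm (Equiv.sumCompl (fun m => m ≠ o)).symm = 1
    rw [fromBlocks_one, submatrix_one_equiv])
  map_mul' g h := SLStd.sl_ext (by
    show subMat o (g * h) = subMat o g * subMat o h
    rw [subMat, subMat, subMat, submatrix_mul_equiv, fromBlocks_multiply, SLStd.coe_mul']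
    simp)

theorem SubE_apply (g : SLg {m // m ≠ o} F) (a b : ι) :
    (SubE o g).1 a b = if ha : a ≠ o then (if hb : b ≠ o then g.1 ⟨a, ha⟩ ⟨b, hb⟩ else 0)
      else (if a = b then 1 else 0) := by
  show subMat o g a b = _
  by_cases ha : a ≠ o <;> by_cases hb : b ≠ o
  · rw [dif_pos ha, dif_pos hb, subMat, submatrix_apply, Equiv.sumCompl_symm_apply_of_pos (p := fun m => m ≠ o) ha,
      Equiv.sumCompl_symm_apply_of_pos (p := fun m => m ≠ o) hb]
    rfl
  · rw [dif_pos ha, dif_neg hb, subMat, submatrix_apply, Equiv.sumCompl_symm_apply_of_pos (p := fun m => m ≠ o) ha,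
      Equiv.sumCompl_symm_apply_of_neg (p := fun m => m ≠ o) hb]
    rfl
  · rw [dif_neg ha, subMat, submatrix_apply, Equiv.sumCompl_symm_apply_of_neg (p := fun m => m ≠ o) ha,
      Equiv.sumCompl_symm_apply_of_pos (p := fun m => m ≠ o) hb, if_neg (fun e : a = b => ha fun h' => hb (e ▸ h'))]
    rfl
  · rw [dif_neg ha, subMat, submatrix_apply, Equiv.sumCompl_symm_apply_of_neg (p := fun m => m ≠ o) ha,
      Equiv.sumCompl_symm_apply_of_neg (p := fun m => m ≠ o) hb]
    show (1 : Matrix {m // ¬ m ≠ o} {m // ¬ m ≠ o} F) _ _ = _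
    simp [Matrix.one_apply]

theorem SubE_mem_fx (g : SLg {m // m ≠ o} F) : SubE o g ∈ fx o := by
  refine ⟨?_, ?_⟩ <;> ext a <;> simp only [mulVec_single_one, single_one_vecMul, col_apply, row_apply, SubE_apply] <;>
    by_cases ha : a = o <;> simp [ha, bv] <;> exact Ne.symm ha

theorem SubE_fx_self {l : {m // m ≠ o}} {g : SLg {m // m ≠ o} F} (hg : g ∈ fx l) :
    SubE o g ∈ fx l.1 := by
  have h1 : ∀ a, g.1 a l = if a = l then 1 else 0 := fun a => by
    have := congrFun hg.1 a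
    simpa [bv, Matrix.mulVec_single, Pi.single_apply] using this
  have h2 : ∀ b, g.1 l b = if b = l then 1 else 0 := fun b => by
    have := congrFun hg.2 b
    simpa [bv, Matrix.single_vecMul, Pi.single_apply] using this
  obtain ⟨l, hl⟩ := l
  refine ⟨?_, ?_⟩ <;> ext a <;> simp only [mulVec_single_one, single_one_vecMul, col_apply, row_apply, SubE_apply] <;>
    by_cases ha : a = o
  · simp [ha, hl, Ne.symm hl, bv]
  · simp [ha, hl, h1 ⟨a, ha⟩, bv, Pi.single_apply, Subtype.ext_iff]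
  · simp [ha, hl, Ne.symm hl, bv]
  · simp [ha, hl, h2 ⟨a, ha⟩, bv, Pi.single_apply, Subtype.ext_iff]

theorem ext0_single (m : {m // m ≠ o}) : ext0 o (bv F m) = bv F m.1 := by
  obtain ⟨m, hm⟩ := m
  ext a
  simp only [ext0, bv, Pi.single_apply]
  split_ifs <;> simp_all [Subtype.ext_iff]

theorem ext0_smul (c : F) (v : {m // m ≠ o} → F) : ext0 o (c • v) = c • ext0 o v := by
  ext a; simp only [ext0, Pi.smul_apply]; split_ifs <;> simp

theorem ext0_dot (r v : {m // m ≠ o} → F) : ext0 o r ⬝ᵥ ext0 o v = r ⬝ᵥ v := by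
  rw [dotProduct, ← Fintype.sum_subtype_add_sum_subtype (fun m => m ≠ o)]
  have : ∑ i : {m // ¬ m ≠ o}, ext0 o r i * ext0 o v i = 0 :=
    Finset.sum_eq_zero fun i _ => by simp [ext0, i.2]
  rw [this, add_zero]
  exact Finset.sum_congr rfl fun i _ => by simp [ext0, i.2]

theorem SubE_tv {v r : {m // m ≠ o} → F} (h : r ⬝ᵥ v = 0) :
    SubE o (tv v r) = tv (ext0 o v) (ext0 o r) := by
  refine SLStd.sl_ext ?_
  ext a b
  rw [SubE_apply, tv_coe h, tv_coe (by rw [ext0_dot, h])]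
  simp only [Matrix.add_apply, Matrix.one_apply, vecMulVec_apply, ext0]
  split_ifs <;> simp_all [Subtype.ext_iff]

theorem SubE_pel {i l : {m // m ≠ o}} (h : i ≠ l) :
    SubE o (pel h : SLg {m // m ≠ o} F) = pel (fun e => h (Subtype.ext e) : i.1 ≠ l.1) := by
  obtain ⟨i, hi⟩ := i
  obtain ⟨l, hl⟩ := l
  refine SLStd.sl_ext ?_
  ext a b
  rw [SubE_apply, pel, pel, SLStd.emb_weyl, SLStd.emb_weyl]
  simp only [Matrix.add_apply, Matrix.one_apply, Matrix.single_apply, Subtype.ext_iff]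
  by_cases ha : a = o
  · subst ha; simp [hi, hl]
  by_cases hb : b = o
  · subst hb; simp [ha, hi, hl]
  simp [ha, hb]

theorem SubE_cd (l : {m // m ≠ o}) (u : Fˣ) (g : SLg {m // m ≠ o} F) :
    SubE o (cd l u g) = cd l.1 u (SubE o g) := by
  refine SLStd.sl_ext ?_
  ext a b
  obtain ⟨l, hl⟩ := l
  simp only [cd_apply, SubE_apply, dl]
  split_ifs <;> simp_all [Subtype.ext_iff]

theorem SubE_surj {g : SLg ι F} (hg : g ∈ fx o) : ∃ g', SubE o g' = g := by
  have h1 : ∀ a, g.1 a o = if a = o then 1 else 0 := fun a => by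
    have := congrFun hg.1 a
    simpa [bv, Matrix.mulVec_single, Pi.single_apply] using this
  have h2 : ∀ b, g.1 o b = if b = o then 1 else 0 := fun b => by
    have := congrFun hg.2 b
    simpa [bv, Matrix.single_vecMul, Pi.single_apply] using this
  let g' : Matrix {m // m ≠ o} {m // m ≠ o} F := g.1.submatrix Subtype.val Subtype.val
  have e : (fromBlocks g' 0 0 (1 : Matrix {m // ¬ m ≠ o} {m // ¬ m ≠ o} F)).submatrix
      (Equiv.sumCompl (fun m => m ≠ o)).symm (Equiv.sumCompl (fun m => m ≠ o)).symm = g.1 := by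
    ext a b
    by_cases ha : a ≠ o <;> by_cases hb : b ≠ o <;>
      simp_all [g', Equiv.sumCompl_symm_apply_of_pos, Equiv.sumCompl_symm_apply_of_neg, Matrix.one_apply]
  have hd : g'.det = 1 := by
    have := congrArg Matrix.det e
    rwa [det_submatrix_equiv_self, det_fromBlocks_zero₂₁, det_one, mul_one, g.2] at this
  exact ⟨⟨g', hd⟩, SLStd.sl_ext e⟩

end sub

end SpGlue

end Cfsg.Agent.Lib.BoundedPresentation
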