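import Mathlib
import Cfsg.Agent.Lib.BoundedPresentation.SpBasic

/-!
An `SL_n` and one `SL₂` with the relations of type `C`: the abelian subgroup of the long roots.
-/

set_option autoImplicit false

namespace Cfsg.Agent.Lib.BoundedPresentation

open Matrix Cfsg.Agent.Lib.SL2 Cfsg.Agent.Lib.SpFourPresentation

namespace SpGlue

variable {ι : Type} [DecidableEq ι] [Fintype ι] {F : Type*} [Field F] {G : Type*} [Group G]

/-- The relations of type `C` not involving the mixed roots. -/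
structure Pre (θ : SLg ι F →* G) (ψ : SLtwo F →* G) (l : ι) : Prop where
  d : ∀ (u : Fˣ) (g : SLg ι F), ψ (diag u) * θ g * (ψ (diag u))⁻¹ = θ (cd l u g)
  c1 : ∀ g ∈ fx l, ∀ k, Commute (θ g) (ψ k)
  c2 : ∀ i (h : i ≠ l) x y, Commute (ψ x) (θ (pel h) * ψ y * (θ (pel h))⁻¹)
  e : ∀ r : ι → F, r l = 0 → ∀ a, Commute (θ (row l r)) (ψ (upper a))

/-- The relations of type `C` between `SL` and a long root `SL₂` at the index `l`. -/
structure Rels (θ : SLg ι F →* G) (ψ : SLtwo F →* G) (l : ι) : Prop extends Pre θ ψ l where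
  r : ∀ i, i ≠ l → ∀ (h : i ≠ l) (c a : F),
    θ (col l (c • bv F i)) * ψ (upper a) * (θ (col l (c • bv F i)))⁻¹ =
      ψ (upper a) * (ψ weyl * θ (col l (-(a * c) • bv F i)) * (ψ weyl)⁻¹) *
        (θ (pel h) * ψ (upper (a * c ^ 2)) * (θ (pel h))⁻¹)

open Classical in
/-- The long root elements, by vectors. -/
noncomputable def Qv (θ : SLg ι F →* G) (ψ : SLtwo F →* G) (l : ι) (v : ι → F) (a : F) : G :=
  if h : ∃ g : SLg ι F, g.1 *ᵥ bv F l = v then θ h.choose * ψ (upper a) * (θ h.choose)⁻¹ else 1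

/-- The mixed root elements, by vectors. -/
noncomputable def Yv (θ : SLg ι F →* G) (ψ : SLtwo F →* G) (l : ι) (v : ι → F) : G :=
  ψ weyl * θ (col l v) * (ψ weyl)⁻¹

variable {θ : SLg ι F →* G} {ψ : SLtwo F →* G} {l : ι}

theorem upper_add' (ψ : SLtwo F →* G) (a b : F) : ψ (upper (a + b)) = ψ (upper a) * ψ (upper b) := by
  rw [← map_mul, upper_mul]

theorem diag_conj_upper_inv (u : Fˣ) (a : F) :
    (diag u)⁻¹ * upper a * diag u = upper (((u⁻¹ : Fˣ) : F) ^ 2 * a) := by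
  have := diag_conj_upper u⁻¹ a
  rwa [← diag_inv, inv_inv] at this

theorem weyl_sq : (weyl : SLtwo F) * weyl = SL2.diag (-1 : Fˣ) := by
  rw [weyl_mul_weyl]; apply ext_entries <;> simp

theorem closure_upper_weyl (S : Subgroup (SLtwo F)) (hu : ∀ t, upper t ∈ S) (hw : (weyl : SLtwo F) ∈ S) :
    S = ⊤ := by
  refine Cfsg.Agent.Lib.LinGroup.closure_upper_lower hu fun t => ?_
  have := mul_mem (mul_mem hw (hu (-t))) (inv_mem hw)
  rwa [weyl_conj_upper, neg_neg] at this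

section derived

variable (R : Pre θ ψ l)
include R

/-- The torus at another index. -/
theorem tor {i : ι} (h : i ≠ l) (u : Fˣ) :
    θ (pel h) * ψ (diag u) * (θ (pel h))⁻¹ = θ (dd h u) * ψ (diag u) := by
  have := R.d u (pel h)
  rw [← pel_cd h u, map_mul, map_inv, ← this]
  group

theorem dd_conj {i : ι} (h : i ≠ l) (u : Fˣ) (k : SLtwo F) :
    θ (dd h u) * ψ k * (θ (dd h u))⁻¹ = ψ ((diag u)⁻¹ * k * diag u) := by
  have hc := (R.c2 i h k (diag u)).eq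
  rw [tor R h] at hc
  rw [map_mul, map_mul, map_inv, mul_inv_eq_iff_eq_mul]
  calc θ (dd h u) * ψ k = θ (dd h u) * ψ (diag u) * (ψ (diag u))⁻¹ * ψ k := by group
    _ = _ := by
      have d := R.d u (dd h u)
      have hfix : cd l u (dd h u : SLg ι F) = dd h u := by
        refine SLStd.sl_ext ?_
        ext a b
        rw [cd_apply, dd, SLStd.emb_diag, diagonal_apply]
        simp only [dl]
        split_ifs <;> simp_all [mul_comm, mul_left_comm]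
      rw [hfix, mul_inv_eq_iff_eq_mul] at d
      have d' : (ψ (diag u))⁻¹ * θ (dd h u) = θ (dd h u) * (ψ (diag u))⁻¹ := by
        rw [inv_mul_eq_iff_eq_mul, ← mul_assoc, d, mul_inv_cancel_right]
      calc θ (dd h u) * ψ (diag u) * (ψ (diag u))⁻¹ * ψ k
          = (ψ (diag u))⁻¹ * (ψ (diag u) * θ (dd h u)) * ψ k := by group
        _ = (ψ (diag u))⁻¹ * (ψ k * (θ (dd h u) * ψ (diag u))) := by rw [d, hc, mul_assoc]
        _ = _ := by rw [← d]; group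

theorem dd_conj_upper {i : ι} (h : i ≠ l) (u : Fˣ) (a : F) :
    θ (dd h u) * ψ (upper a) * (θ (dd h u))⁻¹ = ψ (upper (((u⁻¹ : Fˣ) : F) ^ 2 * a)) := by
  rw [dd_conj R h, diag_conj_upper_inv]

theorem stab_upper {g : SLg ι F} (hg : g.1 *ᵥ bv F l = bv F l) (a : F) :
    Commute (θ g) (ψ (upper a)) := by
  obtain ⟨r, hr, k, hk, rfl⟩ := stab_split hg
  rw [map_mul]
  exact (R.c1 k hk _).mul_left (R.e r hr a)

theorem Qv_eq {g : SLg ι F} {v : ι → F} (hg : g.1 *ᵥ bv F l = v) (a : F) :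
    θ g * ψ (upper a) * (θ g)⁻¹ = Qv θ ψ l v a := by
  classical
  have h : ∃ g : SLg ι F, g.1 *ᵥ bv F l = v := ⟨g, hg⟩
  rw [Qv, dif_pos h]
  have hc := stab_upper R (g := h.choose⁻¹ * g)
    (by rw [mul_mulVec', hg]
        exact (congrArg (fun w => (h.choose⁻¹).1 *ᵥ w) h.choose_spec.symm).trans (inv_mulVec_cancel _ _)) a
  rw [map_mul, map_inv] at hc
  calc θ g * ψ (upper a) * (θ g)⁻¹
      = θ h.choose * (((θ h.choose)⁻¹ * θ g) * ψ (upper a) * ((θ h.choose)⁻¹ * θ g)⁻¹) * (θ h.choose)⁻¹ := by group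
    _ = _ := by rw [hc.eq, mul_inv_cancel_right]

omit R in
theorem Qv_zero (a : F) : Qv θ ψ l 0 a = 1 := by
  classical
  rw [Qv, dif_neg]
  exact fun ⟨g, hg⟩ => mulVec_ne_zero g (bv_ne_zero l) hg

omit R in
theorem Qv_fam (v : ι → F) : IsFam (fun a => Qv θ ψ l v a) := by
  intro a b
  show Qv θ ψ l v (a + b) = Qv θ ψ l v a * Qv θ ψ l v b
  unfold Qv
  split_ifs with h
  · rw [upper_add']; group
  · rw [one_mul]

theorem Qv_bv (a : F) : Qv θ ψ l (bv F l) a = ψ (upper a) := by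
  rw [← Qv_eq R (one_mulVec' _) a, map_one, one_mul, inv_one, mul_one]

variable {o : ι} (ho : o ≠ l)
include ho

omit R in
theorem exists_move {v : ι → F} (hv : v ≠ 0) : ∃ g : SLg ι F, g.1 *ᵥ bv F l = v := by
  by_cases h' : v - v l • bv F l = 0
  · rw [sub_eq_zero] at h'
    have hc : v l ≠ 0 := fun e => hv (by rw [h', e, zero_smul])
    refine ⟨dd ho (Units.mk0 _ hc)⁻¹, ?_⟩
    rw [dd_mulVec, dd_bv_right ho, inv_inv, Units.val_mk0, ← h']
  · obtain ⟨k, hk, c, hc, hkc⟩ := exists_fx_col (i := o) ho (v := v - v l • bv F l)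
      (by simp [bv]) h'
    have hr : ((v l / c) • bv F o) l = 0 := by simp [bv, ho.symm]
    refine ⟨k * row l ((v l / c) • bv F o) * pel ho * dd ho (Units.mk0 c hc)⁻¹, ?_⟩
    rw [mul_mulVec', mul_mulVec', mul_mulVec', dd_mulVec, dd_bv_right ho, inv_inv, Units.val_mk0, mulVec_smul,
      pel_mulVec_bv, row_mulVec hr, mulVec_add, hkc, mulVec_smul, hk.1]
    simp [bv, ho.symm, mul_div_cancel₀ (v l) hc]

theorem Qv_conj (g : SLg ι F) (v : ι → F) (a : F) :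
    θ g * Qv θ ψ l v a * (θ g)⁻¹ = Qv θ ψ l (g.1 *ᵥ v) a := by
  rcases eq_or_ne v 0 with rfl | hv
  · rw [mulVec_zero, Qv_zero, mul_one, mul_inv_cancel]
  · obtain ⟨k, hk⟩ := exists_move ho hv
    rw [← Qv_eq R hk, ← Qv_eq R (g := g * k) (by rw [mul_mulVec', hk]), map_mul]
    group

theorem Qv_smul {c : F} (hc : c ≠ 0) (v : ι → F) (a : F) :
    Qv θ ψ l (c • v) a = Qv θ ψ l v (c ^ 2 * a) := by
  rcases eq_or_ne v 0 with rfl | hv
  · rw [smul_zero, Qv_zero, Qv_zero]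
  · obtain ⟨k, hk⟩ := exists_move ho hv
    rw [← Qv_eq R hk, ← Qv_eq R (g := k * dd ho (Units.mk0 c hc)⁻¹) (v := c • v)
      (by rw [mul_mulVec', dd_mulVec, dd_bv_right ho, inv_inv, Units.val_mk0, mulVec_smul, hk]), map_mul,
      _root_.mul_inv_rev, show ∀ p q r : G, p * q * r * (q⁻¹ * p⁻¹) = p * (q * r * q⁻¹) * p⁻¹ from fun p q r => by group,
      dd_conj_upper R ho, inv_inv, Units.val_mk0]

theorem Qv_bv_other {i : ι} (h : i ≠ l) (a : F) :
    θ (pel h) * ψ (upper a) * (θ (pel h))⁻¹ = Qv θ ψ l (bv F i) a := Qv_eq R (pel_mulVec_bv h) a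

omit R in
theorem exists_two_step {v : ι → F} (h' : v - v l • bv F l ≠ 0) :
    ∃ k : SLg ι F, k.1 *ᵥ bv F l = bv F l ∧ ∃ c : F, c ≠ 0 ∧ k.1 *ᵥ (c • bv F o) = v := by
  obtain ⟨k, hk, c, hc, hkc⟩ := exists_fx_col (i := o) ho (v := v - v l • bv F l) (by simp [bv]) h'
  have hr : ((v l / c) • bv F o) l = 0 := by simp [bv, ho.symm]
  refine ⟨k * row l ((v l / c) • bv F o), ?_, c, hc, ?_⟩
  · rw [mul_mulVec', row_mulVec hr, dot_bv, hr, zero_smul, add_zero, hk.1]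
  · rw [mul_mulVec', row_mulVec hr, mulVec_add, hkc, mulVec_smul, hk.1]
    simp [bv, ho.symm, mul_div_cancel₀ (v l) hc]

theorem Qv_upper_commute (v : ι → F) (a b : F) : Commute (ψ (upper a)) (Qv θ ψ l v b) := by
  rcases eq_or_ne v 0 with rfl | hv
  · rw [Qv_zero]; exact Commute.one_right _
  by_cases h' : v - v l • bv F l = 0
  · rw [sub_eq_zero] at h'
    have hc : v l ≠ 0 := fun e => hv (by rw [h', e, zero_smul])
    rw [h', Qv_smul R ho hc, Qv_bv R, Commute, SemiconjBy, ← map_mul, ← map_mul, upper_mul, upper_mul, add_comm]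
  · obtain ⟨k, hk, c, hc, hkc⟩ := exists_two_step ho h'
    rw [← hkc, ← Qv_conj R ho k, Qv_smul R ho hc, ← Qv_bv_other R ho ho]
    have h1 := stab_upper R hk a
    have h2 := (R.c2 o ho (upper a) (upper (c ^ 2 * b))).map (MulAut.conj (θ k)).toMonoidHom
    simp only [MulEquiv.coe_toMonoidHom, MulAut.conj_apply] at h2
    rwa [h1.eq, mul_inv_cancel_right] at h2

theorem Qv_commute (v v' : ι → F) (a b : F) : Commute (Qv θ ψ l v a) (Qv θ ψ l v' b) := by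
  rcases eq_or_ne v 0 with rfl | hv
  · rw [Qv_zero]; exact Commute.one_left _
  obtain ⟨g, hg⟩ := exists_move ho hv
  have h2 := (Qv_upper_commute R ho ((g⁻¹).1 *ᵥ v') a b).map (MulAut.conj (θ g)).toMonoidHom
  simp only [MulEquiv.coe_toMonoidHom, MulAut.conj_apply] at h2
  rwa [Qv_eq R hg, Qv_conj R ho, mulVec_inv_cancel] at h2

end derived

variable (θ ψ l)

/-- The Siegel subgroup. -/
noncomputable def Ssub : Subgroup G := Subgroup.closure {x | ∃ v a, Qv θ ψ l v a = x}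

/-- Its part away from the index `l`. -/
noncomputable def Slsub : Subgroup G := Subgroup.closure {x | ∃ v a, v l = 0 ∧ Qv θ ψ l v a = x}

/-- The mixed root elements. -/
noncomputable def Ysub : Subgroup G where
  carrier := {x | ∃ v : ι → F, v l = 0 ∧ Yv θ ψ l v = x}
  one_mem' := ⟨0, rfl, by rw [Yv, show col l (0 : ι → F) = 1 from tv_zero_left _, map_one, mul_one, mul_inv_cancel]⟩
  mul_mem' := by
    rintro _ _ ⟨v, hv, rfl⟩ ⟨v', hv', rfl⟩
    refine ⟨v + v', by simp [hv, hv'], ?_⟩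
    rw [Yv, Yv, Yv, ← col_add hv hv', map_mul]; group
  inv_mem' := by
    rintro _ ⟨v, hv, rfl⟩
    refine ⟨-v, by simp [hv], ?_⟩
    rw [Yv, Yv, col, col, ← tv_inv_left (by rw [bv_dot, hv]), map_inv]; group

/-- The long root group at `l` with the mixed root elements. -/
noncomputable def Asub : Subgroup G := (ψ.comp upperHom).range ⊔ Ysub θ ψ l

variable {θ ψ l}

theorem upper_mem_A (a : F) : ψ (upper a) ∈ Asub θ ψ l :=
  Subgroup.mem_sup_left ⟨Multiplicative.ofAdd a, rfl⟩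

theorem Yv_mem_A {v : ι → F} (hv : v l = 0) : Yv θ ψ l v ∈ Asub θ ψ l :=
  Subgroup.mem_sup_right ⟨v, hv, rfl⟩

theorem Qv_mem_S (v : ι → F) (a : F) : Qv θ ψ l v a ∈ Ssub θ ψ l := Subgroup.subset_closure ⟨v, a, rfl⟩

theorem Qv_mem_Sl {v : ι → F} (hv : v l = 0) (a : F) : Qv θ ψ l v a ∈ Slsub θ ψ l :=
  Subgroup.subset_closure ⟨v, a, hv, rfl⟩

theorem Slsub_le : Slsub θ ψ l ≤ Ssub θ ψ l :=
  (Subgroup.closure_le _).2 fun _ ⟨v, a, _, h⟩ => h ▸ Qv_mem_S v a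

/-- Everything in one of these subgroups commutes with `g`, tested on generators. -/
theorem commute_closure {s : Set G} {g : G} (h : ∀ x ∈ s, Commute g x) {x : G}
    (hx : x ∈ Subgroup.closure s) : Commute g x := by
  have : Subgroup.closure s ≤ Subgroup.centralizer {g} := (Subgroup.closure_le _).2 fun y hy =>
    Subgroup.mem_centralizer_singleton_iff.2 ((h y hy).symm.eq)
  exact (Subgroup.mem_centralizer_singleton_iff.1 (this hx)).symm

section derived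

variable (R : Pre θ ψ l) {o : ι} (ho : o ≠ l)
include R ho

theorem S_comm {x y : G} (hx : x ∈ Ssub θ ψ l) (hy : y ∈ Ssub θ ψ l) : Commute x y := by
  refine commute_closure ?_ hy
  rintro _ ⟨v', b, rfl⟩
  refine (commute_closure ?_ hx).symm
  rintro _ ⟨v, a, rfl⟩
  exact Qv_commute R ho v' v b a

theorem S_conj (g : SLg ι F) {x : G} (hx : x ∈ Ssub θ ψ l) : θ g * x * (θ g)⁻¹ ∈ Ssub θ ψ l := by
  have : Ssub θ ψ l ≤ (Ssub θ ψ l).comap (MulAut.conj (θ g)).toMonoidHom := by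
    conv_lhs => rw [Ssub]
    rw [Subgroup.closure_le]
    rintro _ ⟨v, a, rfl⟩
    show θ g * Qv θ ψ l v a * (θ g)⁻¹ ∈ Ssub θ ψ l
    rw [Qv_conj R ho]; exact Qv_mem_S _ _
  exact this hx

theorem upper_mem_S (a : F) : ψ (upper a) ∈ Ssub θ ψ l := by
  rw [← Qv_bv R]; exact Qv_mem_S _ _

end derived

section mixed

variable (R : Rels θ ψ l) {o : ι} (ho : o ≠ l)
include R ho

/-- The quadratic identity at the index `l`. -/
theorem ident {v : ι → F} (hv : v l = 0) (a : F) :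
    Qv θ ψ l (bv F l + v) a = ψ (upper a) * Yv θ ψ l (-a • v) * Qv θ ψ l v a := by
  rcases eq_or_ne v 0 with rfl | hv0
  · rw [add_zero, Qv_bv R.toPre, smul_zero, Yv, Qv_zero, mul_one, show col l (0 : ι → F) = 1 from tv_zero_left _,
      map_one, mul_one, mul_inv_cancel, mul_one]
  obtain ⟨k, hk, c, hc, hkc⟩ := exists_fx_col (i := o) ho hv hv0
  have hcv : (c • bv F o) l = 0 := by simp [bv, ho.symm]
  have hcv' : (-(a * c) • bv F o) l = 0 := by simp [bv, ho.symm]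
  have hr := R.r o ho ho c a
  have hL : θ k * ψ (upper a) * (θ k)⁻¹ = ψ (upper a) := by
    rw [(R.c1 k hk _).eq, mul_inv_cancel_right]
  have hY : θ k * (ψ weyl * θ (col l (-(a * c) • bv F o)) * (ψ weyl)⁻¹) * (θ k)⁻¹ = Yv θ ψ l (-a • v) := by
    have h1 : θ k * θ (col l (-(a * c) • bv F o)) * (θ k)⁻¹ = θ (col l (-a • v)) := by
      rw [← map_inv, ← map_mul, ← map_mul]
      refine congrArg θ (tv_conj k (by rw [bv_dot, hcv']) ?_ hk.2)
      rw [← hkc, mulVec_smul, mulVec_smul, smul_smul, neg_mul]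
    have hcw := R.c1 k hk weyl
    rw [Yv, ← h1]
    calc θ k * (ψ weyl * θ (col l (-(a * c) • bv F o)) * (ψ weyl)⁻¹) * (θ k)⁻¹
        = (θ k * ψ weyl) * θ (col l (-(a * c) • bv F o)) * ((θ k * ψ weyl))⁻¹ := by group
      _ = _ := by rw [hcw.eq]; group
  have hQ : θ k * (θ (pel ho) * ψ (upper (a * c ^ 2)) * (θ (pel ho))⁻¹) * (θ k)⁻¹ = Qv θ ψ l v a := by
    rw [Qv_bv_other R.toPre ho ho, show a * c ^ 2 = c ^ 2 * a by ring, ← Qv_smul R.toPre ho hc, Qv_conj R.toPre ho, hkc]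
  have hl : θ k * (θ (col l (c • bv F o)) * ψ (upper a) * (θ (col l (c • bv F o)))⁻¹) * (θ k)⁻¹ =
      Qv θ ψ l (bv F l + v) a := by
    rw [← Qv_bv R.toPre, Qv_conj R.toPre ho, Qv_conj R.toPre ho, col_mulVec hcv, mulVec_add, hk.1, mulVec_smul, hkc]
    simp [bv]
  rw [← hl, hr, show ∀ p x y z : G, p * (x * y * z) * p⁻¹ = (p * x * p⁻¹) * (p * y * p⁻¹) * (p * z * p⁻¹) from
    fun p x y z => by group, hL, hY, hQ]

theorem general {v : ι → F} (hv : v l = 0) (c a : F) :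
    Qv θ ψ l (c • bv F l + v) a = ψ (upper (c ^ 2 * a)) * Yv θ ψ l (-(c * a) • v) * Qv θ ψ l v a := by
  rcases eq_or_ne c 0 with rfl | hc
  · rw [zero_smul, zero_add, zero_mul, neg_zero, zero_smul, Yv, show col l (0 : ι → F) = 1 from tv_zero_left _,
      map_one, mul_one, mul_inv_cancel, mul_one, show (0 : F) ^ 2 * a = 0 by ring, upper_zero, map_one, one_mul]
  have hv' : (c⁻¹ • v) l = 0 := by simp [hv]
  have e1 : c • bv F l + v = c • (bv F l + c⁻¹ • v) := by rw [smul_add, smul_smul, mul_inv_cancel₀ hc, one_smul]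
  rw [e1, Qv_smul R.toPre ho hc, ident R ho hv', ← Qv_smul R.toPre ho hc, smul_smul c, mul_inv_cancel₀ hc, one_smul, smul_smul,
    show -(c ^ 2 * a) * c⁻¹ = -(c * a) by field_simp]

theorem Yv_mem_S {v : ι → F} (hv : v l = 0) : Yv θ ψ l v ∈ Ssub θ ψ l := by
  have h := ident R ho hv (-1)
  rw [neg_neg, one_smul] at h
  have : Yv θ ψ l v = (ψ (upper (-1 : F)))⁻¹ * Qv θ ψ l (bv F l + v) (-1) * (Qv θ ψ l v (-1))⁻¹ := by
    rw [h]; group
  rw [this]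
  exact mul_mem (mul_mem (inv_mem (upper_mem_S R.toPre ho _)) (Qv_mem_S _ _)) (inv_mem (Qv_mem_S _ _))

theorem A_le : Asub θ ψ l ≤ Ssub θ ψ l :=
  sup_le (fun _ ⟨t, ht⟩ => ht ▸ upper_mem_S R.toPre ho t.toAdd) (fun _ ⟨_, hv, hx⟩ => hx ▸ Yv_mem_S R ho hv)

theorem A_normalizer {H : Subgroup G} (hH : H ≤ Ssub θ ψ l) :
    (ψ.comp upperHom).range ≤ Subgroup.normalizer (H : Set G) :=
  le_normalizer_of fun g ⟨t, ht⟩ k hk => by
    rw [← ht, MonoidHom.comp_apply]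
    show ψ (upper t.toAdd) * k * (ψ (upper t.toAdd))⁻¹ ∈ H
    rwa [(S_comm R.toPre ho (upper_mem_S R.toPre ho _) (hH hk)).eq, mul_inv_cancel_right]

theorem mem_A {x : G} (hx : x ∈ Asub θ ψ l) :
    ∃ a v, v l = 0 ∧ x = ψ (upper a) * Yv θ ψ l v := by
  obtain ⟨h, ⟨t, rfl⟩, k, ⟨v, hv, rfl⟩, rfl⟩ := exists_mul
    (A_normalizer R ho (H := Ysub θ ψ l) (fun _ ⟨_, hv, hx⟩ => hx ▸ Yv_mem_S R ho hv)) hx
  exact ⟨t.toAdd, v, hv, rfl⟩

theorem finite_A [Fintype F] :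
    (Asub θ ψ l : Set G).Finite ∧
      Nat.card (Asub θ ψ l) ≤ Fintype.card F * Fintype.card F ^ (Fintype.card ι - 1) := by
  classical
  have hY : (Ysub θ ψ l : Set G) ⊆ Set.range (fun w : {m // m ≠ l} → F => Yv θ ψ l (ext0 l w)) := by
    rintro _ ⟨v, hv, rfl⟩
    refine ⟨fun m => v m.1, ?_⟩
    show Yv θ ψ l _ = _
    congr 1
    ext m
    by_cases hm : m = l
    · simp [ext0, hm, hv]
    · simp [ext0, hm]
  have hfin := (Set.finite_range _).subset hY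
  have hc : Nat.card (Ysub θ ψ l) ≤ Fintype.card F ^ (Fintype.card ι - 1) := by
    have := (Nat.card_mono (Set.finite_range _) hY).trans (Finite.card_range_le _)
    simpa [Nat.card_eq_fintype_card, Fintype.card_subtype_compl] using this
  refine sup_bound (A_normalizer R ho (H := Ysub θ ψ l) fun _ ⟨_, hv, hx⟩ => hx ▸ Yv_mem_S R ho hv) ?_ hfin ?_ hc
  · rw [MonoidHom.coe_range]; exact Set.finite_range _
  · exact (Finite.card_range_le (ψ.comp upperHom)).trans (le_of_eq (by simp [Nat.card_eq_fintype_card]))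

theorem S_le : Ssub θ ψ l ≤ Asub θ ψ l ⊔ Slsub θ ψ l := by
  rw [Ssub, Subgroup.closure_le]
  rintro _ ⟨v, a, rfl⟩
  have h := general R ho (v := v - v l • bv F l) (by simp [bv]) (v l) a
  rw [add_sub_cancel] at h
  rw [h]
  exact mul_mem (mul_mem (Subgroup.mem_sup_left (upper_mem_A _))
    (Subgroup.mem_sup_left (Yv_mem_A (by simp [bv])))) (Subgroup.mem_sup_right (Qv_mem_Sl (by simp [bv]) _))

theorem S_split {x : G} (hx : x ∈ Ssub θ ψ l) :
    ∃ a v, v l = 0 ∧ ∃ s ∈ Slsub θ ψ l, x = ψ (upper a) * Yv θ ψ l v * s := by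
  have hn : Asub θ ψ l ≤ Subgroup.normalizer (Slsub θ ψ l : Set G) := le_normalizer_of fun g hg k hk => by
    rwa [(S_comm R.toPre ho (A_le R ho hg) (Slsub_le hk)).eq, mul_inv_cancel_right]
  obtain ⟨p, hp, s, hs, rfl⟩ := exists_mul hn (S_le R ho hx)
  obtain ⟨a, v, hv, rfl⟩ := mem_A R ho hp
  exact ⟨a, v, hv, s, hs, rfl⟩

/-- The long `SL₂` centralises the part away from `l`. -/
theorem Sl_comm (k : SLtwo F) {x : G} (hx : x ∈ Slsub θ ψ l) : Commute (ψ k) x := by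
  refine commute_closure ?_ hx
  rintro _ ⟨v, a, hv, rfl⟩
  rcases eq_or_ne v 0 with rfl | hv0
  · rw [Qv_zero]; exact Commute.one_right _
  obtain ⟨g, hg, c, hc, hgc⟩ := exists_fx_col (i := o) ho hv hv0
  have h2 := (R.c2 o ho k (upper (c ^ 2 * a))).map (MulAut.conj (θ g)).toMonoidHom
  simp only [MulEquiv.coe_toMonoidHom, MulAut.conj_apply] at h2
  rwa [(R.c1 g hg k).eq, mul_inv_cancel_right, Qv_bv_other R.toPre ho ho, ← Qv_smul R.toPre ho hc, Qv_conj R.toPre ho, hgc] at h2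

theorem weyl_Yv {v : ι → F} (hv : v l = 0) :
    ψ weyl * Yv θ ψ l v * (ψ weyl)⁻¹ = θ (col l (-v)) ∧ (ψ weyl)⁻¹ * θ (col l v) * ψ weyl = Yv θ ψ l (-v) := by
  have e : ∀ w : ι → F, w l = 0 → ψ (weyl * weyl) * θ (col l w) * (ψ (weyl * weyl))⁻¹ = θ (col l (-w)) := by
    intro w hw
    rw [weyl_sq, R.d, col, cd_tv l (-1) (by rw [bv_dot, hw]), show -w = (-1 : F) • w by simp, col, ← tv_smul]
    congr 2
    · ext m; by_cases hm : m = l <;> simp [dl, hm, hw]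
    · ext m; by_cases hm : m = l <;> simp [dl, hm, bv]
  constructor
  · rw [Yv, ← e v hv, map_mul]; group
  · have := e (-v) (by simp [hv])
    rw [neg_neg, map_mul] at this
    rw [← this, Yv]; group

theorem A_conj_fx {g : SLg ι F} (hg : g ∈ fx l) {x : G} (hx : x ∈ Asub θ ψ l) :
    θ g * x * (θ g)⁻¹ ∈ Asub θ ψ l := by
  obtain ⟨a, v, hv, rfl⟩ := mem_A R ho hx
  have hgv : (g.1 *ᵥ v) l = 0 := by
    rw [← bv_dot (g.1 *ᵥ v) l, dotProduct_mulVec, hg.2, bv_dot, hv]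
  have e : θ g * Yv θ ψ l v * (θ g)⁻¹ = Yv θ ψ l (g.1 *ᵥ v) := by
    rw [Yv, Yv, col, col, ← tv_conj g (by rw [bv_dot, hv]) rfl hg.2, map_mul, map_mul, map_inv,
      show θ g * (ψ weyl * θ (tv v (bv F l)) * (ψ weyl)⁻¹) * (θ g)⁻¹ =
        (θ g * ψ weyl) * θ (tv v (bv F l)) * (θ g * ψ weyl)⁻¹ by group, (R.c1 g hg weyl).eq]
    group
  rw [show θ g * (ψ (upper a) * Yv θ ψ l v) * (θ g)⁻¹ = (θ g * ψ (upper a) * (θ g)⁻¹) *
    (θ g * Yv θ ψ l v * (θ g)⁻¹) by group, e, (R.c1 g hg _).eq, mul_inv_cancel_right]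
  exact mul_mem (upper_mem_A a) (Yv_mem_A hgv)

theorem A_conj_row {r : ι → F} (hr : r l = 0) {x : G} (hx : x ∈ Asub θ ψ l) :
    θ (row l r) * x * (θ (row l r))⁻¹ ∈ Asub θ ψ l := by
  obtain ⟨a, v, hv, rfl⟩ := mem_A R ho hx
  set g : SLg ι F := row l r
  set ρ := r ⬝ᵥ v
  have hgl : g.1 *ᵥ bv F l = bv F l := by rw [row_mulVec hr, dot_bv, hr, zero_smul, add_zero]
  have hgv : g.1 *ᵥ v = ρ • bv F l + v := by rw [row_mulVec hr, add_comm]
  have hL : ∀ b, θ g * ψ (upper b) * (θ g)⁻¹ = ψ (upper b) := fun b => by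
    rw [(stab_upper R.toPre hgl b).eq, mul_inv_cancel_right]
  have h := ident R ho hv (-1)
  rw [neg_neg, one_smul] at h
  have hY : Yv θ ψ l v = ψ (upper 1) * Qv θ ψ l (bv F l + v) (-1) * Qv θ ψ l v 1 := by
    rw [h, show Qv θ ψ l v (-1) = (Qv θ ψ l v 1)⁻¹ from (Qv_fam v).neg 1, ← mul_assoc, ← mul_assoc, ← map_mul,
      upper_mul, add_neg_cancel, upper_zero, map_one, one_mul, inv_mul_cancel_right]
  have q1 : θ g * Qv θ ψ l (bv F l + v) (-1) * (θ g)⁻¹ =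
      ψ (upper ((1 + ρ) ^ 2 * (-1))) * Yv θ ψ l ((1 + ρ) • v) * (Qv θ ψ l v 1)⁻¹ := by
    rw [Qv_conj R.toPre ho, mulVec_add, hgl, hgv, ← add_assoc, show bv F l + ρ • bv F l = (1 + ρ) • bv F l by
      rw [add_smul, one_smul], general R ho hv, mul_neg_one, mul_neg_one, neg_neg]
    congr 1
    exact (Qv_fam v).neg 1
  have q2 : θ g * Qv θ ψ l v 1 * (θ g)⁻¹ =
      ψ (upper (ρ ^ 2 * 1)) * Yv θ ψ l (-ρ • v) * Qv θ ψ l v 1 := by
    rw [Qv_conj R.toPre ho, hgv, general R ho hv, mul_one, mul_one]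
  have hv1 : ((1 + ρ) • v) l = 0 := by simp [hv]
  have hv2 : (-ρ • v) l = 0 := by simp [hv]
  rw [show θ g * (ψ (upper a) * Yv θ ψ l v) * (θ g)⁻¹ = (θ g * ψ (upper a) * (θ g)⁻¹) *
    (θ g * Yv θ ψ l v * (θ g)⁻¹) by group, hL, hY,
    show θ g * (ψ (upper 1) * Qv θ ψ l (bv F l + v) (-1) * Qv θ ψ l v 1) * (θ g)⁻¹ =
      (θ g * ψ (upper 1) * (θ g)⁻¹) * (θ g * Qv θ ψ l (bv F l + v) (-1) * (θ g)⁻¹) *
        (θ g * Qv θ ψ l v 1 * (θ g)⁻¹) by group, hL, q1, q2]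
  have hA2 : ψ (upper (ρ ^ 2 * 1)) * Yv θ ψ l (-ρ • v) ∈ Asub θ ψ l :=
    mul_mem (upper_mem_A _) (Yv_mem_A hv2)
  have hc := (S_comm R.toPre ho (inv_mem (Qv_mem_S v 1)) (A_le R ho hA2)).eq
  rw [show ψ (upper a) * (ψ (upper 1) * (ψ (upper ((1 + ρ) ^ 2 * -1)) * Yv θ ψ l ((1 + ρ) • v) * (Qv θ ψ l v 1)⁻¹) *
      (ψ (upper (ρ ^ 2 * 1)) * Yv θ ψ l (-ρ • v) * Qv θ ψ l v 1)) =
    ψ (upper a) * (ψ (upper 1) * (ψ (upper ((1 + ρ) ^ 2 * -1)) * Yv θ ψ l ((1 + ρ) • v)) *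
      ((Qv θ ψ l v 1)⁻¹ * (ψ (upper (ρ ^ 2 * 1)) * Yv θ ψ l (-ρ • v))) * Qv θ ψ l v 1) by group, hc,
    show ψ (upper a) * (ψ (upper 1) * (ψ (upper ((1 + ρ) ^ 2 * -1)) * Yv θ ψ l ((1 + ρ) • v)) *
      (ψ (upper (ρ ^ 2 * 1)) * Yv θ ψ l (-ρ • v) * (Qv θ ψ l v 1)⁻¹) * Qv θ ψ l v 1) =
    ψ (upper a) * (ψ (upper 1) * (ψ (upper ((1 + ρ) ^ 2 * -1)) * Yv θ ψ l ((1 + ρ) • v))) *
      (ψ (upper (ρ ^ 2 * 1)) * Yv θ ψ l (-ρ • v)) by group]
  exact mul_mem (mul_mem (upper_mem_A _)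
    (mul_mem (upper_mem_A _) (mul_mem (upper_mem_A _) (Yv_mem_A hv1)))) hA2

theorem A_conj_diag (u : Fˣ) {x : G} (hx : x ∈ Asub θ ψ l) :
    ψ (diag u) * x * (ψ (diag u))⁻¹ ∈ Asub θ ψ l := by
  obtain ⟨a, v, hv, rfl⟩ := mem_A R ho hx
  have hw : ψ (diag u) * ψ weyl = ψ weyl * ψ (diag u⁻¹) := by
    rw [← map_mul, ← map_mul]
    congr 1
    apply ext_entries <;> simp [mul_00, mul_01, mul_10, mul_11]
  have e : ψ (diag u) * Yv θ ψ l v * (ψ (diag u))⁻¹ = Yv θ ψ l ((u : F) • v) := by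
    rw [Yv, Yv, show ψ (diag u) * (ψ weyl * θ (col l v) * (ψ weyl)⁻¹) * (ψ (diag u))⁻¹ =
      (ψ (diag u) * ψ weyl) * θ (col l v) * (ψ (diag u) * ψ weyl)⁻¹ by group, hw,
      show ψ weyl * ψ (diag u⁻¹) * θ (col l v) * (ψ weyl * ψ (diag u⁻¹))⁻¹ =
        ψ weyl * (ψ (diag u⁻¹) * θ (col l v) * (ψ (diag u⁻¹))⁻¹) * (ψ weyl)⁻¹ by group,
      R.d, col, col, cd_tv l u⁻¹ (by rw [bv_dot, hv]), inv_inv, ← tv_smul]
    congr 4
    · ext m; by_cases hm : m = l <;> simp [dl, hm, hv]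
    · ext m; by_cases hm : m = l <;> simp [dl, hm, bv]
  rw [show ψ (diag u) * (ψ (upper a) * Yv θ ψ l v) * (ψ (diag u))⁻¹ = (ψ (diag u) * ψ (upper a) * (ψ (diag u))⁻¹) *
    (ψ (diag u) * Yv θ ψ l v * (ψ (diag u))⁻¹) by group, e, ← map_inv, ← map_mul, ← map_mul, diag_conj_upper]
  exact mul_mem (upper_mem_A _) (Yv_mem_A (by simp [hv]))

end mixed

end SpGlue

end Cfsg.Agent.Lib.BoundedPresentation
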