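import Mathlib
import Cfsg.Agent.Lib.BoundedPresentation.SpGlue

/-!
A group with the relations of type `C` is no larger than the symplectic group.
-/

set_option autoImplicit false

namespace Cfsg.Agent.Lib.BoundedPresentation

open Matrix Cfsg.Agent.Lib.SL2 Cfsg.Agent.Lib.SpFourPresentation

namespace SpGlue

variable {ι : Type} [DecidableEq ι] [Fintype ι] {F : Type*} [Field F] {G : Type*} [Group G]

theorem mem_normalizer_of_finite {K : Subgroup G} (hK : (K : Set G).Finite) {g : G}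
    (h : ∀ x ∈ K, g * x * g⁻¹ ∈ K) : g ∈ Subgroup.normalizer (K : Set G) := by
  haveI : Finite (K : Set G) := hK
  exact Subgroup.mem_normalizer_fintype h

variable {θ : SLg ι F →* G} {ψ : SLtwo F →* G} {l : ι}

variable (θ ψ l) in
/-- Conjugation into the index `o`. -/
noncomputable def tr {o : ι} (ho : o ≠ l) : G →* G := (MulAut.conj (θ (pel ho))).toMonoidHom

theorem tr_apply {o : ι} (ho : o ≠ l) (x : G) :
    tr θ l ho x = θ (pel ho) * x * (θ (pel ho))⁻¹ := rfl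

theorem tr_fx {o : ι} (ho : o ≠ l) {g : SLg ι F} (hg : g ∈ fx o) :
    ∃ g' ∈ fx l, θ g = tr θ l ho (θ g') := by
  refine ⟨(pel ho)⁻¹ * g * pel ho, ⟨?_, ?_⟩, ?_⟩
  · rw [mul_mulVec', mul_mulVec', pel_mulVec_bv, hg.1]
    conv_lhs => rw [← pel_mulVec_bv ho, inv_mulVec_cancel]
  · rw [vecMul_mul', vecMul_mul']
    conv_lhs => rw [← bv_vecMul_pel ho, inv_vecMul_cancel, hg.2]
    rw [bv_vecMul_pel]
  · rw [tr_apply, ← map_inv, ← map_mul, ← map_mul]
    congr 1; group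

theorem tr_row {o : ι} (ho : o ≠ l) {r : ι → F} (hr : r o = 0) :
    ∃ r', r' l = 0 ∧ θ (row o r) = tr θ l ho (θ (row l r')) := by
  refine ⟨r ᵥ* (pel ho).1, ?_, ?_⟩
  · rw [← dot_bv (r ᵥ* (pel ho).1) l, ← dotProduct_mulVec, pel_mulVec_bv, dot_bv, hr]
  · have hr' : (r ᵥ* (pel ho).1) ⬝ᵥ bv F l = 0 := by rw [← dotProduct_mulVec, pel_mulVec_bv, dot_bv, hr]
    rw [tr_apply, ← map_inv, ← map_mul, ← map_mul, row, row,
      tv_conj (pel ho) hr' (pel_mulVec_bv ho) rfl]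

theorem tr_col {o : ι} (ho : o ≠ l) {v : ι → F} (hv : v o = 0) :
    ((pel ho : SLg ι F)⁻¹.1 *ᵥ v) l = 0 ∧
      θ (col o v) = tr θ l ho (θ (col l ((pel ho : SLg ι F)⁻¹.1 *ᵥ v))) := by
  have h : ((pel ho : SLg ι F)⁻¹.1 *ᵥ v) l = 0 := by
    rw [← bv_dot ((pel ho : SLg ι F)⁻¹.1 *ᵥ v) l, ← bv_vecMul_pel ho, ← dotProduct_mulVec, mulVec_inv_cancel,
      bv_dot, hv]
  refine ⟨h, ?_⟩
  rw [tr_apply, ← map_inv, ← map_mul, ← map_mul, col, col,
    tv_conj (pel ho) (by rw [bv_dot, h]) (mulVec_inv_cancel _ v) (bv_vecMul_pel ho)]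

theorem row_eq_col {o : ι} (c : F) : row o (c • bv F l) = col l (c • bv F o) := by
  rw [row, col, tv_smul]

/-- The transvections in one row. -/
noncomputable def R1 (θ : SLg ι F →* G) (o : ι) : Subgroup G where
  carrier := {x | ∃ r : ι → F, r o = 0 ∧ θ (row o r) = x}
  one_mem' := ⟨0, rfl, by rw [show row o (0 : ι → F) = 1 from tv_zero_right _, map_one]⟩
  mul_mem' := by
    rintro _ _ ⟨r, hr, rfl⟩ ⟨r', hr', rfl⟩
    exact ⟨r + r', by simp [hr, hr'], by rw [← map_mul, row_add hr hr']⟩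
  inv_mem' := by
    rintro _ ⟨r, hr, rfl⟩
    refine ⟨-r, by simp [hr], eq_inv_of_mul_eq_one_left ?_⟩
    rw [← map_mul, row_add (by simp [hr]) hr, neg_add_cancel, show row o (0 : ι → F) = 1 from tv_zero_right _, map_one]

theorem finite_R1 [Fintype F] (θ : SLg ι F →* G) (o : ι) :
    (R1 θ o : Set G).Finite ∧ Nat.card (R1 θ o) ≤ Fintype.card F ^ (Fintype.card ι - 1) := by
  classical
  have hY : (R1 θ o : Set G) ⊆ Set.range (fun w : {m // m ≠ o} → F => θ (row o (ext0 o w))) := by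
    rintro _ ⟨r, hr, rfl⟩
    refine ⟨fun m => r m.1, ?_⟩
    show θ (row o _) = _
    congr 2
    ext m
    by_cases hm : m = o <;> simp [ext0, hm, hr]
  refine ⟨(Set.finite_range _).subset hY, ?_⟩
  have := (Nat.card_mono (Set.finite_range _) hY).trans (Finite.card_range_le _)
  simpa [Nat.card_eq_fintype_card, Fintype.card_subtype_compl] using this

theorem R1_conj {o : ι} {g : SLg ι F} {c : F} (hg : g.1 *ᵥ bv F o = c • bv F o) {x : G} (hx : x ∈ R1 θ o) :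
    θ g * x * (θ g)⁻¹ ∈ R1 θ o := by
  obtain ⟨r, hr, rfl⟩ := hx
  have hc : c ≠ 0 := by
    rintro rfl
    exact mulVec_ne_zero g (bv_ne_zero o) (by rw [hg, zero_smul])
  refine ⟨c • (r ᵥ* (g⁻¹).1), ?_, ?_⟩
  · have hinv : (g⁻¹).1 *ᵥ bv F o = c⁻¹ • bv F o := by
      conv_lhs => rw [← inv_smul_smul₀ hc (bv F o), mulVec_smul, ← hg, inv_mulVec_cancel]
    rw [Pi.smul_apply, ← dot_bv (r ᵥ* (g⁻¹).1) o, ← dotProduct_mulVec, hinv, dotProduct_smul, dot_bv, hr,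
      smul_zero, smul_zero]
  · rw [← map_inv, ← map_mul, ← map_mul, row, row,
      tv_conj g (by rw [dot_bv, hr]) hg (vecMul_inv_cancel g r), tv_smul]

variable (θ ψ l) in
/-- The unipotent radical of the point stabiliser. -/
noncomputable def U1 {o : ι} (ho : o ≠ l) : Subgroup G := R1 θ o ⊔ (Asub θ ψ l).map (tr θ l ho)

variable (θ ψ) in
/-- The Levi part without its torus. -/
noncomputable def G1 (o : ι) : Subgroup G := (fx o).map θ ⊔ ψ.range

variable (θ ψ l) in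
/-- The torus. -/
noncomputable def T1 {o : ι} (ho : o ≠ l) : Subgroup G := ((tr θ l ho).comp (ψ.comp diagHom)).range

variable (θ ψ l) in
/-- The stabiliser of a point. -/
noncomputable def P1 {o : ι} (ho : o ≠ l) : Subgroup G := T1 θ ψ l ho ⊔ (G1 θ ψ o ⊔ U1 θ ψ l ho)

section derived

variable (R : Rels θ ψ l) {o : ι} (ho : o ≠ l)
include R

theorem fx_comm_tr {g : SLg ι F} (hg : g ∈ fx o) (k : SLtwo F) : Commute (θ g) (tr θ l ho (ψ k)) := by
  obtain ⟨g', hg', e⟩ := tr_fx (θ := θ) ho hg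
  rw [e]
  exact (R.c1 g' hg' k).map _

theorem comm_tr (k k' : SLtwo F) : Commute (ψ k) (tr θ l ho (ψ k')) := R.c2 o ho k k'

theorem tr_S {x : G} (hx : x ∈ Ssub θ ψ l) : tr θ l ho x ∈ Ssub θ ψ l := S_conj R.toPre ho _ hx

theorem A1_le_S : (Asub θ ψ l).map (tr θ l ho) ≤ Ssub θ ψ l := by
  rintro _ ⟨y, hy, rfl⟩
  exact tr_S R ho (A_le R ho hy)

theorem tr_Qv (v : ι → F) (a : F) : tr θ l ho (Qv θ ψ l v a) = Qv θ ψ l ((pel ho : SLg ι F).1 *ᵥ v) a :=
  Qv_conj R.toPre ho _ _ _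

theorem A1_conj_fx {g : SLg ι F} (hg : g ∈ fx o) {x : G} (hx : x ∈ (Asub θ ψ l).map (tr θ l ho)) :
    θ g * x * (θ g)⁻¹ ∈ (Asub θ ψ l).map (tr θ l ho) := by
  obtain ⟨g', hg', e⟩ := tr_fx (θ := θ) ho hg
  obtain ⟨y, hy, rfl⟩ := hx
  exact ⟨_, A_conj_fx R ho hg' hy, by rw [e, map_mul, map_mul, map_inv]⟩

theorem Y_sym (b : F) : tr θ l ho (Yv θ ψ l (-b • bv F o)) = Yv θ ψ l (b • bv F o) := by
  rcases eq_or_ne b 0 with rfl | hb
  · simp [Yv, show col l (0 : ι → F) = 1 from tv_zero_left _]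
  have hv : (b • bv F o) l = 0 := by simp [bv, ho.symm]
  have hp : (pel ho : SLg ι F).1 *ᵥ bv F o = -bv F l := by
    rw [pel_mulVec]; simp [bv, ho, ho.symm]
  have e1 : (pel ho : SLg ι F).1 *ᵥ (bv F l + b • bv F o) = (-b) • bv F l + bv F o := by
    rw [mulVec_add, mulVec_smul, pel_mulVec_bv, hp]; simp [add_comm]
  have e2 : (pel ho : SLg ι F).1 *ᵥ (b • bv F o) = (-b) • bv F l := by
    rw [mulVec_smul, hp]; simp
  have h1 := congrArg (tr θ l ho) (ident R ho hv 1)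
  have hL : tr θ l ho (ψ (upper 1)) = Qv θ ψ l (bv F o) 1 := Qv_bv_other R.toPre ho ho 1
  rw [map_mul, map_mul, tr_Qv R ho, tr_Qv R ho, e1, e2, hL, general R ho (v := bv F o) (by simp [bv, ho.symm]),
    Qv_smul R.toPre ho (neg_ne_zero.2 hb), Qv_bv R.toPre, neg_sq, mul_one, mul_one, neg_neg, smul_smul, neg_one_mul] at h1
  have hY : tr θ l ho (Yv θ ψ l (-b • bv F o)) ∈ Ssub θ ψ l :=
    tr_S R ho (Yv_mem_S R ho (by simp [bv, ho.symm]))
  have hY' : Yv θ ψ l (b • bv F o) ∈ Ssub θ ψ l := Yv_mem_S R ho hv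
  rw [(S_comm R.toPre ho (mul_mem (upper_mem_S R.toPre ho (b ^ 2)) hY') (Qv_mem_S (bv F o) 1)).eq, mul_assoc,
    (S_comm R.toPre ho hY (upper_mem_S R.toPre ho (b ^ 2))).eq] at h1
  exact (mul_left_cancel (mul_left_cancel h1)).symm

theorem A1_split {x : G} (hx : x ∈ (Asub θ ψ l).map (tr θ l ho)) :
    ∃ (y : G) (c : F), (∀ k, Commute (ψ k) y) ∧ y ∈ (Asub θ ψ l).map (tr θ l ho) ∧ x = y * Yv θ ψ l (c • bv F o) := by
  obtain ⟨z, hz, rfl⟩ := hx
  obtain ⟨a, v, hv, rfl⟩ := mem_A R ho hz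
  set v' : ι → F := v - v o • bv F o with hv'
  have hv'l : v' l = 0 := by simp [hv', hv, bv, ho.symm]
  have hv'o : v' o = 0 := by simp [hv', bv]
  have hc : (v o • bv F o) l = 0 := by simp [bv, ho.symm]
  refine ⟨tr θ l ho (ψ (upper a) * Yv θ ψ l v'), -v o, fun k => ?_,
    ⟨_, mul_mem (upper_mem_A a) (Yv_mem_A hv'l), rfl⟩, ?_⟩
  · rw [map_mul, Yv, map_mul, map_mul, map_inv]
    refine (comm_tr R ho k _).mul_right (((comm_tr R ho k _).mul_right ?_).mul_right (comm_tr R ho k _).inv_right)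
    have hp : (pel ho : SLg ι F).1 *ᵥ v' = v' := by rw [pel_mulVec, hv'o, hv'l]; simp
    rw [tr_apply, ← map_inv, ← map_mul, ← map_mul, col,
      tv_conj (pel ho) (by rw [bv_dot, hv'l]) hp (bv_vecMul_pel ho)]
    refine (R.c1 _ ?_ k).symm
    exact tv_mem_fx (by rw [bv_dot, hv'o]) hv'l (by simp [bv, ho.symm])
  · rw [← Y_sym R ho, neg_neg, ← map_mul, mul_assoc]
    congr 2
    rw [Yv, Yv, Yv, show v = v' + v o • bv F o by simp [hv'], ← col_add hv'l hc, map_mul]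
    simp [hv', bv]

theorem finite_U1 [Fintype F] : (U1 θ ψ l ho : Set G).Finite ∧
    Nat.card (U1 θ ψ l ho) ≤ Fintype.card F ^ (Fintype.card ι - 1) *
      (Fintype.card F * Fintype.card F ^ (Fintype.card ι - 1)) := by
  obtain ⟨hf, hc⟩ := finite_A R ho
  obtain ⟨hf', hc'⟩ := finite_R1 θ o
  refine sup_bound (le_normalizer_of ?_) hf' (by rw [Subgroup.coe_map]; exact hf.image _) hc' ?_
  · rintro _ ⟨r, hr, rfl⟩ _ ⟨y, hy, rfl⟩
    obtain ⟨r', hr', e⟩ := tr_row (θ := θ) ho hr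
    exact ⟨_, A_conj_row R ho hr' hy, by rw [e, map_mul, map_mul, map_inv]⟩
  · refine le_trans ?_ hc
    exact (Nat.card_congr (Equiv.setCongr (Subgroup.coe_map _ _))).le.trans
      (Nat.card_image_le hf)

theorem psi_norm [Fintype F] (k : SLtwo F) : ψ k ∈ Subgroup.normalizer (U1 θ ψ l ho : Set G) := by
  have hfin := (finite_U1 R ho).1
  suffices h : (Subgroup.normalizer (U1 θ ψ l ho : Set G)).comap ψ = ⊤ from
    Subgroup.mem_comap.1 ((Subgroup.eq_top_iff' _).1 h k)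
  have hA : (Asub θ ψ l).map (tr θ l ho) ≤ U1 θ ψ l ho := le_sup_right
  have hR : R1 θ o ≤ U1 θ ψ l ho := le_sup_left
  have hY : ∀ c : F, Yv θ ψ l (c • bv F o) ∈ U1 θ ψ l ho := fun c => by
    rw [← Y_sym R ho]
    exact hA ⟨_, Yv_mem_A (by simp [bv, ho.symm]), rfl⟩
  have hsplit : ∀ r : ι → F, r o = 0 → ∃ (z : G) (c : F), (∀ k, Commute (ψ k) z) ∧ z ∈ R1 θ o ∧
      θ (row o r) = z * θ (col l (c • bv F o)) := by
    intro r hr
    have h1 : (r - r l • bv F l) o = 0 := by simp [hr, bv, ho]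
    have h2 : (r l • bv F l) o = 0 := by simp [bv, ho]
    refine ⟨θ (row o (r - r l • bv F l)), r l, fun k => ?_, ⟨_, h1, rfl⟩, ?_⟩
    · exact (R.c1 _ (tv_mem_fx (by rw [dot_bv, h1]) (by simp [bv, ho.symm]) (by simp [bv])) k).symm
    · rw [← row_eq_col, ← map_mul, row_add h1 h2, sub_add_cancel]
  refine closure_upper_weyl _ (fun a => mem_normalizer_of_finite hfin fun x hx => ?_)
    (mem_normalizer_of_finite hfin fun x hx => ?_)
  · refine conj_sup_mem (fun y hy => ?_) (fun y hy => ?_) hx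
    · obtain ⟨r, hr, rfl⟩ := hy
      obtain ⟨z, c, hz, hz1, e⟩ := hsplit r hr
      have hcv : (c • bv F o) l = 0 := by simp [bv, ho.symm]
      have h := ident R ho hcv a
      rw [← Qv_bv R.toPre a] at h
      rw [show bv F l + c • bv F o = (col l (c • bv F o)).1 *ᵥ bv F l by
          rw [col_mulVec hcv]; simp [bv], ← Qv_conj R.toPre ho] at h
      rw [Qv_bv R.toPre] at h
      have hS := S_comm R.toPre ho (mul_mem (upper_mem_S R.toPre ho a) (Yv_mem_S R ho (v := -a • c • bv F o) (by simp [bv, ho.symm])))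
        (Qv_mem_S (c • bv F o) a)
      rw [hS.eq] at h
      have key : ψ (upper a) * θ (col l (c • bv F o)) * (ψ (upper a))⁻¹ =
          (Yv θ ψ l (-a • c • bv F o))⁻¹ * (Qv θ ψ l (c • bv F o) a)⁻¹ * θ (col l (c • bv F o)) := by
        have hc2 := S_comm R.toPre ho (upper_mem_S R.toPre ho a) (Yv_mem_S R ho (v := -a • c • bv F o) (by simp [bv, ho.symm]))
        rw [hc2.eq] at h
        calc ψ (upper a) * θ (col l (c • bv F o)) * (ψ (upper a))⁻¹
            = ψ (upper a) * (θ (col l (c • bv F o)) * ψ (upper a) * (θ (col l (c • bv F o)))⁻¹)⁻¹ *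
              θ (col l (c • bv F o)) := by group
          _ = _ := by rw [h]; group
      have hQ : Qv θ ψ l (c • bv F o) a ∈ U1 θ ψ l ho := by
        rcases eq_or_ne c 0 with rfl | hc
        · rw [zero_smul, Qv_zero]; exact one_mem _
        · rw [Qv_smul R.toPre ho hc, ← Qv_bv_other R.toPre ho ho, ← tr_apply]
          exact hA ⟨_, upper_mem_A _, rfl⟩
      rw [e, show ψ (upper a) * (z * θ (col l (c • bv F o))) * (ψ (upper a))⁻¹ =
        (ψ (upper a) * z * (ψ (upper a))⁻¹) * (ψ (upper a) * θ (col l (c • bv F o)) * (ψ (upper a))⁻¹) by group,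
        (hz _).eq, mul_inv_cancel_right, key]
      refine mul_mem (hR hz1) (mul_mem (mul_mem (inv_mem ?_) (inv_mem hQ)) (hR ⟨c • bv F l, by simp [bv, ho], by rw [row_eq_col]⟩))
      rw [smul_smul]; exact hY _
    · rw [(S_comm R.toPre ho (upper_mem_S R.toPre ho a) (A1_le_S R ho hy)).eq, mul_inv_cancel_right]
      exact hA hy
  · refine conj_sup_mem (fun y hy => ?_) (fun y hy => ?_) hx
    · obtain ⟨r, hr, rfl⟩ := hy
      obtain ⟨z, c, hz, hz1, e⟩ := hsplit r hr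
      rw [e, show ψ weyl * (z * θ (col l (c • bv F o))) * (ψ weyl)⁻¹ =
        (ψ weyl * z * (ψ weyl)⁻¹) * (ψ weyl * θ (col l (c • bv F o)) * (ψ weyl)⁻¹) by group,
        (hz _).eq, mul_inv_cancel_right]
      exact mul_mem (hR hz1) (hY c)
    · obtain ⟨z, c, hz, hz1, rfl⟩ := A1_split R ho hy
      rw [show ψ weyl * (z * Yv θ ψ l (c • bv F o)) * (ψ weyl)⁻¹ =
        (ψ weyl * z * (ψ weyl)⁻¹) * (ψ weyl * Yv θ ψ l (c • bv F o) * (ψ weyl)⁻¹) by group,
        (hz _).eq, mul_inv_cancel_right, (weyl_Yv R ho (by simp [bv, ho.symm])).1, ← neg_smul, ← row_eq_col]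
      exact mul_mem (hA hz1) (hR ⟨_, by simp [bv, ho], rfl⟩)

theorem G1_norm [Fintype F] : G1 θ ψ o ≤ Subgroup.normalizer (U1 θ ψ l ho : Set G) := by
  refine sup_le ?_ fun _ ⟨k, hk⟩ => hk ▸ psi_norm R ho k
  rintro _ ⟨g, hg, rfl⟩
  refine mem_normalizer_of_finite (finite_U1 R ho).1 fun x hx => conj_sup_mem (fun y hy => ?_) (fun y hy => ?_) hx
  · exact Subgroup.mem_sup_left (R1_conj (c := 1) (by rw [hg.1, one_smul]) hy)
  · exact Subgroup.mem_sup_right (A1_conj_fx R ho hg hy)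

theorem T1_norm : T1 θ ψ l ho ≤ Subgroup.normalizer ((G1 θ ψ o ⊔ U1 θ ψ l ho : Subgroup G) : Set G) := by
  refine le_normalizer_of ?_
  rintro _ ⟨u, rfl⟩ x hx
  simp only [MonoidHom.comp_apply, diagHom, MonoidHom.coe_mk, OneHom.coe_mk]
  refine conj_sup_mem (fun y hy => Subgroup.mem_sup_left ?_)
    (fun y hy => conj_sup_mem (fun z hz => ?_) (fun z hz => ?_) hy) hx
  · have : G1 θ ψ o ≤ Subgroup.centralizer {tr θ l ho (ψ (diag u))} := by
      refine sup_le ?_ ?_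
      · rintro _ ⟨g, hg, rfl⟩
        exact Subgroup.mem_centralizer_singleton_iff.2 (fx_comm_tr R ho hg _).eq
      · rintro _ ⟨k, rfl⟩
        exact Subgroup.mem_centralizer_singleton_iff.2 (comm_tr R ho k _).eq
    rwa [← (Subgroup.mem_centralizer_singleton_iff.1 (this hy)), mul_inv_cancel_right]
  · refine Subgroup.mem_sup_right (Subgroup.mem_sup_left ?_)
    obtain ⟨r, hr, rfl⟩ := hz
    rw [tr_apply, tor R.toPre ho, show θ (dd ho u) * ψ (diag u) * θ (row o r) * (θ (dd ho u) * ψ (diag u))⁻¹ =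
      θ (dd ho u) * (ψ (diag u) * θ (row o r) * (ψ (diag u))⁻¹) * (θ (dd ho u))⁻¹ by group, R.d, row,
      cd_tv l u (by rw [dot_bv, hr])]
    refine R1_conj (c := (u : F)) (by rw [dd_mulVec, dd_bv_left ho]) ⟨dl l u⁻¹ * r, by simp [hr], ?_⟩
    rw [row]
    congr 2
    ext m
    by_cases hm : m = o
    · subst hm; simp [dl, bv, ho]
    · simp [bv, hm]
  · refine Subgroup.mem_sup_right (Subgroup.mem_sup_right ?_)
    obtain ⟨z', hz', rfl⟩ := hz
    exact ⟨_, A_conj_diag R ho u hz', by rw [map_mul, map_mul, map_inv]⟩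

theorem finite_P1 [Fintype F] (hG1 : (G1 θ ψ o : Set G).Finite) {B : ℕ} (hB : Nat.card (G1 θ ψ o) ≤ B) :
    (P1 θ ψ l ho : Set G).Finite ∧ Nat.card (P1 θ ψ l ho) ≤ (Fintype.card F - 1) *
      (B * (Fintype.card F ^ (Fintype.card ι - 1) * (Fintype.card F * Fintype.card F ^ (Fintype.card ι - 1)))) := by
  classical
  obtain ⟨hU, hUc⟩ := finite_U1 R ho
  obtain ⟨h1, h2⟩ := sup_bound (G1_norm R ho) hG1 hU hB hUc
  refine sup_bound (T1_norm R ho) ?_ h1 ?_ h2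
  · rw [T1, MonoidHom.coe_range]; exact Set.finite_range _
  · refine (Finite.card_range_le ((tr θ l ho).comp (ψ.comp diagHom))).trans ?_
    rw [Nat.card_eq_fintype_card, Fintype.card_units]

theorem S_split1 {x : G} (hx : x ∈ Ssub θ ψ l) : ∃ a ∈ (Asub θ ψ l).map (tr θ l ho),
    ∃ s ∈ Slsub θ ψ l, x = a * tr θ l ho s := by
  obtain ⟨a, v, hv, s, hs, e⟩ := S_split R ho (S_conj R.toPre ho (pel ho)⁻¹ hx)
  refine ⟨tr θ l ho (ψ (upper a) * Yv θ ψ l v), ⟨_, mul_mem (upper_mem_A a) (Yv_mem_A hv), rfl⟩, s, hs, ?_⟩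
  rw [← map_mul, ← e, tr_apply, map_inv]
  group

theorem tr_Sl_comm (k : SLtwo F) {s : G} (hs : s ∈ Slsub θ ψ l) :
    Commute (tr θ l ho (ψ k)) (tr θ l ho s) := (Sl_comm R ho k hs).map _

theorem tr_Sl_mem {s : G} (hs : s ∈ Slsub θ ψ l) : tr θ l ho s ∈ G1 θ ψ o := by
  have : Slsub θ ψ l ≤ (G1 θ ψ o).comap (tr θ l ho) := by
    rw [Slsub, Subgroup.closure_le]
    rintro _ ⟨v, a, hv, rfl⟩
    rw [SetLike.mem_coe, Subgroup.mem_comap, tr_apply, Qv_conj R.toPre ho]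
    set w := (pel ho : SLg ι F).1 *ᵥ v with hw
    have hwo : w o = 0 := by
      rw [← bv_dot w o, hw, dotProduct_mulVec, bv_vecMul_pel, bv_dot, hv]
    rcases eq_or_ne w 0 with h0 | h0
    · rw [h0, Qv_zero]; exact one_mem _
    · obtain ⟨k, hk, c, hc, hkc⟩ := exists_fx_col (i := l) ho.symm hwo h0
      rw [← hkc, ← Qv_conj R.toPre ho, Qv_smul R.toPre ho hc, Qv_bv R.toPre]
      exact mul_mem (mul_mem (Subgroup.mem_sup_left ⟨k, hk, rfl⟩) (Subgroup.mem_sup_right ⟨_, rfl⟩))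
        (inv_mem (Subgroup.mem_sup_left ⟨k, hk, rfl⟩))
  exact this hs

theorem tr_diag_mem (u : Fˣ) : tr θ l ho (ψ (diag u)) ∈ P1 θ ψ l ho := Subgroup.mem_sup_left ⟨u, rfl⟩

omit R in
theorem G1_le : G1 θ ψ o ≤ P1 θ ψ l ho := le_trans le_sup_left le_sup_right

omit R in
theorem psi_mem (k : SLtwo F) : ψ k ∈ P1 θ ψ l ho := G1_le ho (Subgroup.mem_sup_right ⟨k, rfl⟩)

omit R in
theorem U1_le : U1 θ ψ l ho ≤ P1 θ ψ l ho := le_trans le_sup_right le_sup_right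

theorem S_le_P1 {x : G} (hx : x ∈ Ssub θ ψ l) : x ∈ P1 θ ψ l ho := by
  obtain ⟨a, ha, s, hs, rfl⟩ := S_split1 R ho hx
  exact mul_mem (U1_le ho (Subgroup.mem_sup_right ha)) (G1_le ho (tr_Sl_mem R ho hs))

theorem dd_eq (u : Fˣ) : θ (dd ho u) = tr θ l ho (ψ (diag u)) * (ψ (diag u))⁻¹ := by
  rw [tr_apply, tor R.toPre ho, mul_inv_cancel_right]

theorem line_mem {g : SLg ι F} {c : F} (hg : g.1 *ᵥ bv F o = c • bv F o) : θ g ∈ P1 θ ψ l ho := by
  have hc : c ≠ 0 := by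
    rintro rfl
    exact mulVec_ne_zero g (bv_ne_zero o) (by rw [hg, zero_smul])
  set u := Units.mk0 c hc
  have h1 : ((dd ho u)⁻¹ * g).1 *ᵥ bv F o = bv F o := by
    rw [mul_mulVec', hg, dd_inv, mulVec_smul, dd_mulVec, dd_bv_left ho, smul_smul]
    simp [u, hc]
  obtain ⟨r, hr, k, hk, e⟩ := stab_split h1
  rw [show g = dd ho u * (k * row o r) by rw [← e, mul_inv_cancel_left], map_mul, map_mul, dd_eq R ho]
  exact mul_mem (mul_mem (tr_diag_mem R ho u) (inv_mem (psi_mem ho _)))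
    (mul_mem (G1_le ho (Subgroup.mem_sup_left ⟨k, hk, rfl⟩)) (U1_le ho (Subgroup.mem_sup_left ⟨r, hr, rfl⟩)))

theorem w1_mem {h : SLg ι F} {c : F} (hh : bv F o ᵥ* h.1 = c • bv F o) :
    (tr θ l ho (ψ weyl))⁻¹ * θ h * tr θ l ho (ψ weyl) ∈ P1 θ ψ l ho := by
  have hc : c ≠ 0 := by
    rintro rfl
    have := inv_vecMul_cancel h (bv F o)
    rw [hh, zero_smul, zero_vecMul] at this
    exact bv_ne_zero o this.symm
  set u := Units.mk0 c hc
  have h1 : bv F o ᵥ* ((dd ho u)⁻¹ * h).1 = bv F o := by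
    rw [vecMul_mul', dd_inv, dd_vecMul, dd_bv_left ho, smul_vecMul, hh, smul_smul]
    simp [u, hc]
  obtain ⟨v, hv, k, hk, e⟩ := stab_split' h1
  set W := tr θ l ho (ψ weyl) with hW
  rw [show h = dd ho u * (col o v * k) by rw [← e, mul_inv_cancel_left], map_mul, map_mul,
    show W⁻¹ * (θ (dd ho u) * (θ (col o v) * θ k)) * W =
      (W⁻¹ * θ (dd ho u) * W) * (W⁻¹ * θ (col o v) * W) * (W⁻¹ * θ k * W) by group]
  refine mul_mem (mul_mem ?_ ?_) ?_
  · rw [dd_eq R ho, show W⁻¹ * (tr θ l ho (ψ (diag u)) * (ψ (diag u))⁻¹) * W =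
      (W⁻¹ * tr θ l ho (ψ (diag u)) * W) * (W⁻¹ * (ψ (diag u))⁻¹ * W) by group]
    refine mul_mem ?_ ?_
    · rw [hW, ← map_inv, ← map_inv, ← map_mul, ← map_mul, ← map_mul, ← map_mul]
      have : weyl⁻¹ * SL2.diag u * weyl = (SL2.diag u⁻¹ : SLtwo F) := by
        rw [mul_assoc, inv_mul_eq_iff_eq_mul]
        apply ext_entries <;> simp [mul_00, mul_01, mul_10, mul_11]
      rw [this]; exact tr_diag_mem R ho _
    · have := ((comm_tr R ho (diag u) weyl).inv_left).eq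
      rw [← hW] at this
      rw [mul_assoc, this, inv_mul_cancel_left]
      exact inv_mem (psi_mem ho _)
  · obtain ⟨hv', e'⟩ := tr_col (θ := θ) ho hv
    rw [e', hW, ← map_inv, ← map_mul, ← map_mul, (weyl_Yv R ho hv').2]
    exact U1_le ho (Subgroup.mem_sup_right ⟨_, Yv_mem_A (by rw [Pi.neg_apply, hv', neg_zero]), rfl⟩)
  · rw [mul_assoc, (fx_comm_tr R ho hk weyl).eq, ← hW, inv_mul_cancel_left]
    exact G1_le ho (Subgroup.mem_sup_left ⟨k, hk, rfl⟩)

end derived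

end SpGlue

end Cfsg.Agent.Lib.BoundedPresentation
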