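import Mathlib
import Cfsg.Agent.Lib.BoundedPresentation.SpBound
import Cfsg.Agent.Lib.LinGroup.Order

/-!
Counting cosets of a point stabiliser, and the induction on the rank.
-/

set_option autoImplicit false

namespace Cfsg.Agent.Lib.BoundedPresentation

open Matrix Cfsg.Agent.Lib.SL2 Cfsg.Agent.Lib.SpFourPresentation

namespace SpGlue

variable {ι : Type} [DecidableEq ι] [Fintype ι] {F : Type*} [Field F] {G : Type*} [Group G]
variable {θ : SLg ι F →* G} {ψ : SLtwo F →* G} {l : ι}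

theorem weyl_upper_weyl {a : F} (ha : a ≠ 0) :
    (weyl : SLtwo F) * upper a * weyl = upper (-a⁻¹) * weyl * (SL2.diag (Units.mk0 (-a) (neg_ne_zero.2 ha)) * upper (-a⁻¹)) := by
  apply ext_entries <;> simp [mul_00, mul_01, mul_10, mul_11] <;> field_simp <;> ring

section derived

variable (R : Rels θ ψ l) {o : ι} (ho : o ≠ l)
include R ho

omit R in
theorem exists_first {v : ι → F} (hv : v ≠ 0) : ∃ g : SLg ι F, g.1 *ᵥ bv F o = v := by
  by_cases hlo : l = o
  · subst hlo; exact absurd rfl ho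
  exact exists_move (l := o) (o := l) ho.symm hv

omit R in
theorem exists_first_row {v : ι → F} (hv : v ≠ 0) : ∃ g : SLg ι F, bv F o ᵥ* (g⁻¹).1 = v := by
  obtain ⟨g, hg⟩ := exists_first ho hv
  refine ⟨(g.transpose)⁻¹, ?_⟩
  rw [inv_inv, Matrix.SpecialLinearGroup.coe_transpose, vecMul_transpose, hg]

/-- At most this many cosets. -/
theorem finite_and_card_le_step [Fintype F] (hgen : θ.range ⊔ ψ.range = ⊤) (hG1 : (G1 θ ψ o : Set G).Finite)
    {B : ℕ} (hB : Nat.card (G1 θ ψ o) ≤ B) :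
    Finite G ∧ Nat.card G ≤ (Fintype.card F ^ (2 * Fintype.card ι) - 1) *
      (Fintype.card F ^ (2 * Fintype.card ι - 1) * B) := by
  classical
  obtain ⟨hPf, hPc⟩ := finite_P1 R ho hG1 hB
  obtain ⟨hAf, hAc⟩ := finite_A R ho
  set P := P1 θ ψ l ho with hP
  set W1 := tr θ l ho (ψ weyl) with hW1
  set A1 := (Asub θ ψ l).map (tr θ l ho) with hA1
  have hA1f : (A1 : Set G).Finite := by rw [hA1, Subgroup.coe_map]; exact hAf.image _
  haveI : Finite A1 := hA1f
  have repA : ∀ p : Projectivization F (ι → F), ∃ g : SLg ι F, g.1 *ᵥ bv F o = p.rep :=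
    fun p => exists_first ho p.rep_nonzero
  have repB : ∀ p : Projectivization F (ι → F), ∃ g : SLg ι F, bv F o ᵥ* (g⁻¹).1 = p.rep :=
    fun p => exists_first_row ho p.rep_nonzero
  choose gA hgA using repA
  choose gB hgB using repB
  let F1 : Projectivization F (ι → F) → G ⧸ P := fun p => QuotientGroup.mk (θ (gA p))
  let F2 : Projectivization F (ι → F) × A1 → G ⧸ P := fun p => QuotientGroup.mk (θ (gB p.1) * ((p.2 : G) * W1))
  let Om : Set (G ⧸ P) := Set.range F1 ∪ Set.range F2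
  -- the two kinds of cosets
  have mem1 : ∀ g : SLg ι F, (QuotientGroup.mk (θ g) : G ⧸ P) ∈ Om := by
    intro g
    have hv := mulVec_ne_zero g (bv_ne_zero o)
    refine Or.inl ⟨Projectivization.mk F _ hv, QuotientGroup.eq.2 ?_⟩
    obtain ⟨c, hc⟩ := Projectivization.exists_smul_eq_mk_rep F _ hv
    rw [← map_inv, ← map_mul]
    refine line_mem R ho (c := ((c⁻¹ : Fˣ) : F)) ?_
    rw [mul_mulVec']
    have h2 : g.1 *ᵥ bv F o = ((c⁻¹ : Fˣ) : F) • ((gA (Projectivization.mk F _ hv)).1 *ᵥ bv F o) := by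
      rw [hgA, ← hc, ← Units.smul_def, inv_smul_smul]
    exact (congrArg (fun x => ((gA (Projectivization.mk F _ hv))⁻¹).1 *ᵥ x) h2).trans
      (by rw [mulVec_smul, inv_mulVec_cancel])
  have mem2 : ∀ (g : SLg ι F), ∀ s ∈ Ssub θ ψ l, (QuotientGroup.mk (θ g * (s * W1)) : G ⧸ P) ∈ Om := by
    intro g s hs
    have hv : bv F o ᵥ* (g⁻¹).1 ≠ 0 := fun h => bv_ne_zero o (by
      rw [← vecMul_inv_cancel g (bv F o), h, zero_vecMul])
    set p := Projectivization.mk F _ hv
    obtain ⟨c, hc⟩ := Projectivization.exists_smul_eq_mk_rep F _ hv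
    set h : SLg ι F := (gB p)⁻¹ * g with hh
    have hrow : bv F o ᵥ* h.1 = (c : F) • bv F o := by
      rw [hh, vecMul_mul', hgB, ← hc, Units.smul_def, smul_vecMul, vecMul_inv_cancel]
    obtain ⟨a, ha, t, ht, e⟩ := S_split1 R ho (S_conj R.toPre ho h hs)
    refine Or.inr ⟨(p, ⟨a, ha⟩), QuotientGroup.eq.2 ?_⟩
    have e2 : θ g * (s * W1) = θ (gB p) * (a * W1) * (tr θ l ho t * (W1⁻¹ * θ h * W1)) := by
      have hg : θ g = θ (gB p) * θ h := by rw [hh, map_mul, map_inv, mul_inv_cancel_left]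
      have hcm : W1 * tr θ l ho t = tr θ l ho t * W1 := (tr_Sl_comm R ho weyl ht).eq
      calc θ g * (s * W1) = θ (gB p) * (θ h * s * (θ h)⁻¹) * θ h * W1 := by rw [hg]; group
        _ = θ (gB p) * a * (tr θ l ho t * W1) * (W1⁻¹ * θ h * W1) := by rw [e]; group
        _ = _ := by rw [← hcm]; group
    show (θ (gB p) * (a * W1))⁻¹ * (θ g * (s * W1)) ∈ P
    rw [e2, inv_mul_cancel_left]
    exact mul_mem (G1_le ho (tr_Sl_mem R ho ht)) (w1_mem R ho hrow)
  -- invariance
  have hS : ∀ s ∈ Ssub θ ψ l, ∀ g : SLg ι F, (QuotientGroup.mk (s * θ g) : G ⧸ P) ∈ Om ∧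
      ∀ s' ∈ Ssub θ ψ l, (QuotientGroup.mk (s * (θ g * (s' * W1))) : G ⧸ P) ∈ Om := by
    intro s hs g
    have hs' := S_conj R.toPre ho g⁻¹ hs
    refine ⟨?_, fun s' hs2 => ?_⟩
    · rw [QuotientGroup.eq.2 (show (s * θ g)⁻¹ * θ g ∈ P from ?_)]
      · exact mem1 g
      · rw [show (s * θ g)⁻¹ * θ g = (θ g⁻¹ * s * (θ g⁻¹)⁻¹)⁻¹ by rw [map_inv]; group]
        exact inv_mem (S_le_P1 R ho hs')
    · rw [show s * (θ g * (s' * W1)) = θ g * ((θ g⁻¹ * s * (θ g⁻¹)⁻¹ * s') * W1) by rw [map_inv]; group]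
      exact mem2 g _ (mul_mem hs' hs2)
  let Inv : G → Prop := fun k => ∀ x ∈ Om, k • x ∈ Om
  have inv_mul : ∀ a b, Inv a → Inv b → Inv (a * b) := fun a b ha hb x hx => by
    rw [mul_smul]; exact ha _ (hb x hx)
  have cases : ∀ (k : G), (∀ g, (QuotientGroup.mk (k * θ g) : G ⧸ P) ∈ Om) →
      (∀ g, ∀ s ∈ Ssub θ ψ l, (QuotientGroup.mk (k * (θ g * (s * W1))) : G ⧸ P) ∈ Om) → Inv k := by
    intro k h1 h2 x hx
    rcases hx with ⟨p, rfl⟩ | ⟨p, rfl⟩
    · exact h1 _
    · exact h2 _ _ (A1_le_S R ho p.2.2)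
  have invT : ∀ h : SLg ι F, Inv (θ h) := fun h => cases _
    (fun g => by rw [← map_mul]; exact mem1 _)
    (fun g s hs => by rw [← mul_assoc (θ h), ← map_mul]; exact mem2 _ s hs)
  have invS : ∀ s ∈ Ssub θ ψ l, Inv s := fun s hs => cases _ (fun g => (hS s hs g).1)
    (fun g s' hs' => (hS s hs g).2 s' hs')
  -- the class of a row
  have rowClass : ∀ (g g' : SLg ι F) (c : F), bv F o ᵥ* (g'⁻¹ * g).1 = c • bv F o →
      (QuotientGroup.mk (θ g * W1) : G ⧸ P) = QuotientGroup.mk (θ g' * W1) := by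
    intro g g' c hc
    refine (QuotientGroup.eq.2 ?_).symm
    have := w1_mem R ho hc
    rw [map_mul, map_inv] at this
    rw [show (θ g' * W1)⁻¹ * (θ g * W1) = W1⁻¹ * ((θ g')⁻¹ * θ g) * W1 by group]
    exact this
  have core : ∀ (a : F) (g : SLg ι F),
      (QuotientGroup.mk (ψ weyl * ψ (upper a) * θ g * W1) : G ⧸ P) ∈ Om := by
    intro a g
    have transport : ∀ g' : SLg ι F, (∃ c : F, bv F o ᵥ* (g'⁻¹ * g).1 = c • bv F o) →
        (QuotientGroup.mk (ψ weyl * ψ (upper a) * θ g' * W1) : G ⧸ P) ∈ Om →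
        (QuotientGroup.mk (ψ weyl * ψ (upper a) * θ g * W1) : G ⧸ P) ∈ Om := by
      rintro g' ⟨c, hc⟩ h
      have := congrArg (fun x => (ψ weyl * ψ (upper a)) • x) (rowClass g g' c hc)
      simp only [MulAction.Quotient.smul_mk, smul_eq_mul, ← mul_assoc] at this
      rwa [this]
    set u := bv F o ᵥ* (g⁻¹).1 with hu
    have hug : u ᵥ* g.1 = bv F o := vecMul_inv_cancel g _
    have hu0 : u ≠ 0 := fun h => bv_ne_zero o (by rw [← hug, h, zero_vecMul])
    by_cases h' : u - u l • bv F l = 0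
    · rw [sub_eq_zero] at h'
      have hc : u l ≠ 0 := fun e => hu0 (by rw [h', e, zero_smul])
      refine transport (pel ho)⁻¹ ⟨(u l)⁻¹, ?_⟩ ?_
      · rw [inv_inv, vecMul_mul', bv_vecMul_pel, eq_inv_smul_iff₀ hc, ← smul_vecMul, ← h', hug]
      have e : ψ weyl * ψ (upper a) * θ (pel ho)⁻¹ * W1 = θ (pel ho)⁻¹ * tr θ l ho (ψ (weyl * upper a * weyl)) := by
        rw [hW1, tr_apply, tr_apply, map_mul, map_mul, map_inv]; group
      rw [e]
      rcases eq_or_ne a 0 with rfl | ha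
      · rw [upper_zero, mul_one, weyl_sq, QuotientGroup.mk_mul_of_mem _ (tr_diag_mem R ho _)]
        exact mem1 _
      · rw [weyl_upper_weyl ha]
        simp only [map_mul]
        rw [← mul_assoc, QuotientGroup.mk_mul_of_mem _ (mul_mem (tr_diag_mem R ho _)
            (S_le_P1 R ho (tr_S R ho (upper_mem_S R.toPre ho _))))]
        exact mem2 _ _ (tr_S R ho (upper_mem_S R.toPre ho _))
    · obtain ⟨k, hk, c, hc, hkc⟩ := exists_fx_row (i := o) ho (u := u - u l • bv F l) (by simp [bv]) h'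
      set b := u l / c with hb
      set v : ι → F := -b • bv F o with hvdef
      have hv : v l = 0 := by simp [hvdef, bv, ho.symm]
      have hv' : (-v) l = 0 := by simp [hv]
      refine transport (k⁻¹ * col l v) ⟨c⁻¹, ?_⟩ ?_
      · have e3 : bv F o ᵥ* ((k⁻¹ * col l v)⁻¹).1 = c⁻¹ • u := by
          rw [_root_.mul_inv_rev, inv_inv, col, tv_inv_left (by rw [bv_dot, hv]), vecMul_mul', ← col,
            col_vecMul hv', hvdef, bv_dot]
          rw [add_vecMul, smul_vecMul, hk.2, eq_inv_smul_iff₀ hc, smul_add, ← smul_vecMul, hkc, smul_smul]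
          simp [bv, hb, mul_div_cancel₀ (u l) hc]
        rw [vecMul_mul', e3, smul_vecMul, hug]
      have hcomm : ψ weyl * ψ (upper a) * θ k⁻¹ = θ k⁻¹ * (ψ weyl * ψ (upper a)) := by
        have := ((R.c1 k⁻¹ (inv_mem hk) (weyl * upper a))).eq
        rw [map_mul] at this; exact this.symm
      have hcol : θ (col l (-v)) = (θ (col l v))⁻¹ := by
        rw [← map_inv, col, col, tv_inv_left (by rw [bv_dot, hv])]
      have hQ : θ (col l (-v)) * ψ (upper a) * (θ (col l (-v)))⁻¹ =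
          ψ (upper a) * Yv θ ψ l (-a • -v) * Qv θ ψ l (-v) a := by
        rw [← ident R ho hv' a, ← Qv_bv R.toPre, Qv_conj R.toPre ho, col_mulVec hv', show bv F l l = (1 : F) by simp [bv], one_smul]
      have hY1 : (-a • -v) l = 0 := by simp [hv]
      set y := Yv θ ψ l (-a • -v) with hy
      set Q := Qv θ ψ l (-v) a with hQdef
      have hySl : ψ weyl * y = θ (col l (-(-a • -v))) * ψ weyl :=
        mul_inv_eq_iff_eq_mul.1 (weyl_Yv R ho hY1).1
      have hQW : Commute (ψ weyl) Q := Sl_comm R ho weyl (Qv_mem_Sl hv' a)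
      have hyS := Yv_mem_S R ho hY1
      have hW : Commute (ψ weyl * ψ (upper a)) W1 := by
        rw [← map_mul]; exact comm_tr R ho _ weyl
      have e : ψ weyl * ψ (upper a) * θ (k⁻¹ * col l v) * W1 =
          (θ k⁻¹ * Yv θ ψ l v * θ (col l (-(-a • -v)))) * (θ 1 * (Q * W1)) * (ψ weyl * ψ (upper a)) := by
        have h1 : ψ (upper a) * θ (col l v) = θ (col l v) * (ψ (upper a) * y * Q) := by
          rw [← hQ, hcol, inv_inv]; group
        have h2 : ψ weyl * θ (col l v) = Yv θ ψ l v * ψ weyl := by rw [Yv, inv_mul_cancel_right]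
        have h3 : ψ (upper a) * y * Q = y * Q * ψ (upper a) := by
          rw [mul_assoc, (S_comm R.toPre ho (upper_mem_S R.toPre ho a) (mul_mem hyS (Qv_mem_S _ _))).eq]
        calc ψ weyl * ψ (upper a) * θ (k⁻¹ * col l v) * W1
            = θ k⁻¹ * (ψ weyl * (ψ (upper a) * θ (col l v))) * W1 := by
              rw [map_mul, ← mul_assoc, hcomm]; group
          _ = θ k⁻¹ * (ψ weyl * θ (col l v)) * (y * Q * ψ (upper a)) * W1 := by rw [h1, h3]; group
          _ = θ k⁻¹ * Yv θ ψ l v * (ψ weyl * y) * Q * ψ (upper a) * W1 := by rw [h2]; group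
          _ = θ k⁻¹ * Yv θ ψ l v * θ (col l (-(-a • -v))) * (ψ weyl * Q) * ψ (upper a) * W1 := by
            rw [hySl]; group
          _ = θ k⁻¹ * Yv θ ψ l v * θ (col l (-(-a • -v))) * Q * ((ψ weyl * ψ (upper a)) * W1) := by
            rw [hQW.eq]; group
          _ = _ := by rw [hW.eq, map_one]; group
      rw [e, QuotientGroup.mk_mul_of_mem _ (mul_mem (psi_mem ho _) (psi_mem ho _))]
      exact inv_mul _ _ (inv_mul _ _ (invT _) (invS _ (Yv_mem_S R ho hv))) (invT _) _
        (mem2 1 Q (Qv_mem_S _ _))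
  have invW : Inv (ψ weyl) := by
    refine cases _ (fun g => ?_) (fun g s hs => ?_)
    · set v := g.1 *ᵥ bv F o with hvg
      have hv0 : v ≠ 0 := mulVec_ne_zero g (bv_ne_zero o)
      by_cases hvl : v l = 0
      · obtain ⟨k, hk, c, hc, hkc⟩ := exists_fx_col (i := o) ho hvl hv0
        have hP' : θ (k⁻¹ * g) ∈ P := line_mem R ho (c := c) (by
          rw [mul_mulVec', ← hvg, ← hkc, inv_mulVec_cancel])
        have e : ψ weyl * θ g = θ k * (ψ weyl * θ (k⁻¹ * g)) := by
          rw [← mul_assoc (θ k), (R.c1 k hk weyl).eq, mul_assoc, ← map_mul, mul_inv_cancel_left]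
        rw [e, ← mul_assoc, mul_assoc, QuotientGroup.mk_mul_of_mem _ (mul_mem (psi_mem ho _) hP')]
        exact mem1 k
      · set w : ι → F := (v l)⁻¹ • v - bv F l with hwdef
        have hw : w l = 0 := by simp [hwdef, bv, hvl]
        have hP' : θ ((col l w * (pel ho)⁻¹)⁻¹ * g) ∈ P := line_mem R ho (c := v l) (by
          rw [mul_mulVec', ← hvg]
          have hh : (col l w * (pel ho)⁻¹).1 *ᵥ bv F o = (v l)⁻¹ • v := by
            rw [mul_mulVec', show ((pel ho : SLg ι F)⁻¹).1 *ᵥ bv F o = bv F l by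
              conv_lhs => rw [← pel_mulVec_bv ho, inv_mulVec_cancel], col_mulVec hw]
            simp [hwdef, bv]
          have h2 : v = v l • ((col l w * (pel ho)⁻¹).1 *ᵥ bv F o) := by rw [hh, smul_inv_smul₀ hvl]
          exact (congrArg (fun x => ((col l w * (pel ho)⁻¹)⁻¹).1 *ᵥ x) h2).trans
            (by rw [mulVec_smul, inv_mulVec_cancel]))
        have e : ψ weyl * θ g = (θ (pel ho)⁻¹ * (tr θ l ho (Yv θ ψ l w) * W1)) *
            θ ((col l w * (pel ho)⁻¹)⁻¹ * g) := by
          rw [hW1, tr_apply, tr_apply, Yv, map_mul, map_inv, map_inv, map_mul, map_inv]; group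
        rw [e, QuotientGroup.mk_mul_of_mem _ hP']
        exact mem2 _ _ (tr_S R ho (Yv_mem_S R ho hw))
    · have hs' := S_conj R.toPre ho g hs
      obtain ⟨a, v, hv, t, ht, e⟩ := S_split R ho hs'
      have hyS := Yv_mem_S R ho hv
      have e' : ψ weyl * (θ g * (s * W1)) = (t * θ (col l (-v))) * (ψ weyl * ψ (upper a) * θ g * W1) := by
        have h3 : ψ (upper a) * Yv θ ψ l v * t = t * Yv θ ψ l v * ψ (upper a) := by
          rw [(S_comm R.toPre ho (mul_mem (upper_mem_S R.toPre ho a) hyS) (Slsub_le ht)).eq,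
            (S_comm R.toPre ho (upper_mem_S R.toPre ho a) hyS).eq, mul_assoc]
        have h4 : ψ weyl * Yv θ ψ l v = θ (col l (-v)) * ψ weyl := mul_inv_eq_iff_eq_mul.1 (weyl_Yv R ho hv).1
        have h5 := (Sl_comm R ho weyl ht).eq
        calc ψ weyl * (θ g * (s * W1)) = ψ weyl * (θ g * s * (θ g)⁻¹) * θ g * W1 := by group
          _ = ψ weyl * t * Yv θ ψ l v * ψ (upper a) * θ g * W1 := by rw [e, h3]; group
          _ = t * (ψ weyl * Yv θ ψ l v) * ψ (upper a) * θ g * W1 := by rw [h5]; group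
          _ = _ := by rw [h4]; group
      rw [e']
      exact inv_mul _ _ (invS _ (Slsub_le ht)) (invT _) _ (core a g)
  -- the orbit is everything
  have hOmf : Om.Finite := (Set.finite_range _).union (Set.finite_range _)
  have all : ∀ k : G, Inv k := by
    let St : Subgroup G :=
      { carrier := {k | Inv k}
        one_mem' := fun x hx => by rwa [one_smul]
        mul_mem' := fun {a b} ha hb => inv_mul a b ha hb
        inv_mem' := fun {a} ha => fun x hx => by
          obtain ⟨y, hy, hyx⟩ := (Set.Finite.surjOn_iff_bijOn_of_mapsTo hOmf (f := fun y => a • y) ha).2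
            ((Set.Finite.injOn_iff_bijOn_of_mapsTo hOmf (f := fun y => a • y) ha).1
              (MulAction.injective a).injOn) hx
          rw [← hyx, inv_smul_smul]; exact hy }
    have hψ : St.comap ψ = ⊤ := closure_upper_weyl _ (fun a => invS _ (upper_mem_S R.toPre ho a)) invW
    have : St = ⊤ := by
      rw [eq_top_iff, ← hgen, sup_le_iff]
      exact ⟨fun _ ⟨g, hg⟩ => hg ▸ invT g, fun _ ⟨k, hk⟩ => hk ▸ (Subgroup.eq_top_iff' _).1 hψ k⟩
    exact fun k => (Subgroup.eq_top_iff' _).1 this k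
  have hcov : ∀ x : G ⧸ P, x ∈ Om := by
    intro x
    obtain ⟨k, rfl⟩ := QuotientGroup.mk_surjective x
    have h1 : ((1 : G) : G ⧸ P) ∈ Om := by have := mem1 1; rwa [map_one] at this
    have := all k _ h1
    rwa [MulAction.Quotient.smul_mk, smul_eq_mul, mul_one] at this
  haveI : Finite (G ⧸ P) := Finite.of_finite_univ (hOmf.subset fun x _ => hcov x)
  haveI : Finite P := hPf
  set q := Fintype.card F with hq
  set m := Fintype.card ι with hm
  set M := Nat.card (Projectivization F (ι → F)) with hM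
  have hA1c : Nat.card A1 ≤ q * q ^ (m - 1) :=
    ((Nat.card_congr (Equiv.setCongr (Subgroup.coe_map _ _))).le.trans (Nat.card_image_le hAf)).trans hAc
  have hidx : Nat.card (G ⧸ P) ≤ M + M * (q * q ^ (m - 1)) := by
    have hu : (Set.univ : Set (G ⧸ P)) = Set.range F1 ∪ Set.range F2 :=
      (Set.eq_univ_of_forall hcov).symm
    rw [← Nat.card_univ, hu, Nat.card_coe_set_eq]
    refine (Set.ncard_union_le _ _).trans (Nat.add_le_add ?_ ?_)
    · rw [← Nat.card_coe_set_eq]; exact Finite.card_range_le _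
    · rw [← Nat.card_coe_set_eq]
      refine (Finite.card_range_le _).trans ?_
      rw [Nat.card_prod]
      exact Nat.mul_le_mul_left M hA1c
  refine ⟨Nat.finite_of_card_ne_zero ?_, ?_⟩
  · rw [Subgroup.card_eq_card_quotient_mul_card_subgroup P]
    exact Nat.mul_ne_zero Nat.card_pos.ne' Nat.card_pos.ne'
  rw [Subgroup.card_eq_card_quotient_mul_card_subgroup P]
  refine (Nat.mul_le_mul hidx hPc).trans (le_of_eq ?_)
  have hM1 : q ^ m = M * (q - 1) + 1 := by
    have := Projectivization.card' (k := F) (V := ι → F)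
    rwa [Nat.card_fun, Nat.card_eq_fintype_card, Nat.card_eq_fintype_card] at this
  obtain ⟨m', hm'⟩ : ∃ m', m = m' + 1 := ⟨m - 1, by
    have : 0 < m := Fintype.card_pos_iff.2 ⟨o⟩
    omega⟩
  rw [hm', Nat.add_sub_cancel, ← pow_succ', ← hm', show q ^ (2 * m) = (q ^ m) * (q ^ m) by rw [← pow_add]; ring_nf,
    show 2 * m - 1 = m' + m by omega, pow_add, hM1]
  have : (M * (q - 1) + 1) * (M * (q - 1) + 1) - 1 = (q - 1) * (M + M * (M * (q - 1) + 1)) := by
    rw [Nat.sub_eq_iff_eq_add (Nat.one_le_iff_ne_zero.2 (by positivity))]; ring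
  rw [this]
  ring

end derived

end SpGlue

/-- The order of the symplectic group. -/
def spBound (q n : ℕ) : ℕ := q ^ (n ^ 2) * ∏ i ∈ Finset.range n, (q ^ (2 * (i + 1)) - 1)

open SpGlue in
universe u in
theorem SpGlue.bound {F : Type*} [Field F] [Fintype F] : ∀ (n : ℕ) (ι : Type) [DecidableEq ι] [Fintype ι] (l : ι)
    (G : Type u) [Group G] (θ : SLg ι F →* G) (ψ : SLtwo F →* G), Fintype.card ι = n + 1 → Rels θ ψ l →
    θ.range ⊔ ψ.range = ⊤ → Finite G ∧ Nat.card G ≤ spBound (Fintype.card F) (n + 1) := by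
  classical
  intro n
  induction n with
  | zero =>
    intro ι _ _ l G _ θ ψ hn R hgen
    have : Subsingleton ι := Fintype.card_le_one_iff_subsingleton.1 hn.le
    have hsur : Function.Surjective ψ := by
      rw [← MonoidHom.range_eq_top, eq_top_iff, ← hgen, sup_le_iff]
      refine ⟨?_, le_rfl⟩
      rintro _ ⟨g, rfl⟩
      rw [Subsingleton.elim g 1, map_one]; exact one_mem _
    haveI : Finite G := Finite.of_surjective ψ hsur
    refine ⟨inferInstance, (Nat.card_le_card_of_surjective ψ hsur).trans (le_of_eq ?_)⟩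
    have h := LinGroup.card_SL_mul (F := F) 2 (by norm_num)
    have h1 : 1 < Fintype.card F := Fintype.one_lt_card
    refine Nat.eq_of_mul_eq_mul_left (show 0 < Fintype.card F - 1 by omega) ?_
    rw [h]
    obtain ⟨x, hx⟩ : ∃ x, Fintype.card F = x + 2 := ⟨Fintype.card F - 2, by omega⟩
    simp [spBound, hx, Finset.prod_range_succ, Nat.card_eq_fintype_card]
    have a1 : (x + 2) ^ 2 - 1 = x ^ 2 + 4 * x + 3 := by
      rw [show (x + 2) ^ 2 = x ^ 2 + 4 * x + 3 + 1 by ring, Nat.add_sub_cancel]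
    have a2 : (x + 2) ^ 2 - (x + 2) = x ^ 2 + 3 * x + 2 := by
      rw [show (x + 2) ^ 2 = x ^ 2 + 3 * x + 2 + (x + 2) by ring, Nat.add_sub_cancel]
    rw [a1, a2]
    ring
  | succ n ih =>
    intro ι _ _ l G _ θ ψ hn R hgen
    haveI : Nontrivial ι := Fintype.one_lt_card_iff_nontrivial.1 (by omega)
    obtain ⟨o, ho⟩ := exists_ne l
    set l' : {m // m ≠ o} := ⟨l, ho.symm⟩
    set H := G1 θ ψ o
    let θ' : SLg {m // m ≠ o} F →* H := (θ.comp (SubE o)).codRestrict H
      fun g => Subgroup.mem_sup_left ⟨_, SubE_mem_fx o g, rfl⟩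
    let ψ' : SLtwo F →* H := ψ.codRestrict H fun k => Subgroup.mem_sup_right ⟨k, rfl⟩
    have R' : Rels θ' ψ' l' := by
      refine ⟨⟨fun u g => ?_, fun g hg k => ?_, fun i h x y => ?_, fun r hr a => ?_⟩, fun i _ h c a => ?_⟩
      · apply Subtype.ext
        show ψ (SL2.diag u) * θ (SubE o g) * (ψ (SL2.diag u))⁻¹ = θ (SubE o (cd l' u g))
        rw [SubE_cd]; exact R.d u _
      · apply Subtype.ext
        exact (R.c1 _ (SubE_fx_self o hg) k).eq
      · apply Subtype.ext
        show ψ x * (θ (SubE o (pel h)) * ψ y * (θ (SubE o (pel h)))⁻¹) = _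
        rw [SubE_pel]
        have := (R.c2 i.1 (fun e => h (Subtype.ext e)) x y).eq
        rw [this]
        show _ = θ (SubE o (pel h)) * ψ y * (θ (SubE o (pel h)))⁻¹ * ψ x
        rw [SubE_pel]
      · apply Subtype.ext
        show θ (SubE o (row l' r)) * ψ (upper a) = ψ (upper a) * θ (SubE o (row l' r))
        rw [row, SubE_tv o (by rw [dot_bv, hr]), ext0_single]
        exact (R.e _ (by simpa [ext0, ho.symm] using hr) a).eq
      · have hcol : ∀ d : F, SubE o (col l' (d • bv F i) : SLg {m // m ≠ o} F) = col l (d • bv F i.1) := by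
          intro d
          rw [col, SubE_tv o (by simp [bv_dot, bv, Ne.symm h]), ext0_single, ext0_smul, ext0_single]
          rfl
        apply Subtype.ext
        show θ (SubE o (col l' (c • bv F i))) * ψ (upper a) * (θ (SubE o (col l' (c • bv F i))))⁻¹ =
          ψ (upper a) * (ψ weyl * θ (SubE o (col l' (-(a * c) • bv F i))) * (ψ weyl)⁻¹) *
            (θ (SubE o (pel h)) * ψ (upper (a * c ^ 2)) * (θ (SubE o (pel h)))⁻¹)
        rw [hcol, hcol, SubE_pel]
        exact R.r i.1 (fun e => h (Subtype.ext e)) _ c a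
    have hgen' : θ'.range ⊔ ψ'.range = ⊤ := by
      apply Subgroup.map_injective H.subtype_injective
      rw [Subgroup.map_sup, MonoidHom.map_range, MonoidHom.map_range, ← MonoidHom.range_eq_map,
        Subgroup.range_subtype]
      refine congrArg₂ (· ⊔ ·) ?_ rfl
      refine le_antisymm ?_ ?_
      · rintro _ ⟨g, rfl⟩; exact ⟨_, SubE_mem_fx o g, rfl⟩
      · rintro _ ⟨g, hg, rfl⟩
        obtain ⟨g', rfl⟩ := SubE_surj o hg
        exact ⟨g', rfl⟩
    obtain ⟨hf, hc⟩ := ih {m // m ≠ o} l' H θ' ψ'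
      (by rw [Fintype.card_subtype_compl, Fintype.card_subtype_eq]; omega) R' hgen'
    obtain ⟨h1, h2⟩ := finite_and_card_le_step R ho hgen (Set.toFinite _) hc
    refine ⟨h1, h2.trans (le_of_eq ?_)⟩
    rw [hn, spBound, spBound, Finset.prod_range_succ _ (n + 1), show 2 * (n + 1 + 1) - 1 = 2 * n + 3 by omega,
      show (n + 1 + 1) ^ 2 = (2 * n + 3) + (n + 1) ^ 2 by ring, pow_add]
    ring

end Cfsg.Agent.Lib.BoundedPresentation
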