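import Mathlib
import Cfsg.Agent.Lib.BoundedPresentation.SpGlue

/-!
Few relators give the relations of type `C`.
-/

set_option autoImplicit false

namespace Cfsg.Agent.Lib.BoundedPresentation

open Matrix Cfsg.Agent.Lib.SL2 Cfsg.Agent.Lib.SpFourPresentation

namespace SpGlue

variable {ι : Type} [DecidableEq ι] [Fintype ι] {F : Type*} [Field F] {l o : ι}

section words

variable {G : Type*} [Group G]

/-- The relators. -/
noncomputable def relList (ω : Fˣ) (ho : o ≠ l) (gs gs' : List (SLg ι F)) (ks : List (SLtwo F))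
    (ps : List (SLtwo F × SLtwo F)) (θ : SLg ι F → G) (ψ : SLtwo F → G) : List G :=
  gs.map (fun g => ψ (SL2.diag ω) * θ g * (ψ (SL2.diag ω))⁻¹ * (θ (cd l ω g))⁻¹) ++
  (gs'.flatMap (fun g => ks.map (fun k => θ g * ψ k * (θ g)⁻¹ * (ψ k)⁻¹)) ++
  (ks.map (fun k => θ (dd ho ω) * ψ k * (θ (dd ho ω))⁻¹ * (ψ ((SL2.diag ω)⁻¹ * k * SL2.diag ω))⁻¹) ++
  (ps.map (fun p => ψ p.1 * (θ (pel ho) * ψ p.2 * (θ (pel ho))⁻¹) * (ψ p.1)⁻¹ *
      (θ (pel ho) * ψ p.2 * (θ (pel ho))⁻¹)⁻¹) ++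
  [θ (row l (bv F o)) * ψ (upper 1) * (θ (row l (bv F o)))⁻¹ * (ψ (upper 1))⁻¹,
   θ (col l (bv F o)) * ψ (upper 1) * (θ (col l (bv F o)))⁻¹ *
     (ψ (upper 1) * (ψ weyl * θ (col l (-bv F o)) * (ψ weyl)⁻¹) *
       (θ (pel ho) * ψ (upper 1) * (θ (pel ho))⁻¹))⁻¹])))

theorem length_relList (ω : Fˣ) (ho : o ≠ l) (gs gs' : List (SLg ι F)) (ks : List (SLtwo F))
    (ps : List (SLtwo F × SLtwo F)) (θ : SLg ι F → G) (ψ : SLtwo F → G) :
    (relList ω ho gs gs' ks ps θ ψ).length =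
      gs.length + gs'.length * ks.length + ks.length + ps.length + 2 := by
  simp only [relList, List.length_append, List.length_map, List.length_flatMap, List.length_cons,
    List.length_nil, List.map_const', List.sum_replicate, smul_eq_mul]
  omega

theorem map_relList {H : Type*} [Group H] (f : G →* H) (ω : Fˣ) (ho : o ≠ l) (gs gs' : List (SLg ι F))
    (ks : List (SLtwo F)) (ps : List (SLtwo F × SLtwo F)) (θ : SLg ι F → G) (ψ : SLtwo F → G) :
    (relList ω ho gs gs' ks ps θ ψ).map f =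
      relList ω ho gs gs' ks ps (fun g => f (θ g)) (fun g => f (ψ g)) := by
  simp only [relList, List.map_append, List.map_map, List.map_flatMap, List.map_cons, List.map_nil, map_mul,
    map_inv, Function.comp_def]

end words

theorem relList_of_rels {G : Type*} [Group G] {θ : SLg ι F →* G} {ψ : SLtwo F →* G} (R : Rels θ ψ l)
    (ω : Fˣ) (ho : o ≠ l) (gs : List (SLg ι F)) {gs' : List (SLg ι F)} (hgs' : ∀ g ∈ gs', g ∈ fx l)
    (ks : List (SLtwo F)) (ps : List (SLtwo F × SLtwo F)) :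
    ∀ x ∈ relList ω ho gs gs' ks ps θ ψ, x = 1 := by
  intro x hx
  simp only [relList, List.mem_append, List.mem_map, List.mem_flatMap, List.mem_cons, List.not_mem_nil,
    or_false] at hx
  rcases hx with ⟨g, -, rfl⟩ | ⟨g, hg, k, -, rfl⟩ | ⟨k, -, rfl⟩ | ⟨p, -, rfl⟩ | rfl | rfl
  · rw [R.d, mul_inv_cancel]
  · rw [(R.c1 g (hgs' g hg) k).eq, mul_inv_cancel_right, mul_inv_cancel]
  · rw [dd_conj R.toPre ho, mul_inv_cancel]
  · rw [(R.c2 o ho p.1 p.2).eq, mul_inv_cancel_right, mul_inv_cancel]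
  · rw [(R.e (bv F o) (by simp [bv, ho.symm]) 1).eq, mul_inv_cancel_right, mul_inv_cancel]
  · have h := R.r o ho ho 1 1
    rw [one_smul, mul_one, one_pow, mul_one, neg_one_smul] at h
    rw [h, mul_inv_cancel]

section derived

variable {G : Type*} [Group G] {θ : SLg ι F →* G} {ψ : SLtwo F →* G}

theorem pel_braid {i : ι} (hi : i ≠ l) (ho : o ≠ l) (hio : i ≠ o) :
    (pel hio : SLg ι F) * pel ho = pel hi * pel hio := by
  refine sl_ext_vec fun v => ?_
  rw [mul_mulVec', mul_mulVec', pel_mulVec, pel_mulVec, pel_mulVec, pel_mulVec]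
  ext m
  simp only [bv, Pi.add_apply, Pi.smul_apply, Pi.single_apply, smul_eq_mul]
  rcases eq_or_ne m i with rfl | hmi
  · simp [hi, hio, Ne.symm hio, hi.symm, ho, ho.symm]
  rcases eq_or_ne m o with rfl | hmo
  · simp [hi, hio, Ne.symm hio, hi.symm, ho, ho.symm]
  rcases eq_or_ne m l with rfl | hml
  · simp [hi, hio, Ne.symm hio, hi.symm, ho, ho.symm]
  · simp [hmi, hmo, hml]

theorem pre_of_relList {ω : Fˣ} (hgen : ∀ t : F, t ≠ 0 → ∃ n : ℕ, (ω : F) ^ n = t)
    (hspan : ∀ S : AddSubgroup F, (1 : F) ∈ S → (∀ t ∈ S, (ω : F) ^ 2 * t ∈ S) → ∀ t, t ∈ S)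
    (ho : o ≠ l) {gs gs' : List (SLg ι F)} (hgs : Subgroup.closure {g | g ∈ gs} = ⊤)
    (hgs' : ∀ g ∈ gs', g ∈ fx l) (hgs'2 : fx l ≤ Subgroup.closure {g : SLg ι F | g ∈ gs'})
    {ks : List (SLtwo F)} (hks : Subgroup.closure (insert (SL2.diag ω) {k | k ∈ ks}) = ⊤)
    {ps : List (SLtwo F × SLtwo F)} (hps : ∀ x ∈ ks, ∀ y ∈ ks, (x, y) ∈ ps ∨ (y, x) ∈ ps)
    (h : ∀ x ∈ relList ω ho gs gs' ks ps θ ψ, x = 1) : Pre θ ψ l := by
  simp only [relList, List.forall_mem_append, List.forall_mem_map, List.mem_flatMap, mul_inv_eq_one,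
    List.forall_mem_cons] at h
  obtain ⟨hd1, hc1', hH, hp, he, -, -⟩ := h
  -- powers of `ω`
  have units : ∀ P : Fˣ → Prop, P 1 → (∀ u, P u → P (ω * u)) → ∀ u, P u := by
    intro P h1 hstep u
    obtain ⟨n, hn⟩ := hgen u u.ne_zero
    have : u = ω ^ n := Units.ext (by simpa using hn.symm)
    subst this
    clear hn
    induction n with
    | zero => simpa using h1
    | succ n ih => rw [pow_succ']; exact hstep _ ih
  have hdω : ∀ g, ψ (SL2.diag ω) * θ g * (ψ (SL2.diag ω))⁻¹ = θ (cd l ω g) := fun g => by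
    have : (MulAut.conj (ψ (SL2.diag ω))).toMonoidHom.comp θ = θ.comp (cd l ω) :=
      MonoidHom.eq_of_eqOn_dense hgs fun x hx => hd1 x hx
    exact DFunLike.congr_fun this g
  have hd : ∀ (u : Fˣ) g, ψ (SL2.diag u) * θ g * (ψ (SL2.diag u))⁻¹ = θ (cd l u g) := by
    refine units _ (fun g => by rw [SL2.diag_one, map_one, one_mul, inv_one, mul_one, cd_one]) fun u hu g => ?_
    rw [← SL2.diag_mul, map_mul, ← cd_cd, ← hdω, ← hu]
    group
  have hc1 : ∀ g ∈ fx l, ∀ k, Commute (θ g) (ψ k) := by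
    intro g hg k
    have hk : ∀ g ∈ gs', ∀ k, Commute (θ g) (ψ k) := by
      intro g hg k
      have : (⊤ : Subgroup (SLtwo F)) ≤ (Subgroup.centralizer {θ g}).comap ψ := by
        rw [← hks, Subgroup.closure_le]
        intro x hx
        rw [SetLike.mem_coe, Subgroup.mem_comap, Subgroup.mem_centralizer_singleton_iff]
        rcases hx with rfl | hx
        · have := hdω g
          rw [cd_fx (hgs' g hg), mul_inv_eq_iff_eq_mul] at this
          exact this
        · have : θ g * ψ x * (θ g)⁻¹ * (ψ x)⁻¹ = 1 := hc1' _ ⟨g, hg, List.mem_map.2 ⟨x, hx, rfl⟩⟩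
          rw [mul_inv_eq_one, mul_inv_eq_iff_eq_mul] at this
          exact this.symm
      exact (Subgroup.mem_centralizer_singleton_iff.1 (this (Subgroup.mem_top k))).symm
    have : fx l ≤ (Subgroup.centralizer {ψ k}).comap θ := hgs'2.trans ((Subgroup.closure_le _).2 fun x hx =>
      Subgroup.mem_centralizer_singleton_iff.2 (hk x hx k).eq)
    exact Subgroup.mem_centralizer_singleton_iff.1 (this hg)
  -- the torus at `o`
  set P := θ (pel ho) with hP
  have tor' : ∀ u : Fˣ, P * ψ (SL2.diag u) * P⁻¹ = θ (dd ho u) * ψ (SL2.diag u) := fun u => by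
    rw [hP, ← pel_cd ho u, map_mul, map_inv, ← hd]
    group
  have hddt : ∀ u v : Fˣ, ψ (SL2.diag v) * θ (dd ho u) = θ (dd ho u) * ψ (SL2.diag v) := fun u v => by
    have hfix : cd l v (dd ho u : SLg ι F) = dd ho u := by
      refine SLStd.sl_ext ?_
      ext a b
      rw [cd_apply, dd, SLStd.emb_diag]
      rcases eq_or_ne a b with rfl | hab
      · rw [diagonal_apply_eq, mul_right_comm, show dl l v a * dl l v⁻¹ a = (1 : F) by
          simp only [dl]; split_ifs <;> simp, one_mul]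
      · rw [diagonal_apply_ne _ hab, mul_zero, zero_mul]
    have := hd v (dd ho u)
    rwa [hfix, mul_inv_eq_iff_eq_mul] at this
  have hsat : ∀ (x : G), Commute (ψ (SL2.diag ω)) x → (∀ k ∈ ks, Commute (ψ k) x) → ∀ k, Commute (ψ k) x := by
    intro x h1 h2 k
    have : (⊤ : Subgroup (SLtwo F)) ≤ (Subgroup.centralizer {x}).comap ψ := by
      rw [← hks, Subgroup.closure_le]
      intro y hy
      rw [SetLike.mem_coe, Subgroup.mem_comap, Subgroup.mem_centralizer_singleton_iff]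
      rcases hy with rfl | hy
      exacts [h1.eq, (h2 y hy).eq]
    exact Subgroup.mem_centralizer_singleton_iff.1 (this (Subgroup.mem_top k))
  have hT : ∀ (u : Fˣ) k, Commute (ψ k) (P * ψ (SL2.diag u) * P⁻¹) := by
    have h0 : ∀ k, Commute (ψ k) (P * ψ (SL2.diag ω) * P⁻¹) := by
      refine hsat _ ?_ fun k hk => ?_
      · rw [tor']
        exact Commute.mul_right (hddt ω ω) (Commute.refl _)
      · have e := hH k hk
        rw [tor', ← hddt]
        show ψ k * (ψ (SL2.diag ω) * θ (dd ho ω)) = ψ (SL2.diag ω) * θ (dd ho ω) * ψ k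
        rw [mul_assoc (ψ (SL2.diag ω)) _ (ψ k), mul_inv_eq_iff_eq_mul.1 e, map_mul, map_mul, map_inv]
        group
    refine units _ (fun k => by rw [SL2.diag_one, map_one, mul_one, mul_inv_cancel]; exact Commute.one_right _)
      fun u hu k => ?_
    rw [← SL2.diag_mul, map_mul, show P * (ψ (SL2.diag ω) * ψ (SL2.diag u)) * P⁻¹ =
      (P * ψ (SL2.diag ω) * P⁻¹) * (P * ψ (SL2.diag u) * P⁻¹) by group]
    exact (h0 k).mul_right (hu k)
  have hPP : ∀ k, Commute (ψ k) (P * P) := by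
    intro k
    have e : P * P = θ (dd ho (-1)) := by
      rw [hP, ← map_mul, pel, dd, ← map_mul, weyl_sq]
    have e2 : θ (dd ho (-1)) = P * ψ (SL2.diag (-1 : Fˣ)) * P⁻¹ * (ψ (SL2.diag (-1 : Fˣ)))⁻¹ := by
      rw [tor', mul_inv_cancel_right]
    rw [e, e2]
    refine (hT _ k).mul_right (Commute.inv_right ?_)
    show ψ k * ψ (SL2.diag (-1 : Fˣ)) = ψ (SL2.diag (-1 : Fˣ)) * ψ k
    rw [← map_mul, ← map_mul]
    congr 1
    apply ext_entries <;> simp [mul_00, mul_01, mul_10, mul_11]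
  have hsym : ∀ x y, Commute (ψ x) (P * ψ y * P⁻¹) → Commute (ψ y) (P * ψ x * P⁻¹) := by
    intro x y hxy
    have := hxy.map (MulAut.conj P).toMonoidHom
    simp only [MulEquiv.coe_toMonoidHom, MulAut.conj_apply] at this
    rw [show P * (P * ψ y * P⁻¹) * P⁻¹ = (P * P) * ψ y * (P * P)⁻¹ by group, ← (hPP y).eq,
      mul_inv_cancel_right] at this
    exact this.symm
  have hc2o : ∀ x y, Commute (ψ x) (P * ψ y * P⁻¹) := by
    intro x y
    refine hsat _ (hsym _ _ (hT ω y)) (fun k hk => ?_) x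
    refine hsym _ _ (hsat _ (hsym _ _ (hT ω k)) (fun k' hk' => ?_) y)
    rcases hps k' hk' k hk with hm | hm
    · exact mul_inv_eq_iff_eq_mul.1 (hp _ hm)
    · exact hsym _ _ (mul_inv_eq_iff_eq_mul.1 (hp _ hm))
  have hc2 : ∀ i (hi : i ≠ l) x y, Commute (ψ x) (θ (pel hi) * ψ y * (θ (pel hi))⁻¹) := by
    intro i hi x y
    rcases eq_or_ne i o with rfl | hio
    · exact hc2o x y
    have hg : (pel hio : SLg ι F) ∈ fx l := pel_mem_fx hio hi.symm ho.symm
    have := (hc2o x y).map (MulAut.conj (θ (pel hio))).toMonoidHom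
    simp only [MulEquiv.coe_toMonoidHom, MulAut.conj_apply] at this
    rw [(hc1 _ hg x).eq, mul_inv_cancel_right] at this
    rwa [show θ (pel hio) * (P * ψ y * P⁻¹) * (θ (pel hio))⁻¹ =
      θ (pel hi) * ψ y * (θ (pel hi))⁻¹ by
        rw [show θ (pel hio) * (P * ψ y * P⁻¹) * (θ (pel hio))⁻¹ =
          (θ (pel hio) * P) * ψ y * (θ (pel hio) * P)⁻¹ by group, hP, ← map_mul, pel_braid hi ho hio, map_mul,
          show θ (pel hi) * θ (pel hio) * ψ y * (θ (pel hi) * θ (pel hio))⁻¹ =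
            θ (pel hi) * (θ (pel hio) * ψ y * (θ (pel hio))⁻¹) * (θ (pel hi))⁻¹ by group,
          (hc1 _ hg y).eq, mul_inv_cancel_right]] at this
  refine ⟨hd, hc1, hc2, ?_⟩
  -- the commuting rows
  have hone : ∀ c : F, Commute (θ (row l (c • bv F o))) (ψ (upper 1)) := by
    intro c
    rcases eq_or_ne c 0 with rfl | hc
    · rw [zero_smul, show row l (0 : ι → F) = 1 from tv_zero_right _, map_one]; exact Commute.one_left _
    set u : Fˣ := (Units.mk0 c hc)⁻¹ with hu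
    have e0 : Commute (θ (row l (bv F o))) (ψ (upper 1)) := mul_inv_eq_iff_eq_mul.1 he
    have := e0.map (MulAut.conj (P * ψ (SL2.diag u) * P⁻¹)).toMonoidHom
    simp only [MulEquiv.coe_toMonoidHom, MulAut.conj_apply] at this
    rw [← (hT u (upper 1)).eq, mul_inv_cancel_right, tor',
      show θ (dd ho u) * ψ (SL2.diag u) * θ (row l (bv F o)) * (θ (dd ho u) * ψ (SL2.diag u))⁻¹ =
        θ (dd ho u) * (ψ (SL2.diag u) * θ (row l (bv F o)) * (ψ (SL2.diag u))⁻¹) * (θ (dd ho u))⁻¹ by group,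
      hd, row, cd_tv l u (by rw [dot_bv]; simp [bv, ho.symm]), ← map_inv, ← map_mul, ← map_mul] at this
    have hr : dl l u⁻¹ * bv F o = bv F o := by
      ext m; by_cases hm : m = o
      · subst hm; simp [dl, bv, ho]
      · simp [bv, hm]
    have hl : dl l u * bv F l = (u : F) • bv F l := by
      ext m; by_cases hm : m = l <;> simp [dl, bv, hm]
    rw [hr, hl, tv_conj (dd ho u) (v' := (1 : F) • bv F l) (r' := ((u⁻¹ : Fˣ) : F) • bv F o)
      (by simp [dot_bv, bv, ho.symm]) (by rw [dd_mulVec, mul_smul_comm, dd_bv_right ho, smul_smul]; simp)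
      (by rw [smul_vecMul, dd_vecMul, dd_bv_left ho, smul_smul]; simp), one_smul] at this
    rwa [hu, inv_inv, Units.val_mk0] at this
  have hao : ∀ a c : F, Commute (θ (row l (c • bv F o))) (ψ (upper a)) := by
    let A : AddSubgroup F :=
      { carrier := {a | ∀ c : F, Commute (θ (row l (c • bv F o))) (ψ (upper a))}
        zero_mem' := fun c => by rw [upper_zero, map_one]; exact Commute.one_right _
        add_mem' := fun {a b} ha hb c => by rw [upper_add']; exact (ha c).mul_right (hb c)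
        neg_mem' := fun {a} ha c => by rw [← upper_inv, map_inv]; exact (ha c).inv_right }
    refine fun a => hspan A hone (fun t ht c => ?_) a
    have := (ht (c / ω)).map (MulAut.conj (ψ (SL2.diag ω))).toMonoidHom
    simp only [MulEquiv.coe_toMonoidHom, MulAut.conj_apply] at this
    rw [hd, ← map_inv, ← map_mul, ← map_mul, diag_conj_upper, row,
      cd_tv l ω (by rw [dot_bv]; simp [bv, ho.symm])] at this
    have hl : dl l ω * bv F l = (ω : F) • bv F l := by
      ext m; by_cases hm : m = l <;> simp [dl, bv, hm]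
    have hr : dl l ω⁻¹ * (c / (ω : F)) • bv F o = (c / (ω : F)) • bv F o := by
      ext m; by_cases hm : m = o
      · subst hm; simp [dl, bv, ho]
      · simp [bv, hm]
    rwa [hl, hr, ← tv_smul, smul_smul, mul_div_cancel₀ c ω.ne_zero] at this
  intro r hr a
  let Q : (ι → F) → Prop := fun s => s l = 0 ∧ Commute (θ (row l s)) (ψ (upper a))
  have hQ : Q (∑ m, r m • bv F m) := by
    refine Finset.sum_induction _ Q ?_ ⟨rfl, ?_⟩ fun m _ => ?_
    · rintro s s' ⟨hs, h1⟩ ⟨hs', h2⟩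
      exact ⟨by simp [hs, hs'], by rw [← row_add hs hs', map_mul]; exact h1.mul_left h2⟩
    · rw [show row l (0 : ι → F) = 1 from tv_zero_right _, map_one]; exact Commute.one_left _
    rcases eq_or_ne m l with rfl | hml
    · refine ⟨by simp [hr], ?_⟩
      rw [hr, zero_smul, show row m (0 : ι → F) = 1 from tv_zero_right _, map_one]; exact Commute.one_left _
    refine ⟨by simp [bv, hml.symm], ?_⟩
    rcases eq_or_ne m o with rfl | hmo
    · exact hao a _
    have hg : (pel hmo : SLg ι F) ∈ fx l := pel_mem_fx hmo hml.symm ho.symm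
    have := (hao a (r m)).map (MulAut.conj (θ (pel hmo))).toMonoidHom
    simp only [MulEquiv.coe_toMonoidHom, MulAut.conj_apply] at this
    rwa [(hc1 _ hg _).eq, mul_inv_cancel_right, ← map_inv, ← map_mul, ← map_mul, row,
      tv_conj (pel hmo) (r' := r m • bv F m) (by simp [dot_bv, bv, ho.symm]) hg.1
        (by rw [smul_vecMul, bv_vecMul_pel]), ← row] at this
  have hsum : ∑ m, r m • bv F m = r := by
    ext x; simp [bv, Pi.single_apply]
  rw [hsum] at hQ
  exact hQ.2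

theorem rels_of_relList {ω : Fˣ} (hgen : ∀ t : F, t ≠ 0 → ∃ n : ℕ, (ω : F) ^ n = t)
    (hspan : ∀ S : AddSubgroup F, (1 : F) ∈ S → (∀ t ∈ S, (ω : F) ^ 2 * t ∈ S) → ∀ t, t ∈ S)
    (ho : o ≠ l) {gs gs' : List (SLg ι F)} (hgs : Subgroup.closure {g | g ∈ gs} = ⊤)
    (hgs' : ∀ g ∈ gs', g ∈ fx l) (hgs'2 : fx l ≤ Subgroup.closure {g : SLg ι F | g ∈ gs'})
    {ks : List (SLtwo F)} (hks : Subgroup.closure (insert (SL2.diag ω) {k | k ∈ ks}) = ⊤)
    {ps : List (SLtwo F × SLtwo F)} (hps : ∀ x ∈ ks, ∀ y ∈ ks, (x, y) ∈ ps ∨ (y, x) ∈ ps)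
    (h : ∀ x ∈ relList ω ho gs gs' ks ps θ ψ, x = 1) : Rels θ ψ l := by
  have R := pre_of_relList hgen hspan ho hgs hgs' hgs'2 hks hps h
  refine ⟨R, ?_⟩
  simp only [relList, List.forall_mem_append, List.forall_mem_map, mul_inv_eq_one, List.forall_mem_cons] at h
  obtain ⟨-, -, -, -, -, h11, -⟩ := h
  set P := θ (pel ho) with hP
  let Rel : F → F → Prop := fun c a => θ (col l (c • bv F o)) * ψ (upper a) * (θ (col l (c • bv F o)))⁻¹ =
    ψ (upper a) * (ψ weyl * θ (col l (-(a * c) • bv F o)) * (ψ weyl)⁻¹) * (P * ψ (upper (a * c ^ 2)) * P⁻¹)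
  have hoc : ∀ c : F, (c • bv F o) l = 0 := fun c => by simp [bv, ho.symm]
  have hTcol : ∀ (u : Fˣ) (c : F), (P * ψ (SL2.diag u) * P⁻¹) * θ (col l (c • bv F o)) *
      (P * ψ (SL2.diag u) * P⁻¹)⁻¹ = θ (col l (((u : F) * c) • bv F o)) := by
    intro u c
    rw [hP, tor R ho, show θ (dd ho u) * ψ (SL2.diag u) * θ (col l (c • bv F o)) * (θ (dd ho u) * ψ (SL2.diag u))⁻¹ =
      θ (dd ho u) * (ψ (SL2.diag u) * θ (col l (c • bv F o)) * (ψ (SL2.diag u))⁻¹) * (θ (dd ho u))⁻¹ by group,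
      R.d, col, cd_tv l u (by rw [bv_dot, hoc]), ← map_inv, ← map_mul, ← map_mul]
    congr 1
    have h1 : dl l u * c • bv F o = c • bv F o := by
      ext m; by_cases hm : m = o
      · subst hm; simp [dl, bv, ho]
      · simp [bv, hm]
    have h2 : dl l u⁻¹ * bv F l = ((u⁻¹ : Fˣ) : F) • bv F l := by
      ext m; by_cases hm : m = l <;> simp [dl, bv, hm]
    rw [h1, h2, tv_conj (dd ho u) (v' := ((u : F) * c) • bv F o) (r' := (1 : F) • bv F l)
      (by simp [dot_bv, bv, ho.symm]) (by rw [dd_mulVec, mul_smul_comm, dd_bv_left ho, smul_smul, mul_comm])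
      (by rw [one_smul, dd_vecMul, dd_bv_right ho]), one_smul, col]
  have hTw : ∀ (u : Fˣ) (k : SLtwo F), (P * ψ (SL2.diag u) * P⁻¹) * ψ k * (P * ψ (SL2.diag u) * P⁻¹)⁻¹ = ψ k :=
    fun u k => by rw [← (R.c2 o ho k (SL2.diag u)).eq, mul_inv_cancel_right]
  have hPupper : ∀ (u : Fˣ) (a : F), (P * ψ (SL2.diag u) * P⁻¹) * (P * ψ (upper a) * P⁻¹) *
      (P * ψ (SL2.diag u) * P⁻¹)⁻¹ = P * ψ (upper ((u : F) ^ 2 * a)) * P⁻¹ := fun u a => by
    rw [← diag_conj_upper, map_mul, map_mul, map_inv]; group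
  have base : Rel 1 1 := by
    show _ = _
    rw [one_smul, mul_one, one_pow, mul_one, neg_one_smul]
    exact h11
  have hc1 : ∀ c : F, c ≠ 0 → Rel c 1 := by
    intro c hc
    set u := Units.mk0 c hc with hu
    set T := P * ψ (SL2.diag u) * P⁻¹ with hT
    have := congrArg (MulAut.conj T) base
    simp only [MulAut.conj_apply, one_mul, one_pow] at this
    rw [show T * (θ (col l ((1 : F) • bv F o)) * ψ (upper 1) * (θ (col l ((1 : F) • bv F o)))⁻¹) * T⁻¹ =
        (T * θ (col l ((1 : F) • bv F o)) * T⁻¹) * (T * ψ (upper 1) * T⁻¹) *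
          (T * θ (col l ((1 : F) • bv F o)) * T⁻¹)⁻¹ by group,
      show T * (ψ (upper 1) * (ψ weyl * θ (col l (-(1 : F) • bv F o)) * (ψ weyl)⁻¹) * (P * ψ (upper 1) * P⁻¹)) * T⁻¹ =
        (T * ψ (upper 1) * T⁻¹) * ((T * ψ weyl * T⁻¹) * (T * θ (col l (-(1 : F) • bv F o)) * T⁻¹) *
          (T * ψ weyl * T⁻¹)⁻¹) * (T * (P * ψ (upper 1) * P⁻¹) * T⁻¹) by group,
      hT, hTcol, hTcol, hTw, hTw, hPupper, hu, Units.val_mk0] at this
    show _ = _
    rw [one_mul, one_mul]
    simpa using this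
  have hstep : ∀ t, (∀ c : F, c ≠ 0 → Rel c t) → ∀ c : F, c ≠ 0 → Rel c ((ω : F) ^ 2 * t) := by
    intro t ht c hc
    set T := ψ (SL2.diag ω) with hT
    have := congrArg (MulAut.conj T) (ht ((ω : F) * c) (mul_ne_zero ω.ne_zero hc))
    simp only [MulAut.conj_apply] at this
    have hcol : ∀ d : F, T * θ (col l (d • bv F o)) * T⁻¹ = θ (col l ((((ω⁻¹ : Fˣ) : F) * d) • bv F o)) := by
      intro d
      rw [hT, R.d, col, cd_tv l ω (by rw [bv_dot, hoc]), col]
      congr 1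
      rw [show dl l ω * d • bv F o = d • bv F o by
          ext m; by_cases hm : m = o
          · subst hm; simp [dl, bv, ho]
          · simp [bv, hm],
        show dl l ω⁻¹ * bv F l = ((ω⁻¹ : Fˣ) : F) • bv F l by
          ext m; by_cases hm : m = l <;> simp [dl, bv, hm], tv_smul, smul_smul]
    have hW : ∀ d : F, T * (ψ weyl * θ (col l (d • bv F o)) * (ψ weyl)⁻¹) * T⁻¹ =
        ψ weyl * θ (col l (((ω : F) * d) • bv F o)) * (ψ weyl)⁻¹ := by
      intro d
      have hw : ψ (SL2.diag ω) * ψ weyl = ψ weyl * ψ (SL2.diag ω⁻¹) := by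
        rw [← map_mul, ← map_mul]; congr 1
        apply ext_entries <;> simp [mul_00, mul_01, mul_10, mul_11]
      rw [hT, show ψ (SL2.diag ω) * (ψ weyl * θ (col l (d • bv F o)) * (ψ weyl)⁻¹) * (ψ (SL2.diag ω))⁻¹ =
        (ψ (SL2.diag ω) * ψ weyl) * θ (col l (d • bv F o)) * (ψ (SL2.diag ω) * ψ weyl)⁻¹ by group, hw,
        show ψ weyl * ψ (SL2.diag ω⁻¹) * θ (col l (d • bv F o)) * (ψ weyl * ψ (SL2.diag ω⁻¹))⁻¹ =
          ψ weyl * (ψ (SL2.diag ω⁻¹) * θ (col l (d • bv F o)) * (ψ (SL2.diag ω⁻¹))⁻¹) * (ψ weyl)⁻¹ by group,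
        R.d, col, cd_tv l ω⁻¹ (by rw [bv_dot, hoc]), col, inv_inv]
      congr 3
      rw [show dl l ω⁻¹ * d • bv F o = d • bv F o by
          ext m; by_cases hm : m = o
          · subst hm; simp [dl, bv, ho]
          · simp [bv, hm],
        show dl l ω * bv F l = (ω : F) • bv F l by
          ext m; by_cases hm : m = l <;> simp [dl, bv, hm], tv_smul, smul_smul]
    have hL : T * ψ (upper t) * T⁻¹ = ψ (upper ((ω : F) ^ 2 * t)) := by
      rw [hT, ← map_inv, ← map_mul, ← map_mul, diag_conj_upper]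
    have hQ : T * (P * ψ (upper (t * ((ω : F) * c) ^ 2)) * P⁻¹) * T⁻¹ = P * ψ (upper (t * ((ω : F) * c) ^ 2)) * P⁻¹ := by
      rw [(R.c2 o ho (SL2.diag ω) _).eq, mul_inv_cancel_right]
    rw [show T * (θ (col l (((ω : F) * c) • bv F o)) * ψ (upper t) * (θ (col l (((ω : F) * c) • bv F o)))⁻¹) * T⁻¹ =
        (T * θ (col l (((ω : F) * c) • bv F o)) * T⁻¹) * (T * ψ (upper t) * T⁻¹) *
          (T * θ (col l (((ω : F) * c) • bv F o)) * T⁻¹)⁻¹ by group,
      show T * (ψ (upper t) * (ψ weyl * θ (col l (-(t * ((ω : F) * c)) • bv F o)) * (ψ weyl)⁻¹) *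
          (P * ψ (upper (t * ((ω : F) * c) ^ 2)) * P⁻¹)) * T⁻¹ =
        (T * ψ (upper t) * T⁻¹) * (T * (ψ weyl * θ (col l (-(t * ((ω : F) * c)) • bv F o)) * (ψ weyl)⁻¹) * T⁻¹) *
          (T * (P * ψ (upper (t * ((ω : F) * c) ^ 2)) * P⁻¹) * T⁻¹) by group,
      hcol, hL, hW, hQ, Units.inv_mul_cancel_left] at this
    show _ = _
    rw [this]
    ring_nf
  -- additivity
  have memS : ∀ (c a : F), c ≠ 0 → Rel c a →
      (ψ weyl * θ (col l (-(a * c) • bv F o)) * (ψ weyl)⁻¹) ∈ Ssub θ ψ l := by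
    intro c a hc hca
    rw [show ψ weyl * θ (col l (-(a * c) • bv F o)) * (ψ weyl)⁻¹ =
      (ψ (upper a))⁻¹ * (θ (col l (c • bv F o)) * ψ (upper a) * (θ (col l (c • bv F o)))⁻¹) *
        (P * ψ (upper (a * c ^ 2)) * P⁻¹)⁻¹ by rw [show _ = _ from hca]; group]
    refine mul_mem (mul_mem (inv_mem (upper_mem_S R ho a)) (S_conj R ho _ (upper_mem_S R ho a))) (inv_mem ?_)
    rw [hP, Qv_bv_other R ho ho]; exact Qv_mem_S _ _
  have memQ : ∀ d, P * ψ (upper d) * P⁻¹ ∈ Ssub θ ψ l := fun d => by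
    rw [hP, Qv_bv_other R ho ho]; exact Qv_mem_S _ _
  let A : AddSubgroup F :=
    { carrier := {a | ∀ c : F, c ≠ 0 → Rel c a}
      zero_mem' := fun c _ => by
        show _ = _
        rw [zero_mul, zero_mul, neg_zero, zero_smul, upper_zero, map_one, show col l (0 : ι → F) = 1 from
          tv_zero_left _, map_one]
        group
      add_mem' := fun {a b} ha hb c hc => by
        show _ = _
        have hy : ψ weyl * θ (col l (-((a + b) * c) • bv F o)) * (ψ weyl)⁻¹ =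
            (ψ weyl * θ (col l (-(a * c) • bv F o)) * (ψ weyl)⁻¹) *
              (ψ weyl * θ (col l (-(b * c) • bv F o)) * (ψ weyl)⁻¹) := by
          rw [add_mul, neg_add, add_smul, ← col_add (hoc _) (hoc _), map_mul]; group
        rw [upper_add', add_mul a b (c ^ 2), upper_add', hy]
        have e1 := ha c hc
        have e2 := hb c hc
        have m1 := memS c a hc e1
        have m2 := memS c b hc e2
        calc θ (col l (c • bv F o)) * (ψ (upper a) * ψ (upper b)) * (θ (col l (c • bv F o)))⁻¹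
            = (θ (col l (c • bv F o)) * ψ (upper a) * (θ (col l (c • bv F o)))⁻¹) *
              (θ (col l (c • bv F o)) * ψ (upper b) * (θ (col l (c • bv F o)))⁻¹) := by group
          _ = _ := by rw [show _ = _ from e1, show _ = _ from e2]
          _ = ψ (upper a) * ((ψ weyl * θ (col l (-(a * c) • bv F o)) * (ψ weyl)⁻¹ *
              (P * ψ (upper (a * c ^ 2)) * P⁻¹)) * ψ (upper b)) *
              (ψ weyl * θ (col l (-(b * c) • bv F o)) * (ψ weyl)⁻¹) * (P * ψ (upper (b * c ^ 2)) * P⁻¹) := by group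
          _ = _ := by rw [(S_comm R ho (mul_mem m1 (memQ _)) (upper_mem_S R ho b)).eq]
          _ = ψ (upper a) * ψ (upper b) * (ψ weyl * θ (col l (-(a * c) • bv F o)) * (ψ weyl)⁻¹) *
              ((P * ψ (upper (a * c ^ 2)) * P⁻¹) *
              (ψ weyl * θ (col l (-(b * c) • bv F o)) * (ψ weyl)⁻¹)) * (P * ψ (upper (b * c ^ 2)) * P⁻¹) := by group
          _ = _ := by rw [(S_comm R ho (memQ _) m2).eq]; group
      neg_mem' := fun {a} ha c hc => by
        show _ = _
        have e1 := ha c hc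
        have m1 := memS c a hc e1
        have hy : ψ weyl * θ (col l (-(-a * c) • bv F o)) * (ψ weyl)⁻¹ =
            (ψ weyl * θ (col l (-(a * c) • bv F o)) * (ψ weyl)⁻¹)⁻¹ := by
          refine eq_inv_of_mul_eq_one_left ?_
          rw [show ∀ x y : G, ψ weyl * x * (ψ weyl)⁻¹ * (ψ weyl * y * (ψ weyl)⁻¹) = ψ weyl * (x * y) * (ψ weyl)⁻¹ from
            fun x y => by group, ← map_mul, col_add (hoc _) (hoc _), ← add_smul,
            show -(-a * c) + -(a * c) = 0 by ring, zero_smul, show col l (0 : ι → F) = 1 from tv_zero_left _, map_one]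
          group
        rw [← upper_inv, map_inv, neg_mul a (c ^ 2), ← upper_inv, map_inv, hy]
        calc θ (col l (c • bv F o)) * (ψ (upper a))⁻¹ * (θ (col l (c • bv F o)))⁻¹
            = (θ (col l (c • bv F o)) * ψ (upper a) * (θ (col l (c • bv F o)))⁻¹)⁻¹ := by group
          _ = ((P * ψ (upper (a * c ^ 2)) * P⁻¹)⁻¹ * (ψ weyl * θ (col l (-(a * c) • bv F o)) * (ψ weyl)⁻¹)⁻¹) *
              (ψ (upper a))⁻¹ := by rw [show _ = _ from e1]; group
          _ = _ := by
            rw [(S_comm R ho (mul_mem (inv_mem (memQ _)) (inv_mem m1)) (inv_mem (upper_mem_S R ho a))).eq,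
              (S_comm R ho (inv_mem (memQ _)) (inv_mem m1)).eq]
            group }
  have all : ∀ c a : F, Rel c a := by
    intro c a
    rcases eq_or_ne c 0 with rfl | hc
    · show _ = _
      rw [mul_zero, neg_zero, zero_smul, show a * (0 : F) ^ 2 = 0 by ring, upper_zero, map_one,
        show col l (0 : ι → F) = 1 from tv_zero_left _, map_one]
      group
    · exact hspan A hc1 (fun t ht => hstep t ht) a c hc
  intro i _ hi c a
  rcases eq_or_ne i o with rfl | hio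
  · exact all c a
  have hg : (pel hio : SLg ι F) ∈ fx l := pel_mem_fx hio hi.symm ho.symm
  set p := θ (pel hio) with hpdef
  have hcol : ∀ d : F, p * θ (col l (d • bv F o)) * p⁻¹ = θ (col l (d • bv F i)) := fun d => by
    rw [hpdef, ← map_inv, ← map_mul, ← map_mul, col, col, tv_conj (pel hio) (v' := d • bv F i) (r' := bv F l)
      (by rw [bv_dot]; exact hoc d) (by rw [mulVec_smul, pel_mulVec_bv]) hg.2]
  have hk : ∀ k, p * ψ k * p⁻¹ = ψ k := fun k => by rw [hpdef, (R.c1 _ hg k).eq, mul_inv_cancel_right]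
  have hPi : ∀ k, p * (P * ψ k * P⁻¹) * p⁻¹ = θ (pel hi) * ψ k * (θ (pel hi))⁻¹ := fun k => by
    rw [show p * (P * ψ k * P⁻¹) * p⁻¹ = (p * P) * ψ k * (p * P)⁻¹ by group, hpdef, hP, ← map_mul,
      pel_braid hi ho hio, map_mul, show θ (pel hi) * θ (pel hio) * ψ k * (θ (pel hi) * θ (pel hio))⁻¹ =
        θ (pel hi) * (θ (pel hio) * ψ k * (θ (pel hio))⁻¹) * (θ (pel hi))⁻¹ by group,
      (R.c1 _ hg k).eq, mul_inv_cancel_right]
  have := congrArg (MulAut.conj p) (all c a)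
  simp only [MulAut.conj_apply] at this
  rwa [show p * (θ (col l (c • bv F o)) * ψ (upper a) * (θ (col l (c • bv F o)))⁻¹) * p⁻¹ =
      (p * θ (col l (c • bv F o)) * p⁻¹) * (p * ψ (upper a) * p⁻¹) * (p * θ (col l (c • bv F o)) * p⁻¹)⁻¹ by group,
    show p * (ψ (upper a) * (ψ weyl * θ (col l (-(a * c) • bv F o)) * (ψ weyl)⁻¹) * (P * ψ (upper (a * c ^ 2)) * P⁻¹)) * p⁻¹ =
      (p * ψ (upper a) * p⁻¹) * ((p * ψ weyl * p⁻¹) * (p * θ (col l (-(a * c) • bv F o)) * p⁻¹) * (p * ψ weyl * p⁻¹)⁻¹) *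
        (p * (P * ψ (upper (a * c ^ 2)) * P⁻¹) * p⁻¹) by group,
    hcol, hcol, hk, hk, hPi] at this

end derived

end SpGlue

end Cfsg.Agent.Lib.BoundedPresentation
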