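import Mathlib
import Cfsg.Agent.Lib.LinGroup.SympSimple
import Cfsg.Agent.Lib.BoundedPresentation.SpGlue

/-!
The symplectic group satisfies the relations of type `C`.
-/

set_option autoImplicit false

namespace Cfsg.Agent.Lib.BoundedPresentation

open Matrix Cfsg.Agent.Lib.SL2

namespace SpStd

open SpGlue

variable {n : ℕ} {F : Type*} [Field F]

/-- The symplectic group. -/
abbrev SpG (n : ℕ) (F : Type*) [Field F] := Matrix.symplecticGroup (Fin n) F

/-- The matrix of an element of the Levi part. -/
def leviM (g : SLg (Fin n) F) : Matrix (Fin n ⊕ Fin n) (Fin n ⊕ Fin n) F :=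
  fromBlocks g.1 0 0 (g⁻¹).1ᵀ

/-- The matrix of an element of a long root `SL₂`. -/
def longM (l : Fin n) (k : SLtwo F) : Matrix (Fin n ⊕ Fin n) (Fin n ⊕ Fin n) F :=
  fromBlocks (1 + Matrix.single l l (k 0 0 - 1)) (Matrix.single l l (k 0 1)) (Matrix.single l l (k 1 0))
    (1 + Matrix.single l l (k 1 1 - 1))

theorem leviM_mem (g : SLg (Fin n) F) : leviM g ∈ Matrix.symplecticGroup (Fin n) F := by
  rw [leviM, SymplecticGroup.fromBlocks_mem_iff]
  refine ⟨by simp, by simp, ?_⟩
  rw [← Matrix.transpose_mul, ← SLStd.coe_mul', inv_mul_cancel]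
  simp

theorem longM_mem (l : Fin n) (k : SLtwo F) : longM l k ∈ Matrix.symplecticGroup (Fin n) F := by
  rw [longM, SymplecticGroup.fromBlocks_mem_iff]
  have hd := det_entries k
  simp only [transpose_add, transpose_one, transpose_single, mul_add, add_mul, mul_one, one_mul,
    single_mul_single_same]
  refine ⟨?_, ?_, ?_⟩ <;> ext i j <;>
    simp only [Matrix.sub_apply, Matrix.add_apply, Matrix.single_apply, Matrix.one_apply] <;>
    split_ifs <;> grind

/-- The Levi part. -/
def theta : SLg (Fin n) F →* SpG n F where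
  toFun g := ⟨leviM g, leviM_mem g⟩
  map_one' := Subtype.ext (by
    show leviM (1 : SLg (Fin n) F) = 1
    rw [leviM, inv_one]
    show fromBlocks (1 : Matrix (Fin n) (Fin n) F) 0 0 (1 : Matrix (Fin n) (Fin n) F)ᵀ = 1
    simp)
  map_mul' g h := Subtype.ext (by
    show leviM (g * h) = leviM g * leviM h
    rw [leviM, leviM, leviM, fromBlocks_multiply, _root_.mul_inv_rev, SLStd.coe_mul', SLStd.coe_mul',
      Matrix.transpose_mul]
    simp)

/-- A long root `SL₂`. -/
def long (l : Fin n) : SLtwo F →* SpG n F where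
  toFun k := ⟨longM l k, longM_mem l k⟩
  map_one' := Subtype.ext (by
    show longM l (1 : SLtwo F) = 1
    simp [longM, Matrix.SpecialLinearGroup.coe_one])
  map_mul' k k' := Subtype.ext (by
    show longM l (k * k') = longM l k * longM l k'
    simp only [longM, fromBlocks_multiply, mul_add, add_mul, mul_one, one_mul, single_mul_single_same,
      mul_00, mul_01, mul_10, mul_11]
    congr 1 <;> ext i j <;> simp only [Matrix.add_apply, Matrix.single_apply, Matrix.one_apply] <;>
      split_ifs <;> ring)

theorem theta_coe (g : SLg (Fin n) F) : (theta g : SpG n F).1 = leviM g := rfl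
theorem long_coe (l : Fin n) (k : SLtwo F) : (long l k : SpG n F).1 = longM l k := rfl

theorem sp_coe_mul (g h : SpG n F) : (g * h).1 = g.1 * h.1 := rfl

theorem sp_ext {g h : SpG n F} (e : g.1 = h.1) : g = h := Subtype.ext e

/-- The Siegel elements. -/
theorem long_upper (l : Fin n) (a : F) :
    (long l (upper a) : SpG n F).1 = fromBlocks 1 (Matrix.single l l a) 0 1 := by
  simp [long_coe, longM]

theorem long_weyl (l : Fin n) : (long l (weyl : SLtwo F) : SpG n F).1 =
    fromBlocks (1 - Matrix.single l l 1) (Matrix.single l l 1) (-Matrix.single l l 1) (1 - Matrix.single l l 1) := by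
  rw [long_coe, longM]
  congr 1 <;> ext i j <;> simp [Matrix.single_apply] <;> split_ifs <;> simp [sub_eq_add_neg]

theorem mul_single_col (M : Matrix (Fin n) (Fin n) F) {l i : Fin n} (h : M *ᵥ bv F l = bv F i) (x : F) :
    M * Matrix.single l l x = Matrix.single i l x := by
  ext a b
  by_cases hb : b = l
  · subst hb
    have : M a b = if a = i then 1 else 0 := by
      have := congrFun h a
      simpa [bv, Matrix.mulVec_single, Pi.single_apply] using this
    rw [Matrix.mul_single_apply_same, this, Matrix.single_apply]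
    split_ifs <;> grind
  · rw [Matrix.mul_single_apply_of_ne _ _ _ _ _ hb, Matrix.single_apply, if_neg (fun e => hb e.2.symm)]

theorem single_mul_row (M : Matrix (Fin n) (Fin n) F) {l i : Fin n} (h : bv F i ᵥ* M = bv F l) (x : F) :
    Matrix.single i i x * M = Matrix.single i l x := by
  ext a b
  by_cases ha : a = i
  · subst ha
    have : M a b = if b = l then 1 else 0 := by
      have := congrFun h b
      simpa [bv, Matrix.single_vecMul, Pi.single_apply] using this
    rw [Matrix.single_mul_apply_same, this, Matrix.single_apply]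
    split_ifs <;> grind
  · rw [Matrix.single_mul_apply_of_ne _ _ _ _ _ ha, Matrix.single_apply, if_neg (fun e => ha e.1.symm)]

theorem monomial_conj {l i : Fin n} {g : SLg (Fin n) F} (h1 : g.1 *ᵥ bv F l = bv F i)
    (h2 : bv F i ᵥ* g.1 = bv F l) (k : SLtwo F) : theta g * long l k = long i k * theta g := by
  have h3 : (g⁻¹).1ᵀ *ᵥ bv F l = bv F i := by
    rw [mulVec_transpose, ← h2, inv_vecMul_cancel]
  have h4 : bv F i ᵥ* (g⁻¹).1ᵀ = bv F l := by
    rw [vecMul_transpose, ← h1, inv_mulVec_cancel]
  refine sp_ext ?_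
  rw [sp_coe_mul, sp_coe_mul, theta_coe, long_coe, long_coe, leviM, longM, longM, fromBlocks_multiply,
    fromBlocks_multiply]
  generalize (g⁻¹).1ᵀ = M at h3 h4
  simp [mul_add, add_mul, mul_single_col _ h1, single_mul_row _ h2, mul_single_col _ h3, single_mul_row _ h4]

theorem theta_col {l i : Fin n} (hi : i ≠ l) (c : F) : (theta (SpGlue.col l (c • bv F i)) : SpG n F).1 =
    fromBlocks (1 + Matrix.single i l c) 0 0 (1 - Matrix.single l i c) := by
  have hv : bv F l ⬝ᵥ (c • bv F i) = 0 := by simp [bv, hi.symm]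
  have hv' : bv F l ⬝ᵥ (-(c • bv F i)) = 0 := by simp [bv, hi.symm]
  have key : ∀ d : F, vecMulVec (d • bv F i) (bv F l) = Matrix.single i l d := by
    intro d
    ext a b
    simp [vecMulVec_apply, bv, Pi.single_apply, Matrix.single_apply]
    split_ifs <;> grind
  rw [theta_coe, leviM, SpGlue.col, tv_inv_left hv, tv_coe hv, tv_coe hv', key, ← neg_smul, key, transpose_add,
    transpose_one, transpose_single, sub_eq_add_neg, Matrix.single_neg]

theorem rels (l : Fin n) : Rels (theta : SLg (Fin n) F →* SpG n F) (long l) l := by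
  refine ⟨⟨fun u g => ?_, fun g hg k => ?_, fun i hi x y => ?_, fun r hr a => ?_⟩, fun i _ hi c a => ?_⟩
  · rw [mul_inv_eq_iff_eq_mul]
    refine sp_ext ?_
    have hD : ∀ u : Fˣ, (1 : Matrix (Fin n) (Fin n) F) + Matrix.single l l ((u : F) - 1) = Matrix.diagonal (dl l u) := by
      intro u
      ext a b
      simp only [Matrix.add_apply, Matrix.one_apply, Matrix.single_apply, Matrix.diagonal_apply, dl]
      split_ifs <;> grind
    have hDD : ∀ u : Fˣ, Matrix.diagonal (dl l u) * Matrix.diagonal (dl l u⁻¹) = (1 : Matrix (Fin n) (Fin n) F) := by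
      intro u
      rw [diagonal_mul_diagonal, ← diagonal_one]
      congr 1; funext a; simp only [dl]; split_ifs <;> simp
    have hdiag : (long l (SL2.diag u) : SpG n F).1 =
        fromBlocks (Matrix.diagonal (dl l u)) 0 0 (Matrix.diagonal (dl l u⁻¹)) := by
      rw [long_coe, longM, ← hD, ← hD]; simp
    rw [sp_coe_mul, sp_coe_mul, hdiag, theta_coe, theta_coe, leviM, leviM, ← map_inv, cd_coe, cd_coe,
      fromBlocks_multiply, fromBlocks_multiply]
    have e2 := hDD u
    have e1 := hDD u⁻¹
    rw [inv_inv] at e1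
    simp only [Matrix.transpose_mul, diagonal_transpose, Matrix.mul_zero, Matrix.zero_mul, add_zero, zero_add,
      Matrix.mul_assoc, e1, e2, Matrix.mul_one]
  · exact monomial_conj hg.1 hg.2 k
  · rw [monomial_conj (pel_mulVec_bv hi) (bv_vecMul_pel hi), mul_inv_cancel_right]
    refine sp_ext ?_
    rw [sp_coe_mul, sp_coe_mul, long_coe, long_coe, longM, longM, fromBlocks_multiply, fromBlocks_multiply]
    congr 1 <;> simp [mul_add, add_mul, Matrix.single_mul_single_of_ne _ _ _ _ hi,
      Matrix.single_mul_single_of_ne _ _ _ _ hi.symm] <;> abel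
  · refine sp_ext ?_
    have hl : (SpGlue.row l r : SLg (Fin n) F).1 *ᵥ bv F l = bv F l := by
      rw [row_mulVec hr, dot_bv, hr, zero_smul, add_zero]
    have hl' : bv F l ᵥ* ((SpGlue.row l r : SLg (Fin n) F)⁻¹).1ᵀ = bv F l := by
      rw [vecMul_transpose]
      conv_lhs => rw [← hl]
      exact inv_mulVec_cancel _ _
    rw [sp_coe_mul, sp_coe_mul, theta_coe, long_upper, leviM, fromBlocks_multiply, fromBlocks_multiply]
    generalize ((SpGlue.row l r : SLg (Fin n) F)⁻¹).1ᵀ = M at hl'
    simp [mul_single_col _ hl, single_mul_row _ hl']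
  · have hd : ∀ d : F, (long l weyl * theta (SpGlue.col l (d • bv F i)) * (long l weyl)⁻¹ : SpG n F).1 =
        fromBlocks 1 (-(Matrix.single i l d + Matrix.single l i d)) 0 1 := by
      intro d
      have hU : fromBlocks 1 (-(Matrix.single i l d + Matrix.single l i d)) 0 1 ∈
          Matrix.symplecticGroup (Fin n) F := by
        rw [SymplecticGroup.fromBlocks_mem_iff]
        refine ⟨by simp, ?_, by simp⟩
        simp [transpose_single, add_comm]
      have : long l weyl * theta (SpGlue.col l (d • bv F i)) =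
          (⟨_, hU⟩ : SpG n F) * long l weyl := by
        refine sp_ext ?_
        rw [sp_coe_mul, sp_coe_mul, long_weyl, theta_col hi]
        show _ = fromBlocks 1 _ 0 1 * _
        rw [fromBlocks_multiply, fromBlocks_multiply]
        congr 1 <;> simp [mul_add, add_mul, mul_sub, sub_mul, Matrix.single_mul_single_of_ne _ _ _ _ hi,
          Matrix.single_mul_single_of_ne _ _ _ _ hi.symm] <;> abel
      rw [this, mul_inv_cancel_right]
    rw [monomial_conj (pel_mulVec_bv hi) (bv_vecMul_pel hi), mul_inv_cancel_right, mul_inv_eq_iff_eq_mul]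
    refine sp_ext ?_
    rw [sp_coe_mul, sp_coe_mul, sp_coe_mul, sp_coe_mul, hd, long_upper, long_upper, theta_col hi]
    simp only [fromBlocks_multiply]
    congr 1 <;> simp [mul_add, add_mul, mul_sub, sub_mul, Matrix.single_mul_single_of_ne _ _ _ _ hi,
      Matrix.single_mul_single_of_ne _ _ _ _ hi.symm, mul_comm, sq, mul_assoc, mul_left_comm]
    ext x y
    simp only [Matrix.add_apply, Matrix.sub_apply, Matrix.neg_apply, Matrix.single_apply]
    split_ifs <;> ring

/-- The Levi part and one long root `SL₂` generate. -/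
theorem sup_eq_top {l o : Fin n} (ho : o ≠ l) :
    (theta : SLg (Fin n) F →* SpG n F).range ⊔ (long l).range = ⊤ := by
  classical
  set K := (theta : SLg (Fin n) F →* SpG n F).range ⊔ (long l).range with hK
  have hA : ∀ g : SLg (Fin n) F, theta g ∈ K := fun g => Subgroup.mem_sup_left ⟨g, rfl⟩
  have hB : ∀ k, long l k ∈ K := fun k => Subgroup.mem_sup_right ⟨k, rfl⟩
  set e1 : Fin n ⊕ Fin n → F := Pi.single (.inl l) 1 with he1
  have hth : ∀ (g : SLg (Fin n) F) (v : Fin n ⊕ Fin n → F), LinGroup.spVec (theta g) v =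
      Sum.elim (g.1 *ᵥ (v ∘ Sum.inl)) ((g⁻¹).1ᵀ *ᵥ (v ∘ Sum.inr)) := fun g v => by
    show leviM g *ᵥ v = _
    rw [leviM, fromBlocks_mulVec]
    simp
  have step0 : ∀ v : Fin n ⊕ Fin n → F, v ≠ 0 → (∀ i, v (.inr i) = 0) → ∃ g ∈ K, LinGroup.spVec g e1 = v := by
    intro v hv h0
    have hx : v ∘ Sum.inl ≠ 0 := fun h => hv (by
      ext (i | i)
      exacts [congrFun h i, h0 i])
    obtain ⟨g, hg⟩ := exists_move (l := l) ho hx
    refine ⟨theta g, hA g, ?_⟩
    have a1 : e1 ∘ Sum.inl = bv F l := by ext i; simp [he1, bv, Pi.single_apply]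
    have a2 : e1 ∘ Sum.inr = 0 := by ext i; simp [he1]
    rw [hth, a1, a2, hg, mulVec_zero]
    ext (i | i)
    exacts [rfl, (h0 i).symm]
  have hmove : ∀ v : Fin n ⊕ Fin n → F, v ≠ 0 → ∃ g ∈ K, LinGroup.spVec g e1 = v := by
    intro v hv
    by_cases hy : v ∘ Sum.inr = 0
    · exact step0 v hv fun i => congrFun hy i
    obtain ⟨g, hg⟩ := exists_move (l := l) ho hy
    -- move the second half to a coordinate vector, then clear and exchange
    set g' : SLg (Fin n) F := g.transpose with hg'
    have hgT : (g'⁻¹).1ᵀ *ᵥ bv F l = ((g⁻¹).1 *ᵥ bv F l) := by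
      have : g'⁻¹ = (g⁻¹).transpose := by
        refine inv_eq_of_mul_eq_one_right (SLStd.sl_ext ?_)
        rw [SLStd.coe_mul', hg', Matrix.SpecialLinearGroup.coe_transpose, Matrix.SpecialLinearGroup.coe_transpose,
          ← Matrix.transpose_mul, ← SLStd.coe_mul', inv_mul_cancel]
        simp
      rw [this, Matrix.SpecialLinearGroup.coe_transpose, transpose_transpose]
    set v1 := LinGroup.spVec (theta g') v with hv1
    have hv1r : v1 ∘ Sum.inr = bv F l := by
      rw [hv1, hth, Sum.elim_comp_inr]
      have : g'⁻¹ = (g⁻¹).transpose := by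
        refine inv_eq_of_mul_eq_one_right (SLStd.sl_ext ?_)
        rw [SLStd.coe_mul', hg', Matrix.SpecialLinearGroup.coe_transpose, Matrix.SpecialLinearGroup.coe_transpose,
          ← Matrix.transpose_mul, ← SLStd.coe_mul', inv_mul_cancel]
        simp
      rw [this, Matrix.SpecialLinearGroup.coe_transpose, transpose_transpose, ← hg, inv_mulVec_cancel]
    set A : SpG n F := (long l weyl)⁻¹ * long l (upper (-v1 (.inl l))) with hAdef
    have hAK : A ∈ K := mul_mem (inv_mem (hB _)) (hB _)
    set w := LinGroup.spVec A v1 with hw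
    have hw0 : w ≠ 0 := by
      intro h
      apply hv
      apply LinGroup.spVec_injective (theta g')
      apply LinGroup.spVec_injective A
      rw [← hv1, ← hw, h]
      simp [LinGroup.spVec]
    have hw2 : ∀ i, w (.inr i) = 0 := by
      intro i
      rw [hw, hAdef, ← map_inv, ← map_mul]
      show (longM l (weyl⁻¹ * upper (-v1 (.inl l))) *ᵥ v1) (.inr i) = 0
      rw [longM, fromBlocks_mulVec]
      simp only [Sum.elim_inr, Pi.add_apply, hv1r, add_mulVec, one_mulVec, single_mulVec, Function.comp_apply,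
        mul_10, mul_11, inv_00, inv_01, inv_10, inv_11, weyl, upper, bv]
      rcases eq_or_ne i l with rfl | hil
      · simp
      · simp [hil]
    obtain ⟨h, hh, hhe⟩ := step0 w hw0 hw2
    refine ⟨(A * theta g')⁻¹ * h, mul_mem (inv_mem (mul_mem hAK (hA _))) hh, ?_⟩
    rw [LinGroup.spVec_mul, hhe, hw, hv1, ← LinGroup.spVec_mul A, LinGroup.spVec_inv_cancel']
  rw [eq_top_iff, ← Forms.closure_sympTransSet_eq_top, Subgroup.closure_le]
  rintro A ⟨v, c, hA'⟩
  have eA : A = Forms.sympTransElem v c := Subtype.ext hA'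
  subst eA
  rcases eq_or_ne v 0 with rfl | hv
  · have : Forms.sympTransElem (0 : Fin n ⊕ Fin n → F) c = 1 :=
      LinGroup.spVec_ext fun x => by simp [LinGroup.spVec_sympTransElem, LinGroup.spVec_one]
    rw [this]; exact K.one_mem
  obtain ⟨g, hg, rfl⟩ := hmove v hv
  rw [SetLike.mem_coe, ← LinGroup.sympTransElem_conj]
  refine mul_mem (mul_mem hg ?_) (inv_mem hg)
  have : Forms.sympTransElem e1 c = long l (upper c) := by
    refine LinGroup.spVec_ext fun y => ?_
    rw [LinGroup.spVec_sympTransElem, Forms.sympForm_apply]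
    show _ = (long l (upper c) : SpG n F).1 *ᵥ y
    rw [long_upper, fromBlocks_mulVec]
    ext (i | i) <;> simp [he1, Pi.single_apply, single_mulVec, Function.update_apply]
  rw [this]
  exact hB _

end SpStd

end Cfsg.Agent.Lib.BoundedPresentation
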