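import Mathlib
import Cfsg.Agent.Lib.BoundedPresentation.Pres

/-!
From bounded presentations to presentations on two generators of a central quotient.
-/

set_option autoImplicit false

namespace Cfsg.Agent.Lib.BoundedPresentation

universe u

variable {H : Type u} [Group H]

theorem Pres.of_presented {ι : Type} {R : Finset (FreeGroup ι)} {r : ℕ} (hr : R.card ≤ r)
    (e : PresentedGroup (↑R : Set (FreeGroup ι)) ≃* H) :
    Pres (fun i => e (PresentedGroup.of i)) r ∧
      Subgroup.closure (Set.range fun i => e (PresentedGroup.of i)) = ⊤ := by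
  refine ⟨⟨R, hr, fun x hx => ?_, fun G _ y hy => ?_⟩, ?_⟩
  · have h : FreeGroup.lift (fun i => e (PresentedGroup.of i)) =
        e.toMonoidHom.comp (PresentedGroup.mk (↑R : Set (FreeGroup ι))) :=
      FreeGroup.ext_hom _ _ fun a => by rw [FreeGroup.lift_apply_of]; rfl
    rw [h]
    show e (PresentedGroup.mk _ x) = 1
    rw [PresentedGroup.one_of_mem (Finset.mem_coe.2 hx), map_one]
  · exact ⟨(PresentedGroup.toGroup (f := y) (fun x hx => hy x (Finset.mem_coe.1 hx))).comp e.symm.toMonoidHom,
      fun i => by simp [PresentedGroup.toGroup.of]⟩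
  · have h := congrArg (Subgroup.map e.toMonoidHom) (PresentedGroup.closure_range_of (↑R : Set (FreeGroup ι)))
    rw [MonoidHom.map_closure, ← Set.range_comp, Subgroup.map_top_of_surjective _ e.surjective] at h
    exact h

theorem pres_two_gens {ι : Type} {N : ι → H} {r : ℕ} (h : Pres N r)
    (hN : Subgroup.closure (Set.range N) = ⊤) {a b : H} (hab : Subgroup.closure ({a, b} : Set H) = ⊤) :
    ∃ R : Finset (FreeGroup (Fin 2)), R.card ≤ r + 2 ∧
      Nonempty (PresentedGroup (↑R : Set (FreeGroup (Fin 2))) ≃* H) := by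
  have hs : Subgroup.closure (Set.range ![a, b]) = ⊤ := by
    rw [show Set.range ![a, b] = {a, b} by simp [Set.pair_comm]]
    exact hab
  have := (h.change hN ![a, b] hs).exists_rels hs
  simpa using this

theorem pres_quotient_two_gens {ι : Type} {N : ι → H} {r : ℕ} (h : Pres N r)
    (hN : Subgroup.closure (Set.range N) = ⊤) (Z : Subgroup H) [Z.Normal] [IsCyclic Z] {a b : H}
    (hab : Subgroup.closure ({a, b} : Set H) = ⊤) :
    ∃ R : Finset (FreeGroup (Fin 2)), R.card ≤ r + 3 ∧
      Nonempty (PresentedGroup (↑R : Set (FreeGroup (Fin 2))) ≃* H ⧸ Z) := by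
  obtain ⟨c, hc⟩ := IsCyclic.exists_generator (α := Z)
  have hZ : Z ≤ Subgroup.zpowers (c : H) := fun z hz => by
    obtain ⟨k, hk⟩ := hc ⟨z, hz⟩
    exact ⟨k, by simpa using congrArg Subtype.val hk⟩
  have surj := QuotientGroup.mk'_surjective Z
  refine pres_two_gens (h.quotient hN Z c c.2 hZ) ?_ (a := (a : H ⧸ Z)) (b := (b : H ⧸ Z)) ?_
  · have := congrArg (Subgroup.map (QuotientGroup.mk' Z)) hN
    rw [MonoidHom.map_closure, ← Set.range_comp, Subgroup.map_top_of_surjective _ surj] at this
    exact this
  · have := congrArg (Subgroup.map (QuotientGroup.mk' Z)) hab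
    rw [MonoidHom.map_closure, Set.image_pair, Subgroup.map_top_of_surjective _ surj] at this
    exact this

end Cfsg.Agent.Lib.BoundedPresentation
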