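import Mathlib
import Cfsg.Agent.Lib.Classical.Symplectic
import Cfsg.Agent.Lib.BoundedPresentation.TwoGen
import Cfsg.Agent.Lib.BoundedPresentation.AltShared
import Cfsg.Agent.Lib.BoundedPresentation.SLThree
import Cfsg.Agent.Lib.BoundedPresentation.SpCount
import Cfsg.Agent.Lib.BoundedPresentation.SpRelList
import Cfsg.Agent.Lib.BoundedPresentation.SpStd
import Cfsg.Agent.S2278
import Cfsg.Agent.S2279

/-!
At most fifty-eight relators present `Sp_{2n}`, `n ≥ 3`, on at most ten named elements.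
-/

set_option autoImplicit false

namespace Cfsg.Agent.Lib.BoundedPresentation

open Matrix Cfsg.Agent.Lib.SL2

universe uF u

theorem closure_map_range {A : Type*} [Group A] {B : Type*} [Group B] {ι : Type*} {N : ι → A}
    (h : Subgroup.closure (Set.range N) = ⊤) {f : A →* B} (hf : Function.Surjective f) :
    Subgroup.closure (Set.range fun i => f (N i)) = ⊤ := by
  have := congrArg (Subgroup.map f) h
  rw [MonoidHom.map_closure, ← Set.range_comp, Subgroup.map_top_of_surjective _ hf] at this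
  exact this

theorem closure_drop {ι : Type*} {H : Type*} [Group H] {N : ι → H} (h : Subgroup.closure (Set.range N) = ⊤)
    (i₀ : ι) (h0 : N i₀ ∈ Subgroup.closure (Set.range fun i : {i // i ≠ i₀} => N i.1)) :
    Subgroup.closure (Set.range fun i : {i // i ≠ i₀} => N i.1) = ⊤ := by
  rw [eq_top_iff, ← h, Subgroup.closure_le]
  rintro _ ⟨i, rfl⟩
  rcases eq_or_ne i i₀ with rfl | hi
  · exact h0
  · exact Subgroup.subset_closure ⟨⟨i, hi⟩, rfl⟩

/-- Named elements indexed by `Fin k`, one relator for each added one. -/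
theorem Pres.exists_fin {H : Type u} [Group H] : ∀ (d : ℕ) {ι : Type} [Fintype ι] {N : ι → H} {r : ℕ},
    Pres N r → Subgroup.closure (Set.range N) = ⊤ → ∀ k, Fintype.card ι + d = k →
      ∃ N' : Fin k → H, Pres N' (r + d) ∧ Subgroup.closure (Set.range N') = ⊤ := by
  intro d
  induction d with
  | zero =>
    intro ι _ N r h hgen k hk
    let e : Fin k ≃ ι := (Fintype.equivFinOfCardEq (by omega)).symm
    have hg : Subgroup.closure (Set.range fun i => N (e i)) = ⊤ := by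
      rw [show (Set.range fun i => N (e i)) = Set.range N from e.surjective.range_comp N]; exact hgen
    exact ⟨_, h.restrict e.injective hg, hg⟩
  | succ d ih =>
    intro ι _ N r h hgen k hk
    obtain ⟨N', h', hg'⟩ := ih (h.pad hgen 1) (by
      rw [eq_top_iff, ← hgen]
      exact Subgroup.closure_mono (by rintro _ ⟨i, rfl⟩; exact ⟨some i, rfl⟩)) k
      (by rw [Fintype.card_option]; omega)
    exact ⟨N', h'.mono (by omega), hg'⟩

namespace SpGlue

variable (F : Type uF) [Field F] [Fintype F]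

theorem exists_two_gens (ι : Type) [DecidableEq ι] [Fintype ι] (h : 2 ≤ Fintype.card ι) :
    ∃ a b : SLg ι F, Subgroup.closure ({a, b} : Set (SLg ι F)) = ⊤ := by
  classical
  suffices key : ∀ m, 2 ≤ m → ∃ a b : SLg (Fin m) F, Subgroup.closure ({a, b} : Set (SLg (Fin m) F)) = ⊤ by
    obtain ⟨a, b, hab⟩ := key _ h
    let e := SLStd.reindexSLGroup (F := F) (Fintype.equivFin ι).symm
    refine ⟨e a, e b, ?_⟩
    have := congrArg (Subgroup.map e.toMonoidHom) hab
    rw [MonoidHom.map_closure, Set.image_pair, Subgroup.map_top_of_surjective _ e.surjective] at this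
    exact this
  intro m hm
  rcases (show m = 2 ∨ m = 3 ∨ 4 ≤ m by omega) with rfl | rfl | h4
  · obtain ⟨ω, hgen, hspan, -, -⟩ := exists_sl_two_pres F
    refine ⟨symGen ω 0, symGen ω 1, ?_⟩
    rw [← closure_symGen hgen hspan]
    congr 1
    ext z
    simp [Set.mem_range, Fin.exists_fin_two, eq_comm]
  · obtain ⟨a, g, -, -, h⟩ := Cfsg.Agent.S2278.result (F := F)
    exact ⟨_, _, h⟩
  · obtain ⟨⟨a, b, -, -, h⟩, -⟩ := Cfsg.Agent.S2279.result (F := F) m h4
    exact ⟨_, _, h⟩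

/-- Relators gluing a long root `SL₂` to `SL`. -/
theorem pres_sp {n : ℕ} (hn : 3 ≤ n) {ω : Fˣ} (hgen : ∀ t : F, t ≠ 0 → ∃ k : ℕ, (ω : F) ^ k = t)
    (hspan : ∀ S : AddSubgroup F, (1 : F) ∈ S → (∀ t ∈ S, (ω : F) ^ 2 * t ∈ S) → ∀ t, t ∈ S)
    {r2 : ℕ} (hP2 : Pres (ShortPres.slGen ω) r2) (hc2 : Subgroup.closure (Set.range (ShortPres.slGen ω)) = ⊤)
    {ι : Type} {N : ι → SLg (Fin n) F} {rS : ℕ} (hP1 : Pres N rS) (hc1 : Subgroup.closure (Set.range N) = ⊤) :
    ∃ (l : Fin n) (g : ℕ), g ≤ (if Fintype.card F < 4 then 13 else 8) ∧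
      Pres (Sum.elim (fun i => (SpStd.theta (N i) : SpStd.SpG n F))
        (fun i => SpStd.long l (ShortPres.slGen ω i))) (rS + r2 + g) ∧
      Subgroup.closure (Set.range (Sum.elim (fun i => (SpStd.theta (N i) : SpStd.SpG n F))
        (fun i => SpStd.long l (ShortPres.slGen ω i)))) = ⊤ := by
  classical
  obtain ⟨j, rfl⟩ : ∃ j, n = j + 3 := ⟨n - 3, by omega⟩
  let l : Fin (j + 3) := 0
  let o : Fin (j + 3) := 1
  have ho : o ≠ l := by simp [o, l]
  obtain ⟨a, b, hab⟩ := exists_two_gens F (Fin (j + 3)) (by simp)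
  obtain ⟨a', b', hab'⟩ := exists_two_gens F {m : Fin (j + 3) // m ≠ l}
    (by simp [Fintype.card_subtype_compl])
  have hgs : Subgroup.closure {g | g ∈ [a, b]} = ⊤ := by simpa [List.mem_cons, Set.insert_def] using hab
  have hgs' : ∀ g ∈ [SubE l a', SubE l b'], g ∈ fx l := by
    simp [SubE_mem_fx]
  have hgs'2 : fx l ≤ Subgroup.closure {g : SLg (Fin (j + 3)) F | g ∈ [SubE l a', SubE l b']} := by
    intro g hg
    obtain ⟨g', rfl⟩ := SubE_surj l hg
    have hg' : g' ∈ Subgroup.closure ({a', b'} : Set (SLg {m : Fin (j + 3) // m ≠ l} F)) := hab' ▸ Subgroup.mem_top g'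
    have := Subgroup.mem_map_of_mem (SubE l) hg'
    rw [MonoidHom.map_closure, Set.image_pair] at this
    refine Subgroup.closure_mono ?_ this
    rintro x (rfl | rfl) <;> simp
  obtain ⟨ks, ps, hks, hps, hlen⟩ : ∃ (ks : List (SLtwo F)) (ps : List (SLtwo F × SLtwo F)),
      Subgroup.closure (insert (SL2.diag ω) {k | k ∈ ks}) = ⊤ ∧
      (∀ x ∈ ks, ∀ y ∈ ks, (x, y) ∈ ps ∨ (y, x) ∈ ps) ∧
      2 + 2 * ks.length + ks.length + ps.length + 2 ≤ (if Fintype.card F < 4 then 13 else 8) := by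
    by_cases hq : Fintype.card F < 4
    · refine ⟨[weyl, upper 1 * weyl], [(weyl, weyl), (weyl, upper 1 * weyl), (upper 1 * weyl, upper 1 * weyl)],
        ?_, by simp, by simp [hq]⟩
      rw [eq_top_iff, ← closure_weyl_uw hq hgen]
      exact Subgroup.closure_mono fun x hx => Or.inr (by simpa using hx)
    · refine ⟨[upper 1 * weyl], [(upper 1 * weyl, upper 1 * weyl)], ?_, by simp, by simp [hq]⟩
      rw [eq_top_iff, ← closure_diag_uw (not_lt.1 hq) hgen hspan]
      exact Subgroup.closure_mono fun x hx => by simpa using hx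
  let φ₁ : SLg (Fin (j + 3)) F →* SpStd.SpG (j + 3) F := SpStd.theta
  let φ₂ : SLtwo F →* SpStd.SpG (j + 3) F := SpStd.long l
  let L : SLg (Fin (j + 3)) F → FreeGroup (SLg (Fin (j + 3)) F ⊕ SLtwo F) := fun x => FreeGroup.of (Sum.inl x)
  let R : SLtwo F → FreeGroup (SLg (Fin (j + 3)) F ⊕ SLtwo F) := fun x => FreeGroup.of (Sum.inr x)
  let gl := relList ω ho [a, b] [SubE l a', SubE l b'] ks ps L R
  have ev : ∀ {X : Type _} [Group X] (A : SLg (Fin (j + 3)) F →* X) (B : SLtwo F →* X),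
      gl.map (glueEval A B) = relList ω ho [a, b] [SubE l a', SubE l b'] ks ps A B := by
    intro X _ A B
    rw [map_relList]
    simp only [L, R, glueEval_inl, glueEval_inr]
  have hgl : ∀ r ∈ gl, glueEval φ₁ φ₂ r = 1 := by
    intro r hr
    have := List.mem_map_of_mem (f := glueEval φ₁ φ₂) hr
    rw [ev] at this
    exact relList_of_rels (SpStd.rels l) ω ho _ hgs' ks ps _ this
  have htop : φ₁.range ⊔ φ₂.range = ⊤ := SpStd.sup_eq_top ho
  refine ⟨l, gl.length, ?_, combine hP1 hc1 hP2 hc2 φ₁ φ₂ gl hgl (recon_of_card φ₁ φ₂ htop gl hgl ?_),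
    range_sum_elim hc1 hc2 φ₁ φ₂ htop⟩
  · rw [length_relList]
    simpa using hlen
  · intro G _ A B hG hsup
    have hrel : ∀ r ∈ relList ω ho [a, b] [SubE l a', SubE l b'] ks ps A B, r = 1 := fun r hr => by
      rw [← ev] at hr
      obtain ⟨r', hr', rfl⟩ := List.mem_map.1 hr
      exact hG r' hr'
    have R' := rels_of_relList hgen hspan ho hgs hgs' hgs'2 hks hps hrel
    obtain ⟨hf, hc⟩ := bound (j + 2) (Fin (j + 3)) l G A B (by simp) R' hsup
    refine ⟨hf, hc.trans (le_of_eq ?_)⟩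
    rw [spBound, Classical.natCard_symplecticGroup, Nat.card_eq_fintype_card]

/-- `SL` on `j + 4` points relabelled. -/
noncomputable def slEquiv (j : ℕ) : SLg (Pt j) F ≃* SLg (Fin (j + 4)) F :=
  SLStd.reindexSLGroup (finSumFinEquiv : Pt j ≃ Fin (j + 4))

theorem pres_sp_six {n : ℕ} (hn : 6 ≤ n) :
    ∃ N : Fin 10 → SpStd.SpG n F, Pres N 58 ∧ Subgroup.closure (Set.range N) = ⊤ := by
  classical
  obtain ⟨j, rfl⟩ : ∃ j, n = j + 4 := ⟨n - 4, by omega⟩
  have hj : 2 ≤ j := by omega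
  obtain ⟨ω, hgen, hspan, ⟨r2, hr8, hr5, hP2⟩, hc2⟩ := exists_sl_two_pres F
  have T : SLGlue.Setting (F := F) ω := ⟨hgen, hspan⟩
  obtain ⟨Na, hPa, hca, c, -, -⟩ := pres_alt_five (m := j + 2) (by omega)
  obtain ⟨p, hp⟩ := Pt.exists_stabGens (j := j) (by omega)
  obtain ⟨hS, hcS⟩ := pres_sl_glue j T (closure_symGen hgen hspan) (flipJ_symGen ω) hP2 hc2 hPa hca c hp
    [(Pt.q2, Pt.q3)] (by simp [Pt.Ori])
    (fun ρ ψ S0 h23 ho => SLGlue.base_of_one T ρ ψ S0 hj h23 (ho _ List.mem_cons_self))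
  set e := slEquiv F j
  obtain ⟨l, g, hg, hP, hc⟩ := pres_sp F (n := j + 4) (by omega) hgen hspan hP2 hc2 (hS.map_equiv e)
    (closure_map_range (f := e.toMonoidHom) hcS e.surjective)
  set M := Sum.elim (fun i => (SpStd.theta (e (Sum.elim (fun i => (SLStd.permHom (Na i) : SLg (Pt j) F))
      (fun i => SLStd.emb (Pt.ne01 (j := j)) (ShortPres.slGen ω i)) i)) : SpStd.SpG (j + 4) F))
    (fun i => SpStd.long l (ShortPres.slGen ω i)) with hM
  set i₀ : (((Fin 3 ⊕ {b : Fin 3 // b ≠ 0}) ⊕ Fin 3) ⊕ Fin 3) := Sum.inl (Sum.inr 2)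
  have hdrop := closure_drop hc i₀ (by
    set K := Subgroup.closure (Set.range fun i : {i // i ≠ i₀} => M i.1)
    let f : SLg (Pt j) F →* SpStd.SpG (j + 4) F := SpStd.theta.comp e.toMonoidHom
    have hperm : ∀ σ, f (SLStd.permHom σ) ∈ K := by
      intro σ
      have h1 : Subgroup.closure (Set.range Na) ≤ K.comap (f.comp SLStd.permHom) := by
        rw [Subgroup.closure_le]
        rintro _ ⟨i, rfl⟩
        exact Subgroup.subset_closure ⟨⟨Sum.inl (Sum.inl i), by simp [i₀]⟩, rfl⟩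
      rw [hca] at h1
      exact h1 (Subgroup.mem_top σ)
    have hu : f (SLStd.emb Pt.ne01 (upper 1)) ∈ K := by
      have : f (SLStd.emb Pt.ne01 (ShortPres.slGen ω 0)) ∈ K :=
        Subgroup.subset_closure ⟨⟨Sum.inl (Sum.inr 0), by simp [i₀]⟩, rfl⟩
      simpa [ShortPres.slGen_zero] using this
    have hl : f (SLStd.emb Pt.ne01 (lower 1)) ∈ K := by
      rw [← (base_std (j := j) ω).flip_u, map_mul, map_mul, map_inv]
      exact mul_mem (mul_mem (hperm _) hu) (inv_mem (hperm _))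
    have e1 : M i₀ = f (SLStd.emb Pt.ne01 (upper 1 * (lower 1)⁻¹ * upper 1)) := by
      have : (weyl : SLtwo F) = upper 1 * (lower 1)⁻¹ * upper 1 := by
        apply ext_entries <;> simp [mul_00, mul_01, mul_10, mul_11, inv_00, inv_01, inv_10, inv_11]
      rw [← this]
      simp [hM, i₀, f, ShortPres.slGen_two]
    show M i₀ ∈ K
    rw [e1]
    simp only [map_mul, map_inv]
    exact mul_mem (mul_mem hu (inv_mem hl)) hu)
  obtain ⟨N', h', hc'⟩ := Pres.exists_fin 0 (hP.restrict (f := fun i : {i // i ≠ i₀} => i.1) Subtype.val_injective hdrop)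
    hdrop 10 (by simp [Fintype.card_subtype_compl])
  refine ⟨N', h'.mono ?_, hc'⟩
  simp only [List.length_cons, List.length_nil]
  split_ifs at hg with hq
  · have := hr5 hq; omega
  · omega

theorem pres_sp_four_five {n : ℕ} (hn : n = 4 ∨ n = 5) :
    ∃ (ι : Type) (_ : Fintype ι) (N : ι → SpStd.SpG n F), Fintype.card ι ≤ 9 ∧
      Pres N (49 + Fintype.card ι - 4) ∧ Subgroup.closure (Set.range N) = ⊤ := by
  classical
  obtain ⟨j, rfl⟩ : ∃ j, n = j + 4 := ⟨n - 4, by omega⟩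
  obtain ⟨ω, hgen, hspan, ⟨r2, hr8, hr5, hP2⟩, hc2⟩ := exists_sl_two_pres F
  have T : SLGlue.Setting (F := F) ω := ⟨hgen, hspan⟩
  have hA : ∃ rA, (j = 0 → rA ≤ 3) ∧ (j = 1 → rA ≤ 6) ∧ Pres (cyc : Fin (j + 2) → Alt2 (Fin (j + 2))) rA := by
    rcases (show j = 0 ∨ j = 1 by omega) with rfl | rfl
    · exact ⟨3, by simp, by simp, pres_carm_two⟩
    · exact ⟨6, by simp, by simp, pres_carm_three⟩
  obtain ⟨rA, hA0, hA1, hPa⟩ := hA
  obtain ⟨ss, hss, hlen⟩ : ∃ ss : List (Alt2 (Fin (j + 2)) × Bool), Pt.StabGens ss ∧ ss.length ≤ j := by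
    rcases Nat.eq_zero_or_pos j with rfl | hj
    · exact ⟨[], Pt.stabGens_nil, by simp⟩
    · obtain ⟨p, hp⟩ := Pt.exists_stabGens hj
      exact ⟨[p], hp, hj⟩
  obtain ⟨hS, hcS⟩ := pres_sl_glue j T (closure_symGen hgen hspan) (flipJ_symGen ω) hP2 hc2 hPa closure_cyc
    0 hss [(Pt.q2, Pt.q3), (Pt.q3, Pt.q2)] (by simp [Pt.Ori])
    (fun ρ ψ S0 h23 ho => ⟨S0, h23, fun x y hxy => by
      rcases hxy with ⟨rfl, rfl⟩ | ⟨rfl, rfl⟩
      · exact ho (Pt.q2, Pt.q3) (by simp)
      · exact ho (Pt.q3, Pt.q2) (by simp)⟩)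
  set e := slEquiv F j
  obtain ⟨l, g, hg, hP, hc⟩ := pres_sp F (n := j + 4) (by omega) hgen hspan hP2 hc2 (hS.map_equiv e)
    (closure_map_range (f := e.toMonoidHom) hcS e.surjective)
  refine ⟨_, inferInstance, _, ?_, hP.mono ?_, hc⟩
  · simp [Fintype.card_sum]; omega
  simp only [List.length_cons, List.length_nil, Fintype.card_sum, Fintype.card_fin]
  split_ifs at hg with hq
  · have := hr5 hq; omega
  · omega

theorem pres_sp_three : ∃ N : Fin 8 → SpStd.SpG 3 F, Pres N 52 ∧ Subgroup.closure (Set.range N) = ⊤ := by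
  classical
  obtain ⟨ω, hgen, hspan, ⟨r2, hr8, hr5, hP2⟩, hc2⟩ := exists_sl_two_pres F
  obtain ⟨R, hR, ⟨e⟩⟩ := SLThree.presented_sl_three F
  obtain ⟨hS, hcS⟩ := Pres.of_presented hR e
  obtain ⟨l, g, hg, hP, hc⟩ := pres_sp F (n := 3) le_rfl hgen hspan hP2 hc2 hS hcS
  obtain ⟨N', h', hc'⟩ := Pres.exists_fin 1 hP hc 8 (by simp)
  refine ⟨N', h'.mono ?_, hc'⟩
  split_ifs at hg <;> omega

theorem pres_sp_ten {n : ℕ} (hn : 4 ≤ n) :
    ∃ N : Fin 10 → SpStd.SpG n F, Pres N 58 ∧ Subgroup.closure (Set.range N) = ⊤ := by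
  rcases (show (n = 4 ∨ n = 5) ∨ 6 ≤ n by omega) with h | h
  · obtain ⟨ι, hι, N, hcard, hP, hc⟩ := pres_sp_four_five F h
    obtain ⟨N', h', hc'⟩ := Pres.exists_fin (10 - Fintype.card ι) hP hc 10 (by omega)
    exact ⟨N', h'.mono (by omega), hc'⟩
  · exact pres_sp_six F h

theorem pres_sp_nine {n : ℕ} (hn : n = 4 ∨ n = 5) :
    ∃ N : Fin 9 → SpStd.SpG n F, Pres N 57 ∧ Subgroup.closure (Set.range N) = ⊤ := by
  obtain ⟨ι, hι, N, hcard, hP, hc⟩ := pres_sp_four_five F hn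
  obtain ⟨N', h', hc'⟩ := Pres.exists_fin (9 - Fintype.card ι) hP hc 9 (by omega)
  exact ⟨N', h'.mono (by omega), hc'⟩

theorem pres_center_quotient {H : Type u} [Group H] [IsCyclic (Subgroup.center H)] {ι : Type} {N : ι → H}
    {r : ℕ} (h : Pres N r) (hc : Subgroup.closure (Set.range N) = ⊤) :
    ∃ N' : ι → H ⧸ Subgroup.center H, Pres N' (r + 1) ∧ Subgroup.closure (Set.range N') = ⊤ := by
  obtain ⟨c, hcg⟩ := IsCyclic.exists_generator (α := Subgroup.center H)
  have hZ : Subgroup.center H ≤ Subgroup.zpowers (c : H) := fun z hz => by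
    obtain ⟨k, hk⟩ := hcg ⟨z, hz⟩
    exact ⟨k, by simpa using congrArg Subtype.val hk⟩
  exact ⟨_, h.quotient hc (Subgroup.center H) c c.2 hZ,
    closure_map_range (f := QuotientGroup.mk' (Subgroup.center H)) hc (QuotientGroup.mk'_surjective _)⟩

/-- One more relator for the projective group. -/
theorem pres_psp {n : ℕ} (hn : 1 ≤ n) {ι : Type} {N : ι → SpStd.SpG n F} {r : ℕ} (h : Pres N r)
    (hc : Subgroup.closure (Set.range N) = ⊤) :
    ∃ N' : ι → Cfsg.PSp n F, Pres N' (r + 1) ∧ Subgroup.closure (Set.range N') = ⊤ := by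
  have hcard := Classical.natCard_center_symplecticGroup (F := F) n hn
  have : IsCyclic (Subgroup.center (Matrix.symplecticGroup (Fin n) F)) :=
    isCyclic_of_card_dvd_prime (p := 2) (hcard ▸ Nat.gcd_dvd_left _ _)
  exact pres_center_quotient (H := Matrix.symplecticGroup (Fin n) F) h hc

end SpGlue

end Cfsg.Agent.Lib.BoundedPresentation
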